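import Cfsg.Agent.Lib.Janko3.Sylow

/-!
Matrix codes as elements of the central quotient of the triple cover.
-/

set_option autoImplicit false
set_option linter.unusedSectionVars false

namespace CfsgLib.Janko3

open Cfsg Cfsg.Spor Matrix Subgroup

/-- Equality of matrix codes up to a scalar. -/
def same (a b : ℕ) : Bool :=
  Nat.beq a b || Nat.beq a (mul (scal 2) b) || Nat.beq a (mul (scal 3) b)

theorem mul_lt (M N : ℕ) : mul M N < 2 ^ 162 := by
  have h : ∀ i : ℕ, rowMul (row M i) N < 2 ^ 18 := fun i =>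
    Nat.and_le_right.trans_lt (by norm_num)
  have hs : ∀ i k : ℕ, k + 18 ≤ 162 → rowMul (row M i) N <<< k < 2 ^ 162 := fun i k hk => by
    rw [Nat.shiftLeft_eq]
    calc rowMul (row M i) N * 2 ^ k < 2 ^ 18 * 2 ^ k := Nat.mul_lt_mul_of_pos_right (h i) (by positivity)
      _ ≤ 2 ^ 162 := by rw [← pow_add]; exact Nat.pow_le_pow_right two_pos (by omega)
  unfold mul pack
  refine Nat.or_lt_two_pow (Nat.or_lt_two_pow (Nat.or_lt_two_pow (Nat.or_lt_two_pow
    (Nat.or_lt_two_pow (Nat.or_lt_two_pow (Nat.or_lt_two_pow (Nat.or_lt_two_pow ?_ ?_) ?_) ?_) ?_)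
      ?_) ?_) ?_) ?_
  · exact (h 0).trans (by norm_num)
  all_goals exact hs _ _ (by norm_num)

variable {F : Type*} [Field F] {ω : F}

/-- A code of bounded size of a member of the group. -/
def Good (F : Type*) [Field F] (ω : F) (c : ℕ) : Prop := Mem F ω c ∧ c < 2 ^ 162

variable (hf : Field4 F ω)
include hf

theorem good_mul {a b : ℕ} (ha : Good F ω a) (hb : Good F ω b) :
    Good F ω (mul a b) ∧ qEl F ω (mul a b) = qEl F ω a * qEl F ω b :=
  ⟨⟨(qEl_mul hf ha.1 hb.1).1, mul_lt a b⟩, (qEl_mul hf ha.1 hb.1).2⟩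

theorem qEl_mul' {a b : ℕ} (ha : Good F ω a) (hb : Good F ω b) :
    qEl F ω (mul a b) = qEl F ω a * qEl F ω b := (qEl_mul hf ha.1 hb.1).2

theorem good_dc (e : ℕ) : Good F ω (dcVal e) := ⟨mem_dcVal hf rfl, mul_lt _ _⟩

theorem good_one : Good F ω one ∧ qEl F ω one = 1 :=
  ⟨⟨(qEl_one hf).1, by decide +kernel⟩, (qEl_one hf).2⟩

theorem good_scal {c : ℕ} (hc : c ∈ [1, 2, 3]) : Good F ω (scal c) ∧ qEl F ω (scal c) = 1 := by
  obtain ⟨k, hk, e⟩ := gl_scal hf hc
  have h := check_misc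
  simp only [Bool.and_eq_true] at h
  have h' := List.all_eq_true.1 h.1.2 c hc
  rw [List.any_eq_true] at h'
  obtain ⟨k', hk', e'⟩ := h'
  rw [List.mem_range] at hk'
  have hkc := beq_eq e'
  have hlt : ∀ c ∈ [1, 2, 3], scal c < 2 ^ 162 := by decide +kernel
  have hm : gl F ω (scal c) ∈ GG F ω := hkc ▸ HH_le_GG hf (kEl_mem hf hk')
  have hu : IsUnit (dec F ω (scal c)) := hkc ▸ unit_kEl hf hk'
  refine ⟨⟨⟨hu, hm⟩, hlt c hc⟩, ?_⟩
  rw [qEl, dif_pos hm, QuotientGroup.eq_one_iff, Subgroup.mem_center_iff]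
  intro g
  refine Subtype.ext (Units.ext ?_)
  have hs : dec F ω (scal c) = el F ω (c.testBit 0) (c.testBit 1) • (1 : Matrix F9 F9 F) := by
    have h3 : ∀ c ∈ [1, 2, 3], ∀ i < 9,
        (cond (Nat.beq c 1) 87381 (cond (Nat.beq c 2) 174762 262143)).testBit (2 * i) = c.testBit 0 ∧
        (cond (Nat.beq c 1) 87381 (cond (Nat.beq c 2) 174762 262143)).testBit (2 * i + 1) =
          c.testBit 1 := by decide
    rw [scal, dec_diag, Matrix.smul_one_eq_diagonal]
    congr 1
    funext z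
    rw [vdec, ent, (h3 c hc _ (ix_lt z)).1, (h3 c hc _ (ix_lt z)).2]
  simp only [Subgroup.coe_mul, Units.val_mul, gl_coe hf hu, hs, Matrix.mul_smul, Matrix.smul_mul,
    Matrix.mul_one, Matrix.one_mul]

/-- Codes equal up to a scalar give the same element. -/
theorem qEl_same {a b : ℕ} (hb : Good F ω b) (h : same a b = true) : qEl F ω a = qEl F ω b := by
  simp only [same, Bool.or_eq_true] at h
  rcases h with (h | h) | h
  · rw [beq_eq h]
  · have h2 := good_scal hf (show 2 ∈ [1, 2, 3] by simp)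
    rw [beq_eq h, qEl_mul' hf h2.1 hb, h2.2, one_mul]
  · have h2 := good_scal hf (show 3 ∈ [1, 2, 3] by simp)
    rw [beq_eq h, qEl_mul' hf h2.1 hb, h2.2, one_mul]

/-- Equal elements have codes equal up to a scalar. -/
theorem same_of_qEl [Fintype F] (hF : Fintype.card F = 4) {a b : ℕ} (ha : Good F ω a)
    (hb : Good F ω b) (h : qEl F ω a = qEl F ω b) : same a b = true := by
  have h1 : (⟨gl F ω b, hb.1.2⟩ : GG F ω)⁻¹ * ⟨gl F ω a, ha.1.2⟩ ∈ Subgroup.center (GG F ω) := by
    rw [qEl, dif_pos ha.1.2, qEl, dif_pos hb.1.2] at h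
    exact QuotientGroup.eq.1 h.symm
  obtain ⟨x, hx⟩ := center_scalar hf (mul_mem (inv_mem hb.1.2) ha.1.2) fun g hg =>
    (congrArg Subtype.val (Subgroup.mem_center_iff.1 h1 ⟨g, hg⟩)).symm
  have hab : dec F ω a = x • dec F ω b := by
    have e : (gl F ω a : Matrix F9 F9 F) = gl F ω b * ((gl F ω b)⁻¹ * gl F ω a : GL F9 F) := by
      rw [← Units.val_mul, mul_inv_cancel_left]
    rw [hx, Matrix.mul_smul, Matrix.mul_one] at e
    rw [← gl_coe hf ha.1.1, e, gl_coe hf hb.1.1]
  simp only [same, Bool.or_eq_true]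
  have hx0 : x ≠ 0 := by
    rintro rfl
    rw [zero_smul] at hab
    exact ha.1.1.ne_zero hab
  have key : ∀ c ∈ [2, 3], el F ω (c.testBit 0) (c.testBit 1) = x → a = mul (scal c) b := by
    intro c hc e
    have hc' : c ∈ [1, 2, 3] := List.mem_cons_of_mem _ hc
    refine code_eq_of_dec hf.two hf.omega ha.2 (mul_lt _ _) ?_
    have h3 : ∀ c ∈ [1, 2, 3], ∀ i < 9,
        (cond (Nat.beq c 1) 87381 (cond (Nat.beq c 2) 174762 262143)).testBit (2 * i) = c.testBit 0 ∧
        (cond (Nat.beq c 1) 87381 (cond (Nat.beq c 2) 174762 262143)).testBit (2 * i + 1) =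
          c.testBit 1 := by decide
    have hs : dec F ω (scal c) = x • (1 : Matrix F9 F9 F) := by
      rw [scal, dec_diag, Matrix.smul_one_eq_diagonal]
      congr 1
      funext z
      rw [vdec, ent, (h3 c hc' _ (ix_lt z)).1, (h3 c hc' _ (ix_lt z)).2, e]
    rw [dec_mul hf.two hf.omega, hs, Matrix.smul_mul, Matrix.one_mul, hab]
  rcases four_elements hF hf x with e | e | e | e
  · exact absurd e hx0
  · left; left
    have : a = b := code_eq_of_dec hf.two hf.omega ha.2 hb.2 (by rw [hab, e, one_smul])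
    rw [this]; exact Nat.beq_refl _
  · left; right
    rw [← key 2 (by simp) (by simp [el, bits, e])]; exact Nat.beq_refl _
  · right
    rw [← key 3 (by simp) (by simp [el, bits, e, add_comm])]; exact Nat.beq_refl _

theorem qEl_ne [Fintype F] (hF : Fintype.card F = 4) {a b : ℕ} (ha : Good F ω a)
    (hb : Good F ω b) (h : same a b = false) : qEl F ω a ≠ qEl F ω b := fun e => by
  rw [same_of_qEl hf hF ha hb e] at h
  cases h

theorem card_QQ [Fintype F] (hF : Fintype.card F = 4) : Nat.card (QQ F ω) = 50232960 := by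
  have h := Subgroup.card_eq_card_quotient_mul_card_subgroup (Subgroup.center (GG F ω))
  rw [card_GG hf, card_center hf hF] at h
  have h' : Nat.card (QQ F ω) * 3 = 150698880 := h.symm
  omega

/-- The central quotient is generated by the images of the generators. -/
theorem qEl_top [Finite F] {K : Subgroup (QQ F ω)} (hh : ∀ i < 6, qEl F ω (hGen i) ∈ K)
    (h1 : qEl F ω gen1 ∈ K) : K = ⊤ := by
  rw [eq_top_iff]
  rintro x -
  obtain ⟨⟨g, hg⟩, rfl⟩ := QuotientGroup.mk_surjective x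
  let P : Subgroup (GL F9 F) := (K.comap (QuotientGroup.mk' _)).map (GG F ω).subtype
  have hle : GG F ω ≤ P := by
    have hgen : ∀ c, (hc : gl F ω c ∈ GG F ω) → qEl F ω c ∈ K → gl F ω c ∈ P := by
      intro c hc h
      rw [qEl, dif_pos hc] at h
      exact Subgroup.mem_map.2 ⟨⟨_, hc⟩, h, rfl⟩
    refine (Subgroup.closure_le _).2 ?_
    rintro y (hy | hy)
    · refine (show HH F ω ≤ P from (Subgroup.closure_le _).2 ?_) hy
      rintro _ ⟨i, hi, rfl⟩
      exact hgen _ (HH_le_GG hf (hGen_mem hf hi)) (hh i hi)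
    · rw [Set.mem_singleton_iff] at hy
      subst hy
      exact hgen _ (gen1_mem hf) h1
  obtain ⟨⟨y, hy⟩, hyK, e⟩ := Subgroup.mem_map.1 (hle hg)
  obtain rfl : y = g := e
  exact hyK

end CfsgLib.Janko3
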