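import Cfsg.Agent.Lib.Janko3.CosetTable
import Cfsg.Agent.Lib.Janko3.QuotientCode

/-!
Certified tables of cosets in the third Janko group.
-/

set_option autoImplicit false
set_option linter.unusedSectionVars false

namespace CfsgLib.Janko3

open Cfsg Cfsg.Spor Matrix Subgroup

/-- A table of cosets with generators. -/
structure Tab where
  els : List ℕ
  elDec : List ℕ
  gens : List ℕ
  genDec : List ℕ
  step : List ℕ
  back : List ℕ
  par : List ℕ

namespace Tab

variable (T : Tab)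

/-- The number of cosets. -/
def n : ℕ := T.els.length

/-- The number of generators. -/
def m : ℕ := T.gens.length

/-- A representative. -/
def el (i : ℕ) : ℕ := T.els.getD i one

/-- A generator. -/
def gen (g : ℕ) : ℕ := T.gens.getD g one

/-- The index after a step. -/
def next (i g : ℕ) : ℕ := T.step.getD (i * T.m + g) 0 % T.n

/-- The index before a step. -/
def prev (i g : ℕ) : ℕ := T.back.getD (i * T.m + g) 0

/-- Representatives and generators are members. -/
def okGood : Bool :=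
  ((List.range T.n).all fun i => Nat.beq (T.el i) (dcVal (T.elDec.getD i 0))) &&
  ((List.range T.m).all fun g => Nat.beq (T.gen g) (dcVal (T.genDec.getD g 0)))

/-- The steps are right. -/
def okStep (nb : ℕ) (bc : ℕ → ℕ) : Bool :=
  (List.range T.n).all fun i => (List.range T.m).all fun g =>
    Nat.blt (T.step.getD (i * T.m + g) 0 / T.n) nb &&
    same (mul (T.el i) (T.gen g))
      (mul (bc (T.step.getD (i * T.m + g) 0 / T.n)) (T.el (T.next i g))) &&
    Nat.blt (T.prev i g) T.n && Nat.beq (T.next (T.prev i g) g) i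

/-- The tree and the distinctness of the base coset. -/
def okTree (nb : ℕ) (bc : ℕ → ℕ) : Bool :=
  Nat.blt 0 T.n && Nat.beq (T.el 0) one &&
  (List.range T.n).all fun i => Nat.beq i 0 ||
    (Nat.blt (T.par.getD i 0 / T.m) i && Nat.blt (T.par.getD i 0 % T.m) T.m &&
      Nat.beq (T.next (T.par.getD i 0 / T.m) (T.par.getD i 0 % T.m)) i &&
      (List.range nb).all fun b => !same (T.el i) (bc b))

/-- A completely checked table. -/
def ok (nb : ℕ) (bc : ℕ → ℕ) : Bool := T.okGood && T.okStep nb bc && T.okTree nb bc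

variable {T} {F : Type*} [Field F] {ω : F} (hf : Field4 F ω)
include hf

omit hf in
/-- The group generated by the generators of a table. -/
noncomputable def grp (T : Tab) (F : Type*) [Field F] (ω : F) : Subgroup (QQ F ω) :=
  Subgroup.closure ((fun g => qEl F ω (T.gen g)) '' Set.Iio T.m)

theorem good (h : T.okGood = true) (i : ℕ) : Good F ω (T.el i) ∧ Good F ω (T.gen i) := by
  simp only [okGood, Bool.and_eq_true] at h
  constructor
  · by_cases hi : i < T.n
    · rw [beq_eq (of_all h.1 hi)]; exact good_dc hf _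
    · rw [el, List.getD_eq_default _ _ (by simpa [n] using hi)]; exact (good_one hf).1
  · by_cases hi : i < T.m
    · rw [beq_eq (of_all h.2 hi)]; exact good_dc hf _
    · rw [gen, List.getD_eq_default _ _ (by simpa [m] using hi)]; exact (good_one hf).1

theorem gen_mem (g : ℕ) (hg : g < T.m) : qEl F ω (T.gen g) ∈ T.grp F ω :=
  Subgroup.subset_closure ⟨g, hg, rfl⟩

/-- The content of a checked table. -/
theorem spec [Fintype F] (hF : Fintype.card F = 4) {nb : ℕ} {bc : ℕ → ℕ} {B : Subgroup (QQ F ω)}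
    (hbc : ∀ b < nb, Good F ω (bc b)) (hB : ∀ x, x ∈ B ↔ ∃ b < nb, qEl F ω (bc b) = x)
    (hle : B ≤ T.grp F ω) (h : T.ok nb bc = true) :
    (∀ i < T.n, qEl F ω (T.el i) ∈ T.grp F ω) ∧
    (∀ x, x ∈ T.grp F ω ↔ ∃ i < T.n, ∃ b < nb, qEl F ω (bc b) * qEl F ω (T.el i) = x) ∧
    Nat.card (T.grp F ω) = T.n * Nat.card B := by
  simp only [ok, Bool.and_eq_true] at h
  obtain ⟨⟨hg, hs⟩, ht⟩ := h
  simp only [okTree, Bool.and_eq_true] at ht
  obtain ⟨⟨ht0, ht1⟩, ht2⟩ := ht
  have gd := fun i => good hf hg i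
  have hst : ∀ i < T.n, ∀ g < T.m, T.next i g < T.n ∧
      qEl F ω (T.el i) * qEl F ω (T.gen g) * (qEl F ω (T.el (T.next i g)))⁻¹ ∈ B := by
    intro i hi g hg'
    have h' := of_all (of_all hs hi) hg'
    simp only [Bool.and_eq_true, Nat.blt_eq] at h'
    obtain ⟨⟨⟨hb, he⟩, -⟩, -⟩ := h'
    refine ⟨Nat.mod_lt _ (Nat.le_of_ble_eq_true ht0), (hB _).2 ⟨_, hb, ?_⟩⟩
    rw [← qEl_mul' hf (gd i).1 (gd g).2, qEl_same hf (good_mul hf (hbc _ hb) (gd _).1).1 he,
      qEl_mul' hf (hbc _ hb) (gd _).1, mul_inv_cancel_right]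
  have hbk : ∀ i < T.n, ∀ g < T.m, T.prev i g < T.n ∧ T.next (T.prev i g) g = i := by
    intro i hi g hg'
    have h' := of_all (of_all hs hi) hg'
    simp only [Bool.and_eq_true, Nat.blt_eq] at h'
    exact ⟨h'.1.2, beq_eq h'.2⟩
  have hpar : ∀ i < T.n, i ≠ 0 → T.par.getD i 0 / T.m < i ∧ T.par.getD i 0 % T.m < T.m ∧
      T.next (T.par.getD i 0 / T.m) (T.par.getD i 0 % T.m) = i := by
    intro i hi h0
    have h' := of_all ht2 hi
    simp only [Bool.or_eq_true, Bool.and_eq_true, Nat.blt_eq] at h'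
    obtain ⟨⟨⟨hp, hg'⟩, he⟩, -⟩ := h'.resolve_left fun e => h0 (beq_eq e)
    exact ⟨hp, hg', beq_eq he⟩
  have hne : ∀ i < T.n, qEl F ω (T.el i) ∈ B → i = 0 := by
    intro i hi hm
    by_contra h0
    have h' := of_all ht2 hi
    simp only [Bool.or_eq_true, Bool.and_eq_true] at h'
    obtain ⟨b, hb, e⟩ := (hB _).1 hm
    have := of_all (h'.resolve_left fun e => h0 (beq_eq e)).2 hb
    rw [same_of_qEl hf hF (gd i).1 (hbc b hb) e.symm] at this
    exact absurd this (by decide)
  have hone : qEl F ω (T.el 0) = 1 := by rw [beq_eq ht1, (good_one hf).2]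
  obtain ⟨h1, -, h3, h4⟩ := coset_table B (fun i => qEl F ω (T.el i)) (fun g => qEl F ω (T.gen g))
    T.next T.prev (fun i => (T.par.getD i 0 / T.m, T.par.getD i 0 % T.m)) (n := T.n) (m := T.m)
    (Nat.le_of_ble_eq_true ht0) hst hbk hpar hone hne hle
  refine ⟨h1, fun x => ⟨fun hx => ?_, ?_⟩, h4⟩
  · obtain ⟨i, hi, hb⟩ := (h3 x).1 hx
    obtain ⟨b, hb', e⟩ := (hB _).1 hb
    exact ⟨i, hi, b, hb', by rw [e, inv_mul_cancel_right]⟩
  · rintro ⟨i, hi, b, hb, rfl⟩
    exact mul_mem (hle ((hB _).2 ⟨b, hb, rfl⟩)) (h1 i hi)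

omit hf in
/-- The trivial base subgroup. -/
def triv : ℕ → ℕ := fun _ => one

theorem spec_triv [Fintype F] (hF : Fintype.card F = 4) (h : T.ok 1 triv = true) :
    (∀ i < T.n, qEl F ω (T.el i) ∈ T.grp F ω) ∧
    (∀ x, x ∈ T.grp F ω ↔ ∃ i < T.n, qEl F ω (T.el i) = x) ∧
    Nat.card (T.grp F ω) = T.n := by
  obtain ⟨h1, h2, h3⟩ := spec hf hF (B := ⊥) (fun _ _ => (good_one hf).1)
    (fun x => by simp [triv, (good_one hf).2, eq_comm]) bot_le h
  refine ⟨h1, fun x => ?_, by simpa using h3⟩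
  rw [h2]
  simp [triv, (good_one hf).2]

end Tab

end CfsgLib.Janko3
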