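import Cfsg.Agent.Lib.Janko3.SL2SixteenChecks
import Cfsg.Agent.Lib.Janko3.Tab
import Cfsg.Agent.Lib.Janko3Out.Reps

/-!
A special linear group of degree two over 16 elements, extended by an outer involution, inside the
third Janko group.
-/

set_option autoImplicit false
set_option linter.unusedSectionVars false
set_option maxRecDepth 100000

namespace CfsgLib.Janko3SL

open Cfsg Subgroup
open CfsgLib.Janko3 (QQ qEl Mem Field4 mul one scal tabL qEl_mul qEl_one beq_eq of_all check_tabL
  Tab code_eq_of_dec)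
open CfsgLib.Janko3Out (word_spec one_lt)
open CfsgLib.KnownA.JankoThreeSchur (prodC scalEq scalEq_iff scal_mem mul_lt)
open CfsgLib.InvChar.Coset (force force_eq)
open scoped MatrixGroups

theorem okGood_tabL : tabL.okGood = true := by
  have h := check_tabL
  simp only [Tab.ok, Bool.and_eq_true] at h
  exact h.1.1

theorem sl_zero : slM (sl 0) = 1 := by
  have h := check_tree
  simp only [treeOK, Bool.and_eq_true] at h
  rw [beq_eq h.1.1]
  decide +kernel

theorem det_sl {i : ℕ} (hi : i < 4080) : (slM (sl i)).det = 1 := by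
  have h := check_tree
  simp only [treeOK, Bool.and_eq_true] at h
  have h1 := of_all h.2 hi
  simp only [Bool.and_eq_true] at h1
  have e := beq_eq h1.1.2
  rw [slM, Matrix.det_fin_two_of, mk16_mul, mk16_mul, sub_eq_add_neg, mk16_neg, mk16_add]
  simp only [Nat.mod_eq_of_lt (fm_lt _ _), Nat.mod_mod]
  rw [e]
  rfl

/-- The element of an index. -/
def slE (i : ℕ) : SL(2, F16) := if h : i < 4080 then ⟨slM (sl i), det_sl h⟩ else 1

theorem slE_coe {i : ℕ} (h : i < 4080) : ((slE i : SL(2, F16)) : Matrix (Fin 2) (Fin 2) F16) = slM (sl i) := by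
  simp [slE, h]

theorem slE_zero : slE 0 = 1 :=
  Subtype.ext ((slE_coe (by norm_num)).trans (sl_zero.trans rfl))

/-- The code of a matrix. -/
def codeOf (M : SL(2, F16)) : ℕ :=
  (M.1 0 0).v.val + 16 * (M.1 0 1).v.val + 256 * (M.1 1 0).v.val + 4096 * (M.1 1 1).v.val

/-- The index of a matrix. -/
def idx (M : SL(2, F16)) : ℕ := ent64 posTab (slKey (codeOf M))

theorem codeOf_parts (M : SL(2, F16)) : codeOf M % 16 = (M.1 0 0).v.val ∧
    codeOf M / 16 % 16 = (M.1 0 1).v.val ∧ codeOf M / 256 % 16 = (M.1 1 0).v.val ∧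
    codeOf M / 4096 % 16 = (M.1 1 1).v.val := by
  have := (M.1 0 0).v.isLt
  have := (M.1 0 1).v.isLt
  have := (M.1 1 0).v.isLt
  have := (M.1 1 1).v.isLt
  simp only [codeOf]
  refine ⟨?_, ?_, ?_, ?_⟩ <;> omega

theorem idx_spec (M : SL(2, F16)) : idx M < 4080 ∧ slE (idx M) = M := by
  obtain ⟨ea, eb, ec, ed⟩ := codeOf_parts M
  have hk : slKey (codeOf M) < 4096 := by
    simp only [slKey, cond_eq_ite, Nat.beq_eq]
    split_ifs <;> omega
  have h := check_key
  simp only [keyOK, force_eq] at h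
  have h1 := of_all h hk
  simp only [Bool.and_eq_true, Nat.blt_eq] at h1
  obtain ⟨hlt, h2⟩ := h1
  refine ⟨hlt, ?_⟩
  have hdet : M.1 0 0 * M.1 1 1 - M.1 0 1 * M.1 1 0 = 1 := by rw [← Matrix.det_fin_two]; exact M.2
  have hdet' : slM (sl (idx M)) 0 0 * slM (sl (idx M)) 1 1 -
      slM (sl (idx M)) 0 1 * slM (sl (idx M)) 1 0 = 1 := by
    rw [← Matrix.det_fin_two]; exact det_sl hlt
  have key : ∀ (p : ℕ) (a : F16), p = a.v.val → mk16 p = a := fun p a e => e ▸ mk16_val a
  set N := slM (sl (idx M)) with hN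
  have e00 : N 0 0 = mk16 (sl (idx M) % 16) := rfl
  have e01 : N 0 1 = mk16 (sl (idx M) / 16 % 16) := rfl
  have e10 : N 1 0 = mk16 (sl (idx M) / 256 % 16) := rfl
  have e11 : N 1 1 = mk16 (sl (idx M) / 4096 % 16) := rfl
  refine Subtype.ext ((slE_coe hlt).trans ?_)
  show N = M.1
  by_cases ha : (M.1 0 0).v.val = 0
  · have ha' : M.1 0 0 = 0 := by rw [← mk16_val (M.1 0 0), ha]; rfl
    have hb : (M.1 0 1).v.val ≠ 0 := fun hb => by
      have hb' : M.1 0 1 = 0 := by rw [← mk16_val (M.1 0 1), hb]; rfl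
      simp [ha', hb'] at hdet
    have hkey : slKey (codeOf M) = (M.1 0 1).v.val * 16 + (M.1 1 1).v.val := by
      rw [slKey, show Nat.beq (codeOf M % 16) 0 = true from by rw [Nat.beq_eq]; omega, cond_true]
      omega
    have := (M.1 1 1).v.isLt
    rw [hkey, show Nat.blt ((M.1 0 1).v.val * 16 + (M.1 1 1).v.val) 256 = true from by
      rw [Nat.blt_eq]; have := (M.1 0 1).v.isLt; omega, cond_true] at h2
    simp only [Bool.or_eq_true, Bool.and_eq_true, Nat.beq_eq] at h2
    have hidx : idx M = ent64 posTab ((M.1 0 1).v.val * 16 + (M.1 1 1).v.val) := by rw [idx, hkey]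
    rw [← hidx] at h2
    obtain ⟨⟨h3, h4⟩, h5⟩ := h2.resolve_left (by omega)
    have f00 : N 0 0 = M.1 0 0 := by rw [e00]; exact key _ _ (by omega)
    have f01 : N 0 1 = M.1 0 1 := by rw [e01]; exact key _ _ (by omega)
    have f11 : N 1 1 = M.1 1 1 := by rw [e11]; exact key _ _ (by omega)
    have f10 : N 1 0 = M.1 1 0 := by
      rw [f00, f01, f11] at hdet'
      have hb0 : M.1 0 1 ≠ 0 := fun e => hb (by rw [e]; rfl)
      refine mul_left_cancel₀ hb0 ?_
      linear_combination hdet - hdet'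
    ext i j; fin_cases i <;> fin_cases j <;> assumption
  · have hkey : slKey (codeOf M) =
        (M.1 0 0).v.val * 256 + (M.1 0 1).v.val * 16 + (M.1 1 0).v.val := by
      rw [slKey, show Nat.beq (codeOf M % 16) 0 = false from
        Bool.eq_false_iff.2 fun e => ha (by rw [← ea]; rwa [Nat.beq_eq] at e), cond_false]
      omega
    rw [hkey, show Nat.blt ((M.1 0 0).v.val * 256 + (M.1 0 1).v.val * 16 + (M.1 1 0).v.val) 256 =
      false from Bool.eq_false_iff.2 fun e => by rw [Nat.blt_eq] at e; omega, cond_false] at h2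
    simp only [Bool.and_eq_true, Nat.beq_eq] at h2
    have hidx : idx M =
        ent64 posTab ((M.1 0 0).v.val * 256 + (M.1 0 1).v.val * 16 + (M.1 1 0).v.val) := by
      rw [idx, hkey]
    rw [← hidx] at h2
    obtain ⟨⟨h3, h4⟩, h5⟩ := h2
    have := (M.1 0 1).v.isLt
    have := (M.1 1 0).v.isLt
    have hz : ∀ a b c : ℕ, b < 16 → c < 16 → (a * 256 + b * 16 + c) / 256 = a ∧
        (a * 256 + b * 16 + c) / 16 % 16 = b ∧ (a * 256 + b * 16 + c) % 16 = c := by
      intro a b c _ _
      refine ⟨?_, ?_, ?_⟩ <;> omega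
    obtain ⟨z1, z2, z3⟩ := hz (M.1 0 0).v.val (M.1 0 1).v.val (M.1 1 0).v.val (M.1 0 1).v.isLt
      (M.1 1 0).v.isLt
    have f00 : N 0 0 = M.1 0 0 := by rw [e00]; exact key _ _ (h3.trans z1)
    have f01 : N 0 1 = M.1 0 1 := by rw [e01]; exact key _ _ (h4.trans z2)
    have f10 : N 1 0 = M.1 1 0 := by rw [e10]; exact key _ _ (h5.trans z3)
    have f11 : N 1 1 = M.1 1 1 := by
      rw [f00, f01, f10] at hdet'
      have ha0 : M.1 0 0 ≠ 0 := fun e => ha (by rw [e]; rfl)
      refine mul_left_cancel₀ ha0 ?_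
      linear_combination hdet' - hdet
    ext i j; fin_cases i <;> fin_cases j <;> assumption

theorem idx_slE {i : ℕ} (hi : i < 4080) : idx (slE i) = i := by
  have h := check_tree
  simp only [treeOK, Bool.and_eq_true] at h
  have h1 := of_all h.2 hi
  simp only [Bool.and_eq_true] at h1
  have e := beq_eq h1.1.1.1
  obtain ⟨ea, eb, ec, ed⟩ := codeOf_parts (slE i)
  have hm : ∀ z w : Fin 2, ((slE i).1 z w).v.val = (slM (sl i) z w).v.val := fun z w => by
    rw [slE_coe hi]
  rw [idx, show slKey (codeOf (slE i)) = slKey (sl i) from by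
    simp only [slKey, ea, eb, ec, ed, hm]
    simp [slM, mk16]]
  exact e

theorem nx_spec {i : ℕ} (hi : i < 4080) {k : ℕ} (hk : k < 2) : nx i k < 4080 ∧
    slMul (sl i) (sGen k) = sl (nx i k) ∧ mul (qc i) (qGen k) = qc (nx i k) := by
  have h := check_step
  simp only [stepOK, force_eq] at h
  have h1 := of_all h hi
  simp only [Bool.and_eq_true, Nat.blt_eq, Nat.beq_eq] at h1
  obtain ⟨⟨⟨⟨⟨a0, a1⟩, b0⟩, b1⟩, c0⟩, c1⟩ := h1
  interval_cases k
  · exact ⟨a0, b0, c0⟩
  · exact ⟨a1, b1, c1⟩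

/-- The tree, as an induction principle. -/
theorem tree_induction {P : ℕ → Prop} (h0 : P 0)
    (hs : ∀ i < 4080, ∀ k < 2, P i → P (nx i k)) {j : ℕ} (hj : j < 4080) : P j := by
  induction j using Nat.strong_induction_on with
  | _ j ih =>
    rcases Nat.eq_zero_or_pos j with rfl | hpos
    · exact h0
    have h := check_tree
    simp only [treeOK, Bool.and_eq_true] at h
    have h1 := of_all h.2 hj
    simp only [Bool.and_eq_true, Bool.or_eq_true, Nat.beq_eq, Nat.blt_eq] at h1
    obtain ⟨⟨hp, he⟩, -⟩ := h1.2.resolve_left (by omega)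
    rw [← he]
    exact hs _ (hp.trans hj) _ (Nat.mod_lt _ (by norm_num)) (ih _ hp (hp.trans hj))

theorem sGen_det (k : ℕ) : (slM (sGen k)).det = 1 := by
  simp only [sGen]
  cases Nat.beq k 0 <;> rfl

/-- A generator as an element. -/
def slG (k : ℕ) : SL(2, F16) := ⟨slM (sGen k), sGen_det k⟩

theorem slE_step {i : ℕ} (hi : i < 4080) {k : ℕ} (hk : k < 2) : slE i * slG k = slE (nx i k) := by
  obtain ⟨h1, h2, -⟩ := nx_spec hi hk
  refine Subtype.ext ?_
  show ((slE i : SL(2, F16)) : Matrix (Fin 2) (Fin 2) F16) * slM (sGen k) =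
    ((slE (nx i k) : SL(2, F16)) : Matrix (Fin 2) (Fin 2) F16)
  rw [slE_coe hi, slE_coe h1, ← slM_mul, h2]

variable {F : Type*} [Field F] {ω : F} (hf : Field4 F ω)
include hf

theorem qGen_mem (k : ℕ) : Mem F ω (qGen k) := by
  have hc : ∀ j, Mem F ω (tabL.gens.getD j one) := fun j =>
    (Tab.good hf okGood_tabL j).2.1
  rw [qGen]
  cases Nat.beq k 0
  · exact (qEl_mul hf (scal_mem hf (by simp)).1 (word_spec hf hc _).1).1
  · exact (word_spec hf hc _).1

theorem sig_mem : Mem F ω sig := (Tab.good hf okGood_tabL 5).2.1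

theorem qc_mem {i : ℕ} (hi : i < 4080) : Mem F ω (qc i) := by
  refine tree_induction (P := fun i => Mem F ω (qc i)) ?_ ?_ hi
  · have h := check_tree
    simp only [treeOK, Bool.and_eq_true] at h
    rw [beq_eq h.1.2]
    exact (qEl_one hf).1
  · intro i hi k hk ih
    rw [← (nx_spec hi hk).2.2]
    exact (qEl_mul hf ih (qGen_mem hf k)).1

omit hf in
variable (F ω) in
/-- The map of the special linear group. -/
noncomputable def phiFun (M : SL(2, F16)) : QQ F ω := qEl F ω (qc (idx M))

theorem phi_step (M : SL(2, F16)) {k : ℕ} (hk : k < 2) :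
    phiFun F ω (M * slG k) = phiFun F ω M * qEl F ω (qGen k) := by
  obtain ⟨hi, hM⟩ := idx_spec M
  obtain ⟨h1, -, h3⟩ := nx_spec hi hk
  conv_lhs => rw [← hM, slE_step hi hk]
  rw [phiFun, idx_slE h1, ← h3, (qEl_mul hf (qc_mem hf hi) (qGen_mem hf k)).2]
  rfl

theorem phi_zero : phiFun F ω (slE 0) = 1 := by
  have h := check_tree
  simp only [treeOK, Bool.and_eq_true] at h
  rw [phiFun, idx_slE (by norm_num), beq_eq h.1.2]
  exact (qEl_one hf).2

omit hf in
variable (F ω) in
/-- The homomorphism. -/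
noncomputable def phi (hf : Field4 F ω) : SL(2, F16) →* QQ F ω :=
  MonoidHom.mk' (phiFun F ω) (fun M N => by
    have key : ∀ j < 4080, ∀ M : SL(2, F16),
        phiFun F ω (M * slE j) = phiFun F ω M * phiFun F ω (slE j) := by
      intro j hj
      refine tree_induction
        (P := fun j => ∀ M, phiFun F ω (M * slE j) = phiFun F ω M * phiFun F ω (slE j)) ?_ ?_ hj
      · intro M; rw [phi_zero hf, mul_one, slE_zero, mul_one]
      · intro i hi k hk ih M
        rw [← slE_step hi hk, ← mul_assoc, phi_step hf _ hk, ih, phi_step hf _ hk, mul_assoc]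
    obtain ⟨hj, hN⟩ := idx_spec N
    rw [← hN]
    exact key _ hj M)

theorem phi_apply (M : SL(2, F16)) : phi F ω hf M = qEl F ω (qc (idx M)) := rfl

variable [Fintype F] (hF : Fintype.card F = 4)
include hF

theorem phi_injective : Function.Injective (phi F ω hf) := by
  refine (injective_iff_map_eq_one _).2 fun M e => ?_
  obtain ⟨hi, hM⟩ := idx_spec M
  rw [← hM, ← slE_zero]
  congr 1
  by_contra h0
  have h := check_tree
  simp only [treeOK, Bool.and_eq_true] at h
  have h1 := of_all h.2 hi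
  simp only [Bool.and_eq_true, Bool.or_eq_true, Nat.beq_eq, Bool.not_eq_true', Nat.blt_eq] at h1
  have hne := (h1.2.resolve_left h0).2
  rw [phi_apply, ← (qEl_one hf).2] at e
  rw [(scalEq_iff hf hF (qc_mem hf hi) (qEl_one hf).1 h1.1.1.2 one_lt).2 e] at hne
  exact Bool.noConfusion hne

/-- A subgroup with a normal subgroup of index two isomorphic to `SL(2, 16)`. -/
theorem exists_sl2_16 : ∃ (H : Subgroup (QQ F ω)) (N : Subgroup H) (K : Type) (_ : Field K)
    (_ : Fintype K), N.Normal ∧ N.index = 2 ∧ Fintype.card K = 16 ∧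
      Nonempty (N ≃* Matrix.SpecialLinearGroup (Fin 2) K) := by
  have hs := check_sig
  simp only [sigOK, force_eq, Bool.and_eq_true, Nat.blt_eq, List.all_eq_true, Bool.not_eq_true',
    Bool.or_eq_false_iff] at hs
  obtain ⟨⟨⟨⟨hsq, hslt⟩, hc0⟩, hc1⟩, hout⟩ := hs
  set s : QQ F ω := qEl F ω sig with hsdef
  set R : Subgroup (QQ F ω) := (phi F ω hf).range with hR
  have hss : s * s = 1 := by
    rw [hsdef, ← (qEl_mul hf (sig_mem hf) (sig_mem hf)).2, beq_eq hsq, (qEl_one hf).2]
  have hinv : s⁻¹ = s := inv_eq_of_mul_eq_one_right hss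
  have hgen : ∀ k < 2, s * qEl F ω (qGen k) * s ∈ R := by
    intro k hk
    obtain ⟨m1, e1⟩ := qEl_mul hf (sig_mem hf) (qGen_mem hf k)
    rw [hsdef, ← e1, ← (qEl_mul hf m1 (sig_mem hf)).2]
    interval_cases k
    · exact ⟨slE 1137, by rw [phi_apply, idx_slE (by norm_num), beq_eq hc0]⟩
    · exact ⟨slE 701, by rw [phi_apply, idx_slE (by norm_num), beq_eq hc1]⟩
  have hnorm : ∀ x ∈ R, s * x * s ∈ R := by
    rintro _ ⟨M, rfl⟩
    obtain ⟨hi, hM⟩ := idx_spec M
    rw [← hM]
    refine tree_induction (P := fun j => s * phi F ω hf (slE j) * s ∈ R) ?_ ?_ hi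
    · rw [slE_zero, map_one, mul_one, hss]; exact one_mem _
    · intro i hi k hk ih
      have e : phi F ω hf (slE (nx i k)) = phi F ω hf (slE i) * qEl F ω (qGen k) := by
        rw [← slE_step hi hk]; exact phi_step hf _ hk
      rw [e, show s * (phi F ω hf (slE i) * qEl F ω (qGen k)) * s =
        (s * phi F ω hf (slE i) * s) * (s * qEl F ω (qGen k) * s) by
          simp only [mul_assoc]; rw [← mul_assoc s s, hss, one_mul]]
      exact mul_mem ih (hgen k hk)
  have hsR : s ∉ R := by
    rintro ⟨M, hM⟩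
    obtain ⟨hi, -⟩ := idx_spec M
    obtain ⟨⟨h1, h2⟩, h3⟩ := hout _ (List.mem_range.2 hi)
    have h := check_tree
    simp only [treeOK, Bool.and_eq_true] at h
    have hl := of_all h.2 hi
    simp only [Bool.and_eq_true, Nat.blt_eq] at hl
    have he := (scalEq_iff hf hF (sig_mem hf) (qc_mem hf hi) hslt hl.1.1.2).2 hM.symm
    simp [scalEq, h1, h2, h3] at he
  let H : Subgroup (QQ F ω) :=
    { carrier := {x | x ∈ R ∨ x * s ∈ R}
      one_mem' := Or.inl (one_mem _)
      mul_mem' := by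
        rintro a b (ha | ha) (hb | hb)
        · exact Or.inl (mul_mem ha hb)
        · exact Or.inr (by rw [mul_assoc]; exact mul_mem ha hb)
        · exact Or.inr (by
            rw [show a * b * s = (a * s) * (s * b * s) by
              simp only [mul_assoc]; rw [← mul_assoc s s, hss, one_mul]]
            exact mul_mem ha (hnorm _ hb))
        · exact Or.inl (by
            rw [show a * b = (a * s) * (s * (b * s) * s) by
              simp only [mul_assoc, hss, mul_one]; rw [← mul_assoc s s, hss, one_mul]]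
            exact mul_mem ha (hnorm _ hb))
      inv_mem' := by
        rintro a (ha | ha)
        · exact Or.inl (inv_mem ha)
        · refine Or.inr ?_
          have h' := hnorm _ (inv_mem ha)
          rw [mul_inv_rev, hinv] at h'
          simpa only [← mul_assoc, hss, one_mul] using h' }
  refine ⟨H, R.subgroupOf H, F16, inferInstance, inferInstance, ?_, ?_, card_F16, ?_⟩
  · constructor
    rintro ⟨n, _⟩ hn ⟨g, hg⟩
    rw [Subgroup.mem_subgroupOf] at hn ⊢
    show g * n * g⁻¹ ∈ R
    rcases hg with hg | hg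
    · exact mul_mem (mul_mem hg hn) (inv_mem hg)
    · rw [show g * n * g⁻¹ = (g * s) * (s * n * s) * (g * s)⁻¹ by
        rw [mul_inv_rev, hinv]; simp only [mul_assoc]
        rw [← mul_assoc s s, hss, one_mul, ← mul_assoc s s, hss, one_mul]]
      exact mul_mem (mul_mem hg (hnorm _ hn)) (inv_mem hg)
  · rw [Subgroup.index_eq_two_iff]
    refine ⟨⟨s, Or.inr (by rw [hss]; exact one_mem _)⟩, fun b => ?_⟩
    obtain ⟨b, hb⟩ := b
    simp only [Subgroup.mem_subgroupOf]
    show Xor (b * s ∈ R) (b ∈ R)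
    rcases hb with hb | hb
    · exact Or.inr ⟨hb, fun h => hsR (by simpa using mul_mem (inv_mem hb) h)⟩
    · exact Or.inl ⟨hb, fun h => hsR (by simpa using mul_mem (inv_mem h) hb)⟩
  · have hle : R ≤ H := fun x hx => Or.inl hx
    exact ⟨(Subgroup.subgroupOfEquivOfLe hle).trans
      (MonoidHom.ofInjective (phi_injective hf hF)).symm⟩

end CfsgLib.Janko3SL
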