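import Cfsg.Agent.Lib.Janko3.SylowOdd
import Mathlib.FieldTheory.Finite.GaloisField

/-!
The Sylow subgroups of orders 19 and 17 of a group isomorphic to the third Janko group are
self-centralizing, with cyclic quotients of orders 9 and 8 in their normalizers.
-/

set_option autoImplicit false
set_option linter.unusedSectionVars false

namespace CfsgLib.Janko3Odd

open Subgroup
open CfsgLib.Janko3 (QQ qEl Field4)
open CfsgLib.KnownA.JankoThreeSchur (prodC)
open CfsgLib.Janko3Out (gens)

variable {G : Type*} [Group G] [Finite G]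

/-- The order of the centralizer of an element all of whose commuting elements have exponent `N`. -/
theorem card_centralizer_dvd {y : G} {N a b : ℕ} (hN : ∀ g : G, Commute g y → g ^ N = 1)
    (hG : Nat.card G = a * b) (hb : Nat.Coprime N b) :
    Nat.card (centralizer ({y} : Set G)) ∣ a := by
  have h := Subgroup.card_subgroup_dvd_card (centralizer ({y} : Set G))
  rw [hG] at h
  refine Nat.Coprime.dvd_of_dvd_mul_right (Nat.coprime_of_dvd fun q hq h1 h2 => ?_) h
  haveI := Fact.mk hq
  obtain ⟨g, hg⟩ := exists_prime_orderOf_dvd_card' q h1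
  have hc : Commute (g : G) y := (mem_centralizer_singleton_iff.1 g.2)
  have h3 : q ∣ N := by
    rw [← hg, ← Subgroup.orderOf_coe]
    exact orderOf_dvd_of_pow_eq_one (hN g hc)
  exact hq.ne_one (Nat.dvd_one.1 (hb ▸ Nat.dvd_gcd h3 h2))

theorem zpowers_centralizer (y : G) :
    centralizer ((zpowers y : Subgroup G) : Set G) = centralizer ({y} : Set G) := by
  rw [zpowers_eq_closure, centralizer_closure]

/-- The normalizer of a subgroup of prime order, through its action. -/
theorem normalizer_data {p : ℕ} [Fact p.Prime] {y : G} (hy : orderOf y = p) :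
    ∃ K : ℕ, K ∣ p - 1 ∧
      Nat.card (normalizer ((zpowers y : Subgroup G) : Set G)) =
        Nat.card (centralizer ({y} : Set G)) * K ∧
      (∀ a : G, ∀ k j : ℕ, a * y * a⁻¹ = y ^ k → K ∣ j → k ^ j % p = 1 % p) ∧
      (K = p - 1 → ∀ k : ℕ, k % p ≠ 0 → ∃ u : G, u * y * u⁻¹ = y ^ k) ∧
      (centralizer ({y} : Set G) = zpowers y →
        ∃ h : ((zpowers y).subgroupOf (normalizer ((zpowers y : Subgroup G) : Set G))).Normal,
          IsCyclic (↥(normalizer ((zpowers y : Subgroup G) : Set G)) ⧸
            (zpowers y).subgroupOf _) ∧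
          Nat.card (↥(normalizer ((zpowers y : Subgroup G) : Set G)) ⧸
            (zpowers y).subgroupOf _) = K) := by
  set H := zpowers y with hH
  have hHc : Nat.card H = p := by rw [hH, Nat.card_zpowers, hy]
  have hp : p.Prime := Fact.out
  let φ := H.normalizerMonoidHom
  have hker : φ.ker = (centralizer ({y} : Set G)).subgroupOf (normalizer (H : Set G)) := by
    rw [← zpowers_centralizer]
    exact H.normalizerMonoidHom_ker
  have hAut : Nat.card (MulAut H) = p - 1 := by
    rw [IsCyclic.card_mulAut, hHc, Nat.totient_prime hp]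
  have hle : centralizer ({y} : Set G) ≤ normalizer (H : Set G) := by
    rw [← zpowers_centralizer]
    exact Subgroup.centralizer_le_normalizer _
  refine ⟨Nat.card φ.range, hAut ▸ Subgroup.card_subgroup_dvd_card φ.range, ?_, ?_, ?_, ?_⟩
  · rw [Subgroup.card_eq_card_quotient_mul_card_subgroup φ.ker,
      Nat.card_congr (QuotientGroup.quotientKerEquivRange φ).toEquiv, hker,
      Nat.card_congr (Subgroup.subgroupOfEquivOfLe hle).toEquiv, mul_comm]
  · intro a k j ha hj
    have hmem : a ∈ normalizer (H : Set G) := by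
      rw [hH]
      refine Subgroup.mem_normalizer_fintype fun h hh => ?_
      obtain ⟨i, rfl⟩ := Subgroup.mem_zpowers_iff.1 hh
      rw [← conj_zpow, ha]
      exact zpow_mem (pow_mem (mem_zpowers y) k) i
    set n : normalizer (H : Set G) := ⟨a, hmem⟩
    have hpow : ∀ i : ℕ, a ^ i * y * (a ^ i)⁻¹ = y ^ k ^ i := by
      intro i
      induction i with
      | zero => simp
      | succ i ih =>
        rw [pow_succ', mul_inv_rev, ← mul_assoc, mul_assoc a (a ^ i) y, mul_assoc a (a ^ i * y), ih,
          ← conj_pow, ha, ← pow_mul, pow_succ']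
    have h1 : (φ n) ^ j = 1 := by
      obtain ⟨c, rfl⟩ := hj
      have : (⟨φ n, n, rfl⟩ : φ.range) ^ Nat.card φ.range = 1 := pow_card_eq_one'
      rw [pow_mul, show (φ n) ^ Nat.card φ.range = 1 from congrArg Subtype.val this, one_pow]
    rw [← map_pow] at h1
    have h2 := congrArg (fun f : MulAut H => ((f ⟨y, mem_zpowers y⟩ : H) : G)) h1
    have h3 : a ^ j * y * (a ^ j)⁻¹ = y := by simpa [φ, n] using h2
    rw [hpow] at h3
    have h4 : y ^ k ^ j = y ^ 1 := by rw [h3, pow_one]
    rwa [pow_eq_pow_iff_modEq, hy] at h4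
  · intro hK k hk
    have htop : φ.range = ⊤ := Subgroup.eq_top_of_card_eq _ (by rw [hK, hAut])
    have hcop : k.Coprime (Nat.card H) := by
      rw [hHc, Nat.coprime_comm]
      exact hp.coprime_iff_not_dvd.2 fun h => hk (Nat.mod_eq_zero_of_dvd h)
    let ψ : MulAut H :=
      { toEquiv := powCoprime hcop.symm
        map_mul' := fun x z => Commute.mul_pow (Std.Commutative.comm x z) k }
    obtain ⟨n, hn⟩ : ψ ∈ φ.range := htop ▸ mem_top _
    refine ⟨n, ?_⟩
    have := congrArg (fun f : MulAut H => ((f ⟨y, mem_zpowers y⟩ : H) : G)) hn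
    refine Eq.trans (by simpa [φ] using this) ?_
    show (((⟨y, mem_zpowers y⟩ : H) ^ k : H) : G) = y ^ k
    simp
  · intro hC
    have hk : (zpowers y).subgroupOf (normalizer (H : Set G)) = φ.ker := by rw [hker, hC]
    rw [← hH] at *
    have hn : (H.subgroupOf (normalizer (H : Set G))).Normal := hk ▸ φ.normal_ker
    refine ⟨hn, ?_, ?_⟩
    · have e := (QuotientGroup.quotientMulEquivOfEq hk).trans (QuotientGroup.quotientKerEquivRange φ)
      haveI : IsCyclic (MulAut H) := by
        haveI := ZMod.isCyclic_units_prime hp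
        exact isCyclic_of_surjective (hHc ▸ IsCyclic.mulAutMulEquiv H).symm
          (MulEquiv.surjective _)
      exact isCyclic_of_surjective e.symm e.symm.surjective
    · exact Nat.card_congr ((QuotientGroup.quotientMulEquivOfEq hk).trans
        (QuotientGroup.quotientKerEquivRange φ)).toEquiv

/-- The conclusion for the Sylow subgroups. -/
def Facts (G : Type*) [Group G] (p d : ℕ) : Prop :=
  ∀ X : Sylow p G, Subgroup.centralizer ((X : Subgroup G) : Set G) = X ∧
    ∃ h : ((X : Subgroup G).subgroupOf (Subgroup.normalizer ((X : Subgroup G) : Set G))).Normal,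
      IsCyclic (↥(Subgroup.normalizer ((X : Subgroup G) : Set G)) ⧸ (X : Subgroup G).subgroupOf _) ∧
      Nat.card (↥(Subgroup.normalizer ((X : Subgroup G) : Set G)) ⧸ (X : Subgroup G).subgroupOf _) = d

/-- The numerical data of the normalizer. -/
structure Hyp (p m N k : ℕ) (y : G) : Prop where
  ord : orderOf y = p
  exp : ∀ g : G, Commute g y → g ^ N = 1
  act : ∃ a : G, a * y * a⁻¹ = y ^ k
  not_sur : m = 0 ∨ ∀ u : G, u * y * u⁻¹ ≠ y ^ m

theorem Hyp.map {p m N k : ℕ} {H : Type*} [Group H] {y : H} (h : Hyp p m N k y) (e : G ≃* H) :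
    Hyp p m N k (e.symm y) := by
  refine ⟨by rw [MulEquiv.orderOf_eq]; exact h.ord, fun g hg => e.injective ?_, ?_, ?_⟩
  · rw [map_pow, map_one, h.exp]
    have := hg.map e
    rwa [MulEquiv.apply_symm_apply] at this
  · obtain ⟨a, ha⟩ := h.act
    exact ⟨e.symm a, by rw [← map_inv, ← map_mul, ← map_mul, ha, map_pow]⟩
  · refine h.not_sur.imp_right fun hn u hu => hn (e u) ?_
    have := congrArg e hu
    simpa using this

/-- The divisibility and congruence conditions. -/
theorem counting {p : ℕ} [Fact p.Prime] {y : G} (hy : orderOf y = p) (P : Sylow p G)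
    (hP : (P : Subgroup G) = zpowers y) {K : ℕ}
    (hN : Nat.card (normalizer ((zpowers y : Subgroup G) : Set G)) =
      Nat.card (centralizer ({y} : Set G)) * K) :
    ∃ n : ℕ, Nat.card (centralizer ({y} : Set G)) * K * n = Nat.card G ∧ n % p = 1 := by
  refine ⟨Nat.card (Sylow p G), ?_, ?_⟩
  · have hi : Nat.card (Sylow p G) = (normalizer ((zpowers y : Subgroup G) : Set G)).index := by
      rw [P.card_eq_index_normalizer, ← hP]
      rfl
    rw [← hN, hi]
    exact Subgroup.card_mul_index _
  · rw [(card_sylow_modEq_one p G), Nat.mod_eq_of_lt (Fact.out : p.Prime).one_lt]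

theorem arith19 : ∀ c ∈ Nat.divisors 243, ∀ K ∈ [9, 18],
    50232960 / (19 * c * K) % 19 = 1 → c = 1 ∧ K = 9 := by decide +kernel

theorem arith17 : ∀ c ∈ Nat.divisors 1215,
    50232960 / (17 * c * 8) % 17 = 1 → c = 1 := by decide +kernel

theorem sub19 : ∀ K ∈ Nat.divisors 18, ¬ (K ∣ 6) → K ∈ [9, 18] := by decide +kernel

theorem sub17 : ∀ K ∈ Nat.divisors 16, ¬ (K ∣ 4) → K = 8 ∨ K = 16 := by decide +kernel

/-- The normalizer at 19. -/
theorem at19 (hG : Nat.card G = 50232960) {y : G} (h : Hyp 19 0 262143 4 y) (P : Sylow 19 G)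
    (hP : (P : Subgroup G) = zpowers y) :
    centralizer ((zpowers y : Subgroup G) : Set G) = zpowers y ∧
      ∃ h : ((zpowers y).subgroupOf (normalizer ((zpowers y : Subgroup G) : Set G))).Normal,
        IsCyclic (↥(normalizer ((zpowers y : Subgroup G) : Set G)) ⧸ (zpowers y).subgroupOf _) ∧
        Nat.card (↥(normalizer ((zpowers y : Subgroup G) : Set G)) ⧸ (zpowers y).subgroupOf _) = 9 := by
  haveI : Fact (Nat.Prime 19) := ⟨by norm_num⟩
  obtain ⟨K, hK, hN, hact, -, hquot⟩ := normalizer_data h.ord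
  obtain ⟨a, ha⟩ := h.act
  have hK' : K ∈ [9, 18] := sub19 K (Nat.mem_divisors.2 ⟨by simpa using hK, by norm_num⟩) fun hd => by
    have := hact a 4 6 ha hd
    norm_num at this
  have hd : Nat.card (centralizer ({y} : Set G)) ∣ 19 * 243 :=
    card_centralizer_dvd (b := 10880) h.exp (by rw [hG]) (by norm_num)
  have h19 : 19 ∣ Nat.card (centralizer ({y} : Set G)) := by
    rw [← h.ord]
    exact Nat.card_zpowers y ▸ Subgroup.card_dvd_of_le (zpowers_le.2 (mem_centralizer_singleton_iff.2 rfl))
  obtain ⟨c, hc⟩ := h19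
  rw [hc] at hd hN
  obtain ⟨n, hn, hn1⟩ := counting h.ord P hP (by rw [hN, hc])
  rw [hc, hG] at hn
  have hc' : c ∈ Nat.divisors 243 :=
    Nat.mem_divisors.2 ⟨Nat.dvd_of_mul_dvd_mul_left (by norm_num) hd, by norm_num⟩
  obtain ⟨rfl, rfl⟩ := arith19 c hc' K hK' (by
    rw [← hn, Nat.mul_div_cancel_left _ (Nat.pos_of_ne_zero fun e => by simp [e] at hn)]
    exact hn1)
  have hC : centralizer ({y} : Set G) = zpowers y := (Subgroup.eq_of_le_of_card_ge
    (zpowers_le.2 (mem_centralizer_singleton_iff.2 rfl))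
    (by rw [Nat.card_zpowers, h.ord, hc])).symm
  exact ⟨by rw [zpowers_centralizer, hC], hquot hC⟩

/-- The normalizer at 17. -/
theorem at17 (hG : Nat.card G = 50232960) {y : G} (h : Hyp 17 3 255 2 y) (P : Sylow 17 G)
    (hP : (P : Subgroup G) = zpowers y) :
    centralizer ((zpowers y : Subgroup G) : Set G) = zpowers y ∧
      ∃ h : ((zpowers y).subgroupOf (normalizer ((zpowers y : Subgroup G) : Set G))).Normal,
        IsCyclic (↥(normalizer ((zpowers y : Subgroup G) : Set G)) ⧸ (zpowers y).subgroupOf _) ∧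
        Nat.card (↥(normalizer ((zpowers y : Subgroup G) : Set G)) ⧸ (zpowers y).subgroupOf _) = 8 := by
  haveI : Fact (Nat.Prime 17) := ⟨by norm_num⟩
  obtain ⟨K, hK, hN, hact, hsur, hquot⟩ := normalizer_data h.ord
  obtain ⟨a, ha⟩ := h.act
  have hK' : K = 8 ∨ K = 16 := sub17 K (Nat.mem_divisors.2 ⟨by simpa using hK, by norm_num⟩) fun hd => by
    have := hact a 2 4 ha hd
    norm_num at this
  have hK8 : K = 8 := hK'.resolve_right fun e => by
    obtain ⟨u, hu⟩ := hsur e 3 (by norm_num)
    exact (h.not_sur.resolve_left (by norm_num)) u hu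
  subst hK8
  have hd : Nat.card (centralizer ({y} : Set G)) ∣ 17 * 1215 :=
    card_centralizer_dvd (b := 2432) h.exp (by rw [hG]) (by norm_num)
  have h17 : 17 ∣ Nat.card (centralizer ({y} : Set G)) := by
    rw [← h.ord]
    exact Nat.card_zpowers y ▸ Subgroup.card_dvd_of_le (zpowers_le.2 (mem_centralizer_singleton_iff.2 rfl))
  obtain ⟨c, hc⟩ := h17
  rw [hc] at hd
  obtain ⟨n, hn, hn1⟩ := counting h.ord P hP hN
  rw [hc, hG] at hn
  have hc' : c ∈ Nat.divisors 1215 :=
    Nat.mem_divisors.2 ⟨Nat.dvd_of_mul_dvd_mul_left (by norm_num) hd, by norm_num⟩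
  obtain rfl := arith17 c hc' (by
    rw [← hn, Nat.mul_div_cancel_left _ (Nat.pos_of_ne_zero fun e => by simp [e] at hn)]
    exact hn1)
  have hC : centralizer ({y} : Set G) = zpowers y := (Subgroup.eq_of_le_of_card_ge
    (zpowers_le.2 (mem_centralizer_singleton_iff.2 rfl))
    (by rw [Nat.card_zpowers, h.ord, hc])).symm
  exact ⟨by rw [zpowers_centralizer, hC], hquot hC⟩

/-- Every Sylow subgroup is generated by an element with the data. -/
theorem exists_gen {p m N k : ℕ} [Fact p.Prime] {H : Type*} [Group H] (e : G ≃* H) {y : H}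
    (h : Hyp p m N k y) (hf : (Nat.card G).factorization p = 1) (X : Sylow p G) :
    ∃ z : G, Hyp p m N k z ∧ (X : Subgroup G) = zpowers z := by
  set P : Sylow p G := Sylow.ofCard (zpowers (e.symm y))
    (by rw [Nat.card_zpowers, (h.map e).ord, hf, pow_one]) with hP
  obtain ⟨g, hg⟩ := MulAction.exists_smul_eq G P X
  let e' : G ≃* H := (MulAut.conj g).symm.trans e
  refine ⟨e'.symm y, h.map e', ?_⟩
  rw [← hg, Sylow.smul_def, show (e'.symm y) = MulAut.conj g (e.symm y) from rfl,
    ← MulEquiv.coe_toMonoidHom, ← MonoidHom.map_zpowers]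
  rfl

/-- The facts for a group isomorphic to the third Janko group. -/
theorem facts {F : Type*} [Field F] [Fintype F] {ω : F} (hf : Field4 F ω) (hF : Fintype.card F = 4)
    (e : G ≃* QQ F ω) : Facts G 19 9 ∧ Facts G 17 8 := by
  have hG : Nat.card G = 50232960 := by
    rw [Nat.card_congr e.toEquiv]
    have := Subgroup.card_eq_card_quotient_mul_card_subgroup
      (Subgroup.center (CfsgLib.Janko3.GG F ω))
    rw [CfsgLib.Janko3.card_GG hf, CfsgLib.Janko3.card_center hf hF] at this
    change 150698880 = Nat.card (QQ F ω) * 3 at this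
    omega
  constructor
  · haveI : Fact (Nat.Prime 19) := ⟨by norm_num⟩
    obtain ⟨o, -, hexp, hact⟩ :=
      model hf hF (p := 19) (by norm_num) (by norm_num) 9 (by norm_num) check19
    have h : Hyp 19 0 262143 4 (qEl F ω (prodC gens w19)) :=
      ⟨o, fun g hg => by simpa using hexp g hg, hact, Or.inl rfl⟩
    have hfac : (Nat.card G).factorization 19 = 1 := by
      rw [hG, show (50232960 : ℕ) = 19 ^ 1 * 2643840 by norm_num,
        Nat.factorization_mul (by norm_num) (by norm_num), Finsupp.add_apply,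
        Nat.Prime.factorization_pow (by norm_num), Finsupp.single_eq_same,
        Nat.factorization_eq_zero_of_not_dvd (by norm_num)]
    intro X
    obtain ⟨z, hz, hX⟩ := exists_gen e h hfac X
    obtain ⟨h1, h2⟩ := at19 hG hz X hX
    rw [hX]
    exact ⟨h1, h2⟩
  · haveI : Fact (Nat.Prime 17) := ⟨by norm_num⟩
    obtain ⟨o, -, hexp, hact⟩ :=
      model hf hF (p := 17) (by norm_num) (by norm_num) 4 (by norm_num) check17
    have h : Hyp 17 3 255 2 (qEl F ω (prodC gens w17)) :=
      ⟨o, fun g hg => by simpa using hexp g hg, hact, Or.inr (not_cube hf hF)⟩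
    have hfac : (Nat.card G).factorization 17 = 1 := by
      rw [hG, show (50232960 : ℕ) = 17 ^ 1 * 2954880 by norm_num,
        Nat.factorization_mul (by norm_num) (by norm_num), Finsupp.add_apply,
        Nat.Prime.factorization_pow (by norm_num), Finsupp.single_eq_same,
        Nat.factorization_eq_zero_of_not_dvd (by norm_num)]
    intro X
    obtain ⟨z, hz, hX⟩ := exists_gen e h hfac X
    obtain ⟨h1, h2⟩ := at17 hG hz X hX
    rw [hX]
    exact ⟨h1, h2⟩

/-- A field with four elements and a root of `x ^ 2 + x + 1`. -/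
theorem exists_field : ∃ (F : Type) (_ : Field F) (_ : Fintype F), Fintype.card F = 4 ∧
    ∃ ω : F, ω ^ 2 + ω + 1 = 0 := by
  classical
  haveI : Fintype (GaloisField 2 2) := Fintype.ofFinite _
  let F := GaloisField 2 2
  have hF : Fintype.card F = 4 := by
    rw [← Nat.card_eq_fintype_card, GaloisField.card 2 2 two_ne_zero]
    norm_num
  obtain ⟨ω, hω0, hω1⟩ : ∃ x : F, x ≠ 0 ∧ x ≠ 1 := by
    by_contra hcon
    push_neg at hcon
    have h : (Finset.univ : Finset F) ⊆ {0, 1} := fun x _ => by
      by_cases hx : x = 0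
      · simp [hx]
      · simp [hcon x hx]
    have := (Finset.card_le_card h).trans Finset.card_le_two
    rw [Finset.card_univ, hF] at this
    omega
  refine ⟨F, inferInstance, inferInstance, hF, ω, ?_⟩
  have h3 : ω ^ 3 = 1 := by
    have := FiniteField.pow_card_sub_one_eq_one ω hω0
    rwa [hF] at this
  refine (mul_eq_zero.1 (?_ : (ω - 1) * (ω ^ 2 + ω + 1) = 0)).resolve_left (sub_ne_zero.2 hω1)
  linear_combination h3

end CfsgLib.Janko3Odd
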