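import Cfsg.Agent.Lib.Janko3.Center

/-!
Simplicity of the central quotient.
-/

set_option autoImplicit false
set_option linter.unusedSectionVars false

namespace CfsgLib.Janko3

open Cfsg.Spor Matrix Subgroup

theorem check_conj_inv : ((List.range 28).all fun i => (List.range 80).all fun s =>
    Nat.beq (mul (mul (uEl s) (rEl i)) (star (mul (uEl s) (rEl i)))) one) = true := by
  decide +kernel

theorem check_tab_small : (((([0, 1, 3].zip diagWordTab).map fun p => p.2 / 28 % 80).all fun s => Nat.blt s 80) &&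
    (wordB ++ wordC).all fun t => Nat.blt t 6) = true := by
  decide +kernel

variable {F : Type*} [Field F] {ω : F} (hf : Field4 F ω)
include hf

/-- The stabiliser of the first line is maximal. -/
theorem maximal [Finite F] {M : Subgroup (GL F9 F)} (hH : HH F ω ≤ M) (hM : M ≤ GG F ω)
    (hne : ¬ M ≤ HH F ω) : M = GG F ω := by
  refine le_antisymm hM ((closure_le _).2 ?_)
  have hstrip : ∀ {a b : GL F9 F}, a ∈ HH F ω → b ∈ HH F ω → ∀ {x}, a * x * b ∈ M → x ∈ M := by
    intro a b ha hb x h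
    have := mul_mem (mul_mem (inv_mem (hH ha)) h) (inv_mem (hH hb))
    rwa [mul_assoc a, inv_mul_cancel_left, mul_inv_cancel_right] at this
  suffices h1 : gl F ω gen1 ∈ M by
    rintro x (hx | hx)
    · exact hH hx
    · exact hx ▸ h1
  obtain ⟨g, hg, hgH⟩ := Set.not_subset.1 hne
  obtain ⟨h, hh, j, hj, h', hh', rfl⟩ := mem_GG hf (hM hg)
  have hr : gl F ω (rEl j) ∈ M := hstrip hh hh' hg
  have hj0 : j ≠ 0 := by
    rintro rfl
    exact hgH (by rw [(base hf).2.2.1, mul_one]; exact mul_mem hh hh')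
  rcases Nat.lt_or_ge j 2 with hj2 | hj2
  · obtain rfl : j = 1 := by omega
    rwa [(base hf).2.2.2.1] at hr
  have hm := check_misc
  simp only [Bool.and_eq_true] at hm
  have key : ∀ x < 26, gl F ω (rEl (chainTab.getD x 0 % 28)) ∈ M → gl F ω gen1 ∈ M := by
    intro x
    induction x using Nat.strong_induction_on with
    | _ x ih =>
      intro hx hr
      set e := chainTab.getD x 0
      have hi : e % 28 < 28 := Nat.mod_lt _ (by norm_num)
      have hs : e / 28 % 80 < 80 := Nat.mod_lt _ (by norm_num)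
      have hc := beq_eq (of_all check_chain hx)
      obtain ⟨u1, e1⟩ := gl_mul hf (unit_uEl hf hs) (unit_rEl hf hi)
      have h2 : gl F ω (dcVal (e / 2240)) ∈ M := by
        rw [← hc, (gl_mul hf (unit_rEl hf hi) u1).2, e1]
        exact mul_mem hr (mul_mem (hH (uEl_mem hf hs)) hr)
      rw [(dc_val hf _).2] at h2
      have h3 := hstrip (dcLeft_mem hf _) (dcRight_mem hf _) h2
      have h4 := of_all hm.1.1.1.2 hx
      simp only [Bool.or_eq_true] at h4
      rcases h4 with h4 | h4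
      · rwa [beq_eq h4, (base hf).2.2.2.1] at h3
      · rw [List.any_eq_true] at h4
        obtain ⟨y, hy, ey⟩ := h4
        rw [List.mem_range] at hy
        exact ih y hy (hy.trans hx) (by rw [← beq_eq ey]; exact h3)
  have h5 := of_all hm.1.1.2 (show j - 2 < 26 by omega)
  rw [List.any_eq_true] at h5
  obtain ⟨x, hx, ex⟩ := h5
  exact key x (List.mem_range.1 hx) (by rw [beq_eq ex, show j - 2 + 2 = j by omega]; exact hr)

theorem gl_scal_any (c : ℕ) : IsUnit (dec F ω (scal c)) ∧ ∃ k < 81, gl F ω (scal c) = gl F ω (kEl k) ∧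
    ∃ x : F, (gl F ω (kEl k) : Matrix F9 F9 F) = x • (1 : Matrix F9 F9 F) := by
  have key : ∀ d ∈ [1, 2, 3], scal c = scal d → IsUnit (dec F ω (scal c)) ∧ ∃ k < 81,
      gl F ω (scal c) = gl F ω (kEl k) ∧
      ∃ x : F, (gl F ω (kEl k) : Matrix F9 F9 F) = x • (1 : Matrix F9 F9 F) := by
    intro d hd e
    obtain ⟨k, hk, e'⟩ := gl_scal hf hd
    have h := check_misc
    simp only [Bool.and_eq_true] at h
    have h' := List.all_eq_true.1 h.1.2 d hd
    rw [List.any_eq_true] at h'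
    obtain ⟨l, hl, el'⟩ := h'
    rw [List.mem_range] at hl
    have hu : IsUnit (dec F ω (scal c)) := by rw [e, beq_eq el']; exact unit_kEl hf hl
    refine ⟨hu, k, hk, Units.ext ?_, _, e'⟩
    rw [e', gl_coe hf hu, e, scal, dec_diag, Matrix.smul_one_eq_diagonal]
    congr 1
    funext z
    have h3 : ∀ c ∈ [1, 2, 3], ∀ i < 9,
        (cond (Nat.beq c 1) 87381 (cond (Nat.beq c 2) 174762 262143)).testBit (2 * i) = c.testBit 0 ∧
        (cond (Nat.beq c 1) 87381 (cond (Nat.beq c 2) 174762 262143)).testBit (2 * i + 1) = c.testBit 1 := by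
      decide
    rw [vdec, ent, (h3 d hd _ (ix_lt z)).1, (h3 d hd _ (ix_lt z)).2]
  rcases eq_or_ne c 1 with rfl | h1
  · exact key 1 (by simp) rfl
  rcases eq_or_ne c 2 with rfl | h2
  · exact key 2 (by simp) rfl
  refine key 3 (by simp) ?_
  have e : ∀ a b : ℕ, a ≠ b → Nat.beq a b = false := fun a b h => by
    cases hh : Nat.beq a b
    · rfl
    · exact absurd (beq_eq hh) h
  simp only [scal, e c 1 h1, e c 2 h2, e 3 1 (by norm_num), e 3 2 (by norm_num)]

theorem gl_powE (p : ℕ) : IsUnit (dec F ω (powE p)) ∧ ∃ n : ℕ, gl F ω (powE p) = gl F ω (hGen 2) ^ n ∧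
    (p = 2 → n = 2) := by
  have hu := unit_hGen hf (show 2 < 6 by norm_num)
  rcases p with _ | _ | p
  · exact ⟨unit_one hf, 0, by rw [pow_zero]; exact gl_one hf, by norm_num⟩
  · exact ⟨hu, 1, by rw [pow_one]; rfl, by norm_num⟩
  · exact ⟨(gl_mul hf hu hu).1, 2, by rw [pow_two]; exact (gl_mul hf hu hu).2, fun _ => rfl⟩

theorem unit_conjE {i s : ℕ} (hi : i < 28) (hs : s < 80) : IsUnit (dec F ω (conjE i s)) ∧
    gl F ω (conjE i s) = gl F ω (uEl s) * gl F ω (rEl i) * gl F ω (hGen 2) *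
      (gl F ω (uEl s) * gl F ω (rEl i))⁻¹ := by
  obtain ⟨u1, e1⟩ := gl_mul hf (unit_uEl hf hs) (unit_rEl hf hi)
  obtain ⟨u2, e2⟩ := unit_star hf (beq_eq (of_all (of_all check_conj_inv hi) hs))
  obtain ⟨u3, e3⟩ := gl_mul hf (unit_hGen hf (show 2 < 6 by norm_num)) u2
  obtain ⟨u4, e4⟩ := gl_mul hf u1 u3
  exact ⟨u4, by rw [show conjE i s = mul (mul (uEl s) (rEl i))
    (mul (hGen 2) (star (mul (uEl s) (rEl i)))) from rfl, e4, e3, e2, e1, mul_assoc (_ * _) (gl F ω (hGen 2))]⟩

/-- A normal subgroup containing the scalars but not only scalars is everything. -/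
theorem normal_eq [Finite F] {N : Subgroup (GL F9 F)} (hle : N ≤ GG F ω)
    (hnorm : ∀ g ∈ GG F ω, ∀ n ∈ N, g * n * g⁻¹ ∈ N)
    (hZ : ∀ z ∈ GG F ω, (∃ x : F, (z : Matrix F9 F9 F) = x • (1 : Matrix F9 F9 F)) → z ∈ N)
    (hns : ∃ n ∈ N, ¬ ∃ x : F, (n : Matrix F9 F9 F) = x • (1 : Matrix F9 F9 F)) : N = GG F ω := by
  obtain ⟨n0, hn0, hns⟩ := hns
  have hNH : ¬ N ≤ HH F ω := by
    intro hNH
    refine hns (scalar_of_fix hf fun g hg => ?_)
    have h := hNH (hnorm g⁻¹ (inv_mem hg) n0 hn0)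
    rw [inv_inv] at h
    have h' := line_left_congr (g := g) (show line F (g⁻¹ * n0 * g) = line F 1 from HH_le_stab hf h)
    rwa [mul_one, ← mul_assoc, mul_inv_cancel_left] at h'
  let Sgen : Set (GL F9 F) := (N : Set (GL F9 F)) ∪ {x | ∃ g < 6, x = gl F ω (hGen g)}
  have hM : Subgroup.closure Sgen = GG F ω := by
    refine maximal hf ((closure_mono Set.subset_union_right)) ((closure_le _).2 ?_) ?_
    · rintro x (hx | ⟨g, hg, rfl⟩)
      · exact hle hx
      · exact HH_le_GG hf (hGen_mem hf hg)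
    · exact fun h => hNH (fun x hx => h (subset_closure (Or.inl hx)))
  set e := gl F ω (hGen 2) with he
  have heG : e ∈ GG F ω := HH_le_GG hf (hGen_mem hf (by norm_num))
  let W : Subgroup (GL F9 F) := N ⊔ Subgroup.zpowers e
  have heW : e ∈ W := mem_sup_right (mem_zpowers e)
  have hNW : N ≤ W := le_sup_left
  have hscal : ∀ c, gl F ω (scal c) ∈ N := fun c => by
    obtain ⟨-, k, hk, e', hx⟩ := gl_scal_any hf c
    rw [e']
    exact hZ _ (HH_le_GG hf (kEl_mem hf hk)) hx
  have hpow : ∀ p, gl F ω (powE p) ∈ W := fun p => by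
    obtain ⟨-, n, e', -⟩ := gl_powE hf p
    rw [e']
    exact pow_mem heW n
  have hstep : ∀ g ∈ GG F ω, g * e * g⁻¹ ∈ W → ∀ w ∈ W, g * w * g⁻¹ ∈ W := by
    intro g hg hge w hw
    have hmap : W.map (MulAut.conj g).toMonoidHom ≤ W := by
      rw [Subgroup.map_sup, MonoidHom.map_zpowers, sup_le_iff, zpowers_le]
      refine ⟨?_, hge⟩
      rintro _ ⟨n, hn, rfl⟩
      exact hNW (hnorm g hg n hn)
    exact hmap ⟨w, hw, rfl⟩
  have hn6 := check_norm
  simp only [Bool.and_eq_true] at hn6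
  have hgen : ∀ g, g < 6 → gl F ω (hGen g) * e * (gl F ω (hGen g))⁻¹ =
      gl F ω (scal (normTab.getD g 0 % 4)) * gl F ω (powE (normTab.getD g 0 / 4)) := by
    intro g hg
    have hi := of_all check_inv_h hg
    simp only [Bool.and_eq_true] at hi
    obtain ⟨u1, e1⟩ := unit_star hf (beq_eq hi.1)
    obtain ⟨u2, e2⟩ := gl_mul hf (unit_hGen hf (show 2 < 6 by norm_num)) u1
    rw [← (gl_mul hf (gl_scal_any hf _).1 (gl_powE hf _).1).2, ← beq_eq (of_all hn6.1.1 hg),
      (gl_mul hf (unit_hGen hf hg) u2).2, e2, e1, mul_assoc]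
  have hall : ∀ g ∈ GG F ω, g * e * g⁻¹ ∈ W := by
    intro g hg
    have hg' : g ∈ (Subgroup.closure Sgen).toSubmonoid := by rw [hM]; exact hg
    rw [Subgroup.closure_toSubmonoid_of_finite] at hg'
    suffices g ∈ GG F ω ∧ g * e * g⁻¹ ∈ W from this.2
    clear hg
    induction hg' using Submonoid.closure_induction with
    | mem x hx =>
      rcases hx with hx | ⟨i, hi, rfl⟩
      · exact ⟨hle hx, mul_mem (mul_mem (hNW hx) heW) (inv_mem (hNW hx))⟩
      · refine ⟨HH_le_GG hf (hGen_mem hf hi), ?_⟩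
        rw [hgen i hi]
        exact mul_mem (hNW (hscal _)) (hpow _)
    | one => exact ⟨one_mem _, by simpa using heW⟩
    | mul x y _ _ ihx ihy =>
      refine ⟨mul_mem ihx.1 ihy.1, ?_⟩
      have := hstep x ihx.1 ihx.2 _ ihy.2
      rwa [show x * y * e * (x * y)⁻¹ = x * (y * e * y⁻¹) * x⁻¹ by group]
  have hconj : ∀ i < 28, ∀ s < 80, gl F ω (conjE i s) ∈ W := fun i hi s hs => by
    rw [(unit_conjE hf hi hs).2]
    exact hall _ (mul_mem (HH_le_GG hf (uEl_mem hf hs)) (rEl_mem hf hi))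
  have h80 : ∀ x, x % 80 < 80 := fun x => Nat.mod_lt _ (by norm_num)
  have h28 : ∀ x, x % 28 < 28 := fun x => Nat.mod_lt _ (by norm_num)
  have hdiag : ∀ p ∈ [0, 1, 3].zip diagWordTab, gl F ω (hGen p.1) ∈ W := by
    intro p hp
    have h := beq_eq (List.all_eq_true.1 check_diag_words p hp)
    obtain ⟨u1, e1⟩ := gl_mul hf (unit_conjE hf (h28 p.2) (h80 (p.2 / 28))).1 (gl_powE hf (p.2 / 2240 % 3)).1
    rw [h, (gl_mul hf (gl_scal_any hf _).1 u1).2, e1]
    exact mul_mem (hNW (hscal _)) (mul_mem (hconj _ (h28 _) _ (h80 _)) (hpow _))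
  have hpair : ∀ x < 2, IsUnit (dec F ω (pairEl x)) ∧ gl F ω (pairEl x) ∈ W := by
    intro x hx
    set t := pairTab.getD x 0 with ht
    have hk : t / 5017600 < 81 := by
      have : ∀ x < 2, pairTab.getD x 0 / 5017600 < 81 := by decide +kernel
      exact this x hx
    have hki := of_all check_inv_k hk
    simp only [Bool.and_eq_true] at hki
    obtain ⟨u1, e1⟩ := unit_star hf (beq_eq hki.1)
    have hc2 := unit_conjE hf (h28 (t / 2240)) (h80 (t / 62720))
    obtain ⟨u2, e2⟩ := gl_mul hf hc2.1 u1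
    obtain ⟨u3, e3⟩ := gl_mul hf (unit_kEl hf hk) u2
    obtain ⟨u4, e4⟩ := gl_mul hf (unit_conjE hf (h28 t) (h80 (t / 28))).1 u3
    refine ⟨u4, ?_⟩
    rw [show gl F ω (pairEl x) = _ from e4, e3, e2, e1, hc2.2, ← mul_assoc (gl F ω (kEl _)) _ _]
    refine mul_mem (hconj _ (h28 _) _ (h80 _)) ?_
    have hg := mul_mem (HH_le_GG hf (kEl_mem hf hk))
      (mul_mem (HH_le_GG hf (uEl_mem hf (h80 (t / 62720)))) (rEl_mem hf (h28 (t / 2240))))
    have := hall _ hg
    convert this using 1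
    rw [he]
    group
  have hletter : ∀ t < 6, IsUnit (dec F ω (letter t)) ∧ gl F ω (letter t) ∈ W := by
    have hl : letter 0 = hGen 0 ∧ letter 1 = hGen 1 ∧ letter 2 = hGen 2 ∧ letter 3 = hGen 3 ∧
        letter 4 = pairEl 0 ∧ letter 5 = pairEl 1 := ⟨rfl, rfl, rfl, rfl, rfl, rfl⟩
    have hz : ([0, 1, 3].zip diagWordTab).map Prod.fst = [0, 1, 3] := by decide
    have hmem : ∀ g ∈ [0, 1, 3], gl F ω (hGen g) ∈ W := fun g hg => by
      rw [← hz, List.mem_map] at hg
      obtain ⟨p, hp, rfl⟩ := hg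
      exact hdiag p hp
    intro t ht
    interval_cases t
    · rw [hl.1]; exact ⟨unit_hGen hf (by norm_num), hmem 0 (by simp)⟩
    · rw [hl.2.1]; exact ⟨unit_hGen hf (by norm_num), hmem 1 (by simp)⟩
    · rw [hl.2.2.1]; exact ⟨unit_hGen hf (by norm_num), heW⟩
    · rw [hl.2.2.2.1]; exact ⟨unit_hGen hf (by norm_num), hmem 3 (by simp)⟩
    · rw [hl.2.2.2.2.1]; exact hpair 0 (by norm_num)
    · rw [hl.2.2.2.2.2]; exact hpair 1 (by norm_num)
  have hword : ∀ w : List ℕ, (∀ t ∈ w, t < 6) →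
      IsUnit (dec F ω (word w)) ∧ gl F ω (word w) ∈ W := by
    intro w hw
    induction w with
    | nil =>
      refine ⟨unit_one hf, ?_⟩
      rw [show word [] = one from rfl, gl_one hf]
      exact one_mem _
    | cons t w ih =>
      obtain ⟨u1, m1⟩ := hletter t (hw t (by simp))
      obtain ⟨u2, m2⟩ := ih fun x hx => hw x (by simp [hx])
      obtain ⟨u3, e3⟩ := gl_mul hf u1 u2
      exact ⟨u3, by rw [show word (t :: w) = mul (letter t) (word w) from rfl, e3]; exact mul_mem m1 m2⟩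
  have hHW : ∀ g < 6, gl F ω (hGen g) ∈ W := by
    have hw := check_words
    simp only [Bool.and_eq_true] at hw
    have hs := check_tab_small
    simp only [Bool.and_eq_true] at hs
    have hs' : ∀ t ∈ wordB ++ wordC, t < 6 := fun t ht =>
      Nat.le_of_ble_eq_true (List.all_eq_true.1 hs.2 t ht)
    intro g hg
    rcases Nat.lt_or_ge g 4 with h4 | h4
    · have := (hletter g (by omega)).2
      interval_cases g <;> exact this
    interval_cases g
    · rw [← beq_eq hw.1]; exact (hword _ fun t ht => hs' t (List.mem_append_left _ ht)).2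
    · rw [← beq_eq hw.2]; exact (hword _ fun t ht => hs' t (List.mem_append_right _ ht)).2
  have hGW : GG F ω ≤ W := by
    rw [← hM, closure_le]
    rintro x (hx | ⟨g, hg, rfl⟩)
    · exact hNW hx
    · exact hHW g hg
  -- elements commuting with `e` modulo `N`
  let S : Subgroup (GL F9 F) :=
    { carrier := {x | x ∈ GG F ω ∧ x * e * x⁻¹ * e⁻¹ ∈ N}
      one_mem' := ⟨one_mem _, by simp⟩
      mul_mem' := fun {a b} ha hb => ⟨mul_mem ha.1 hb.1, by
        have := mul_mem (hnorm a ha.1 _ hb.2) ha.2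
        convert this using 1
        group⟩
      inv_mem' := fun {a} ha => ⟨inv_mem ha.1, by
        have := hnorm a⁻¹ (inv_mem ha.1) _ (inv_mem ha.2)
        convert this using 1
        group⟩ }
  have hWS : W ≤ S := by
    refine sup_le (fun n hn => ⟨hle hn, ?_⟩) (zpowers_le.2 ⟨heG, by simp⟩)
    have := mul_mem hn (hnorm e heG _ (inv_mem hn))
    convert this using 1
    group
  have h4 := (hWS (hHW 4 (by norm_num))).2
  rw [hgen 4 (by norm_num), beq_eq hn6.2] at h4
  obtain ⟨-, n, hn, hn2⟩ := gl_powE hf 2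
  rw [hn, hn2 rfl] at h4
  have heN : e ∈ N := by
    have := mul_mem (inv_mem (hscal (normTab.getD 4 0 % 4))) h4
    convert this using 1
    rw [he, pow_two]
    group
  refine le_antisymm hle (hGW.trans (sup_le le_rfl (zpowers_le.2 heN)))

/-- The central quotient is simple. -/
theorem simple_quotient [Fintype F] (hF : Fintype.card F = 4) :
    IsSimpleGroup (GG F ω ⧸ Subgroup.center (GG F ω)) := by
  classical
  have hcard : Nat.card (GG F ω ⧸ Subgroup.center (GG F ω)) = 50232960 := by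
    have := Subgroup.card_eq_card_quotient_mul_card_subgroup (Subgroup.center (GG F ω))
    rw [card_GG hf, card_center hf hF] at this
    omega
  haveI : Nontrivial (GG F ω ⧸ Subgroup.center (GG F ω)) :=
    Finite.one_lt_card_iff_nontrivial.1 (by rw [hcard]; norm_num)
  refine ⟨fun H hH => or_iff_not_imp_left.2 fun hne => ?_⟩
  let N' := H.comap (QuotientGroup.mk' (Subgroup.center (GG F ω)))
  have hN' : N'.Normal := hH.comap _
  have hCN : Subgroup.center (GG F ω) ≤ N' := fun c hc => by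
    rw [Subgroup.mem_comap, QuotientGroup.mk'_apply, (QuotientGroup.eq_one_iff c).2 hc]
    exact one_mem _
  have hscalc : ∀ z : GG F ω, (∃ x : F, ((z : GL F9 F) : Matrix F9 F9 F) = x • (1 : Matrix F9 F9 F)) →
      z ∈ Subgroup.center (GG F ω) := by
    rintro z ⟨x, hx⟩
    refine Subgroup.mem_center_iff.2 fun g => Subtype.ext (Units.ext ?_)
    rw [Subgroup.coe_mul, Subgroup.coe_mul, Units.val_mul, Units.val_mul, hx, Matrix.mul_smul,
      Matrix.smul_mul, mul_one, one_mul]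
  have hns : ∃ z ∈ N', ¬ ∃ x : F, ((z : GL F9 F) : Matrix F9 F9 F) = x • (1 : Matrix F9 F9 F) := by
    by_contra hcon
    push_neg at hcon
    refine hne (eq_bot_iff.2 fun q hq => ?_)
    obtain ⟨z, rfl⟩ := QuotientGroup.mk'_surjective _ q
    rw [Subgroup.mem_bot, QuotientGroup.mk'_apply, QuotientGroup.eq_one_iff]
    exact hscalc z (hcon z hq)
  have hN : N'.map (GG F ω).subtype = GG F ω := by
    refine normal_eq hf (Subgroup.map_subtype_le _) ?_ ?_ ?_
    · rintro g hg _ ⟨n, hn, rfl⟩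
      exact ⟨⟨g, hg⟩ * n * ⟨g, hg⟩⁻¹, hN'.conj_mem n hn _, rfl⟩
    · exact fun z hz hx => ⟨⟨z, hz⟩, hCN (hscalc ⟨z, hz⟩ hx), rfl⟩
    · obtain ⟨z, hz, hz'⟩ := hns
      exact ⟨z, ⟨z, hz, rfl⟩, hz'⟩
  refine eq_top_iff.2 fun q _ => ?_
  obtain ⟨z, rfl⟩ := QuotientGroup.mk'_surjective _ q
  have hz : (z : GL F9 F) ∈ N'.map (GG F ω).subtype := by rw [hN]; exact z.2
  obtain ⟨w, hw, e⟩ := hz
  rw [← Subtype.ext (a1 := w) (a2 := z) e]
  exact hw

end CfsgLib.Janko3
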