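import Cfsg.Agent.Lib.Janko3.Data

/-!
The codes of the generators denote the matrices of the definitions.
-/

set_option autoImplicit false
set_option maxRecDepth 100000
set_option maxHeartbeats 0

namespace CfsgLib.Janko3

open Cfsg.Spor Matrix

/-- Power of `ω` as a pair of bits. -/
def powBits (n : ZMod 3) : Bool × Bool :=
  if n = 0 then (true, false) else if n = 1 then (false, true) else (true, true)

/-- Expected entry of `A_Z`. -/
def entA (Z z w : F9) : Bool × Bool :=
  if z = w then powBits (Z.1 * z.1 + Z.2 * z.2) else (false, false)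

/-- Expected entry of `E_Z`. -/
def entE (Z z w : F9) : Bool × Bool :=
  if z = w then powBits ((Z.1 - z.1) ^ 2 + (Z.2 - z.2) ^ 2) else (false, false)

/-- Expected coefficient of `D_Z`. -/
def entLam (Z z : F9) : Bool × Bool :=
  if z = 0 then (true, false)
  else if F9.div Z z = F9.I - F9.one then (false, true)
  else if F9.div Z z = -F9.I - F9.one then (true, true)
  else (true, false)

/-- Expected entry of `D_Z`. -/
def entD (Z z w : F9) : Bool × Bool := if z = w + Z then entLam Z w else (false, false)

/-- Expected entry of `B_Z`. -/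
def entB (Z z w : F9) : Bool × Bool := if z = F9.mul Z w then (true, false) else (false, false)

/-- Expected entry of `C_Z`. -/
def entC (Z z w : F9) : Bool × Bool :=
  if w = 0 then (if z = 0 then (true, false) else (false, false))
  else if z = -F9.div Z w ∨ z = F9.mul F9.I (F9.div Z w) ∨ z = -F9.mul F9.I (F9.div Z w) then
    (true, false)
  else (false, false)

/-- The bits of an entry. -/
def bitsAt (M : ℕ) (z w : F9) : Bool × Bool :=
  (bit M (18 * ix z + 2 * ix w), bit M (18 * ix z + 2 * ix w + 1))

theorem bits_A : ∀ Z z w : F9, bitsAt (gA.getD (ix Z) 0) z w = entA Z z w := by decide +kernel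

theorem bits_E : ∀ Z z w : F9, bitsAt (gE.getD (ix Z) 0) z w = entE Z z w := by decide +kernel

theorem bits_D : ∀ Z z w : F9, bitsAt (gD.getD (ix Z) 0) z w = entD Z z w := by decide +kernel

theorem bits_B : ∀ Z z w : F9, Z ≠ 0 → bitsAt (gB.getD (ix Z) 0) z w = entB Z z w := by
  decide +kernel

theorem bits_C : ∀ Z z w : F9, Z ≠ 0 → bitsAt (gC.getD (ix Z) 0) z w = entC Z z w := by
  decide +kernel

section

variable {F : Type*} [Field F] {ω : F} (h2 : (2 : F) = 0) (hω : ω ^ 2 + ω + 1 = 0)

theorem dec_bits (M : ℕ) (z w : F9) :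
    dec F ω M z w = el F ω (bitsAt M z w).1 (bitsAt M z w).2 := by
  have := ix_lt w
  simp only [dec, Matrix.of_apply, ent, bitsAt, bit_eq]
  rw [testBit_row (by omega), testBit_row (by omega), Nat.add_assoc]

include h2 hω in
theorem el_powBits (n : ZMod 3) : el F ω (powBits n).1 (powBits n).2 = omegaPow F ω n := by
  have : n = 0 ∨ n = 1 ∨ n = 2 := by revert n; decide
  rcases this with rfl | rfl | rfl
  · simp [powBits, el, omegaPow]
  · simp [powBits, el, omegaPow, show (1 : ZMod 3).val = 1 from rfl]
  · simp [powBits, el, omegaPow, show (2 : ZMod 3).val = 2 from rfl,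
      show (2 : ZMod 3) ≠ 0 by decide, show (2 : ZMod 3) ≠ 1 by decide]
    linear_combination -hω + (1 + ω) * h2

include h2 hω in
theorem dec_gA (Z : F9) : dec F ω (gA.getD (ix Z) 0) = j3A F ω Z := by
  ext z w
  rw [dec_bits, bits_A, entA, j3A, Matrix.diagonal_apply]
  split_ifs with h
  · exact el_powBits h2 hω _
  · simp [el]

include h2 hω in
theorem dec_gE (Z : F9) : dec F ω (gE.getD (ix Z) 0) = j3E F ω Z := by
  ext z w
  rw [dec_bits, bits_E, entE, j3E, Matrix.diagonal_apply]
  split_ifs with h
  · exact el_powBits h2 hω _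
  · simp [el]

include h2 hω in
theorem dec_gD (Z : F9) : dec F ω (gD.getD (ix Z) 0) = j3D F ω Z := by
  ext z w
  rw [dec_bits, bits_D, entD, j3D, Matrix.of_apply, entLam, j3Lam]
  have : (ω ^ 2 : F) = 1 + ω := by linear_combination hω - (1 + ω) * h2
  split_ifs <;> simp [el, this]

theorem dec_gB (Z : F9) (hZ : Z ≠ 0) : dec F ω (gB.getD (ix Z) 0) = j3B F Z := by
  ext z w
  rw [dec_bits, bits_B Z z w hZ, entB, j3B, Matrix.of_apply]
  split_ifs <;> simp [el]

theorem dec_gC (Z : F9) (hZ : Z ≠ 0) : dec F ω (gC.getD (ix Z) 0) = j3C F Z := by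
  ext z w
  rw [dec_bits, bits_C Z z w hZ, entC, j3C, Matrix.of_apply]
  split_ifs <;> simp [el]

end

end CfsgLib.Janko3
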