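import Cfsg.Agent.Lib.Janko3.ChecksSteps
import Cfsg.Agent.Lib.Janko3.Generators

/-!
Matrix codes as invertible matrices, lines, and the subgroup generated by the stabiliser generators.
-/

set_option autoImplicit false
set_option linter.unusedSectionVars false

namespace CfsgLib.Janko3

open Cfsg.Spor Matrix Subgroup
open scoped MatrixGroups

/-- Reading a Boolean check over a range. -/
theorem of_all {n : ℕ} {f : ℕ → Bool} (h : (List.range n).all f = true) {i : ℕ} (hi : i < n) :
    f i = true := List.all_eq_true.1 h i (List.mem_range.2 hi)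

theorem beq_eq {a b : ℕ} (h : Nat.beq a b = true) : a = b := Nat.eq_of_beq_eq_true h

/-- The standing assumptions on the field. -/
structure Field4 (F : Type*) [Field F] (ω : F) : Prop where
  two : (2 : F) = 0
  omega : ω ^ 2 + ω + 1 = 0

theorem field4_of_card {F : Type*} [Field F] [Fintype F] (hF : Fintype.card F = 4) {ω : F}
    (hω : ω ^ 2 + ω + 1 = 0) : Field4 F ω := by
  refine ⟨?_, hω⟩
  have h : ((Fintype.card F : ℕ) : F) = 0 := FiniteField.cast_card_eq_zero F
  rw [hF] at h
  push_cast at h
  have h' : (2 : F) * 2 = 0 := by linear_combination h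
  exact (mul_eq_zero.1 h').elim id id

variable (F : Type*) [Field F] (ω : F)

open Classical in
/-- The invertible matrix of a code (junk: `1`). -/
noncomputable def gl (c : ℕ) : GL F9 F := if h : IsUnit (dec F ω c) then h.unit else 1

/-- The line spanned by a vector code. -/
noncomputable def pt (v : ℕ) : Submodule F (F9 → F) := Submodule.span F {vdec F ω v}

/-- The first basis vector. -/
def e0 : F9 → F := Pi.single (0 : F9) (1 : F)

/-- The image of the line of the first basis vector. -/
noncomputable def line (g : GL F9 F) : Submodule F (F9 → F) :=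
  Submodule.span F {(g : Matrix F9 F9 F) *ᵥ e0 F}

/-- The line stabiliser, by generators. -/
noncomputable def HH : Subgroup (GL F9 F) :=
  Subgroup.closure {x | ∃ g < 6, x = gl F ω (hGen g)}

/-- The whole group, by generators. -/
noncomputable def GG : Subgroup (GL F9 F) :=
  Subgroup.closure ((HH F ω : Set (GL F9 F)) ∪ {gl F ω gen1})

variable {F ω} (hf : Field4 F ω)
include hf

theorem isUnit_dec {a b : ℕ} (h : mul a b = one) : IsUnit (dec F ω a) :=
  IsUnit.of_mul_eq_one (dec F ω b) (by rw [← dec_mul hf.two hf.omega, h, dec_one])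

theorem gl_coe {a : ℕ} (h : IsUnit (dec F ω a)) :
    ((gl F ω a : GL F9 F) : Matrix F9 F9 F) = dec F ω a := by
  rw [gl, dif_pos h]; exact h.unit_spec

theorem gl_mul {a b : ℕ} (ha : IsUnit (dec F ω a)) (hb : IsUnit (dec F ω b)) :
    IsUnit (dec F ω (mul a b)) ∧ gl F ω (mul a b) = gl F ω a * gl F ω b := by
  have h : IsUnit (dec F ω (mul a b)) := by rw [dec_mul hf.two hf.omega]; exact ha.mul hb
  refine ⟨h, Units.ext ?_⟩
  rw [Units.val_mul, gl_coe hf h, gl_coe hf ha, gl_coe hf hb, dec_mul hf.two hf.omega]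

theorem unit_one : IsUnit (dec F ω one) := by rw [dec_one]; exact isUnit_one

theorem gl_one : gl F ω one = 1 := by
  refine Units.ext ?_
  rw [gl_coe hf (unit_one hf), dec_one]; rfl

theorem gl_inv {a b : ℕ} (h : mul a b = one) (hb : IsUnit (dec F ω b)) :
    gl F ω b = (gl F ω a)⁻¹ := by
  refine eq_inv_of_mul_eq_one_right ?_
  rw [← (gl_mul hf (isUnit_dec hf h) hb).2, h, gl_one hf]

theorem unit_star {a : ℕ} (h : mul a (star a) = one) :
    IsUnit (dec F ω (star a)) ∧ gl F ω (star a) = (gl F ω a)⁻¹ := by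
  have h1 : dec F ω a * dec F ω (star a) = 1 := by rw [← dec_mul hf.two hf.omega, h, dec_one]
  have hb : IsUnit (dec F ω (star a)) :=
    IsUnit.of_mul_eq_one (dec F ω a) (mul_eq_one_comm.1 h1)
  exact ⟨hb, gl_inv hf h hb⟩

theorem unit_hGen {g : ℕ} (hg : g < 6) : IsUnit (dec F ω (hGen g)) := by
  have h := of_all check_inv_h hg
  simp only [Bool.and_eq_true] at h
  exact isUnit_dec hf (beq_eq h.1)

theorem unit_kEl {k : ℕ} (hk : k < 81) : IsUnit (dec F ω (kEl k)) := by
  have h := of_all check_inv_k hk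
  simp only [Bool.and_eq_true] at h
  exact isUnit_dec hf (beq_eq h.1)

theorem unit_uEl {s : ℕ} (hs : s < 80) : IsUnit (dec F ω (uEl s)) := by
  have h := of_all check_inv hs
  simp only [Bool.and_eq_true] at h
  exact isUnit_dec hf (beq_eq h.2)

theorem gl_tEl {s : ℕ} (hs : s < 80) :
    IsUnit (dec F ω (tEl s)) ∧ gl F ω (tEl s) = (gl F ω (uEl s))⁻¹ := by
  have h := of_all check_inv hs
  simp only [Bool.and_eq_true] at h
  exact ⟨isUnit_dec hf (beq_eq h.1), gl_inv hf (beq_eq h.2) (isUnit_dec hf (beq_eq h.1))⟩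

theorem unit_rEl {j : ℕ} (hj : j < 28) : IsUnit (dec F ω (rEl j)) :=
  isUnit_dec hf (beq_eq (of_all check_inv_rep hj))

theorem base : gl F ω (uEl 0) = 1 ∧ gl F ω (kEl 0) = 1 ∧ gl F ω (rEl 0) = 1 ∧ rEl 1 = gen1 ∧
    IsUnit (dec F ω gen1) := by
  have h := check_base
  simp only [Bool.and_eq_true] at h
  exact ⟨by rw [beq_eq h.1.1.1.1, gl_one hf], by rw [beq_eq h.1.1.1.2, gl_one hf],
    by rw [beq_eq h.1.1.2, gl_one hf], beq_eq h.1.2, isUnit_dec hf (beq_eq h.2)⟩

theorem line_gl {a : ℕ} (ha : IsUnit (dec F ω a)) : line F (gl F ω a) = pt F ω (col a) := by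
  rw [line, pt, gl_coe hf ha, e0, Matrix.mulVec_single_one, vdec_col]
  rfl

theorem pt_norm {v : ℕ} (h : norm v ≠ 0) : pt F ω (norm v) = pt F ω v :=
  span_norm hf.two hf.omega h

theorem vdec_zero_of_lt {v : ℕ} (hv : normed v = true) : vdec F ω v ≠ 0 := by
  intro h
  simp only [normed, Bool.and_eq_true, Nat.blt_eq] at hv
  obtain ⟨i, -, hi, hi1, -⟩ := normedAux_spec (F := F) (ω := ω) v 9 0 hv.1
  have hs : ∀ i < 9, ∃ z : F9, ix z = i := by decide
  obtain ⟨z, rfl⟩ := hs i (by omega)
  exact one_ne_zero (hi1.symm.trans (congrFun h z))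

theorem pt_injective {u v : ℕ} (hu : normed u = true) (hv : normed v = true)
    (h : pt F ω u = pt F ω v) : u = v := by
  have h1 : vdec F ω u ∈ pt F ω v := h ▸ Submodule.mem_span_singleton_self _
  obtain ⟨c, hc⟩ := Submodule.mem_span_singleton.1 h1
  exact normed_line_injective hf.two hf.omega hu hv hc.symm

theorem norm_ne_zero {v : ℕ} (h : normed (norm v) = true) : norm v ≠ 0 := by
  intro e
  rw [e] at h
  exact absurd h (by decide)

end CfsgLib.Janko3

namespace CfsgLib.Janko3

open Cfsg.Spor Matrix Subgroup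

variable {F : Type*} [Field F]

theorem line_mul (g h : GL F9 F) : line F (g * h) =
    (line F h).map (Matrix.mulVecLin (g : Matrix F9 F9 F)) := by
  simp only [line, Submodule.map_span, Set.image_singleton, Matrix.mulVecLin_apply, Units.val_mul,
    Matrix.mulVec_mulVec]

theorem line_left_congr {g h h' : GL F9 F} (e : line F h = line F h') :
    line F (g * h) = line F (g * h') := by rw [line_mul, line_mul, e]

theorem line_left_cancel {g h h' : GL F9 F} (e : line F (g * h) = line F (g * h')) :
    line F h = line F h' := by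
  have := line_left_congr (g := g⁻¹) e
  rwa [inv_mul_cancel_left, inv_mul_cancel_left] at this

end CfsgLib.Janko3
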