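import Cfsg.Agent.Lib.Janko3.CentChecks

/-!
Kernel evaluation for a bound on the centraliser of an involution fixing the first line.
-/

set_option autoImplicit false
set_option maxRecDepth 100000
set_option maxHeartbeats 0
set_option Elab.async false

namespace CfsgLib.Janko3

/-- A conjugate of the central involution fixing the first line. -/
def tMoved : ℕ := mul (star moveEl) (mul tEl₂ moveEl)

/-- The image of a vector under a matrix. -/
def imgCode (a v : ℕ) : ℕ :=
  norm (col (mul a (pack fun i => (v >>> (2 * i)) &&& 3)))

/-- A line which may be fixed. -/
def mayFix (v : ℕ) : Bool := !normed (imgCode tMoved v) || Nat.beq (imgCode tMoved v) v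

/-- The listed lines, without repetition, with some orbit representative in a segment. -/
def orbLines (lo : ℕ) : List ℕ :=
  ((orbTab.drop lo).take 77).flatMap fun r => (orbImgs r).dedup

/-- An element of the line stabiliser commuting with the involution is listed. -/
def commOK (i : ℕ) : Bool :=
  !Nat.beq (mul (hEl (i % 81) (i / 81)) tMoved) (mul tMoved (hEl (i % 81) (i / 81))) ||
    commIdx.any (fun e => Nat.beq e i)

theorem check_move : (Nat.beq (moveEl) (dcVal moveDec) && Nat.beq (star moveEl) (dcVal moveInvDec) &&
    Nat.beq (mul moveEl (star moveEl)) one && Nat.beq (mul tMoved tMoved) one &&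
    normed (norm (col tMoved)) && Nat.beq (norm (col tMoved)) 1) = true := by
  decide +kernel

theorem check_commIdx : Nat.ble commIdx.length 60 = true := by decide +kernel

theorem check_fixed0 : Nat.ble ((orbLines 0).countP mayFix) 15 = true := by decide +kernel

theorem check_fixed1 : Nat.ble ((orbLines 77).countP mayFix) 15 = true := by decide +kernel

theorem check_fixed2 : Nat.ble ((orbLines 154).countP mayFix) 15 = true := by decide +kernel

theorem check_fixed3 : Nat.ble ((orbLines 231).countP mayFix) 15 = true := by decide +kernel

end CfsgLib.Janko3
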