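import Cfsg.Agent.Lib.Janko3.BoundChecks

/-!
Kernel evaluation of the commuting elements of the line stabiliser, part 1.
-/

set_option autoImplicit false
set_option maxRecDepth 100000
set_option maxHeartbeats 0
set_option Elab.async false

namespace CfsgLib.Janko3

theorem check_comm0 : ((List.range 360).all fun i => commOK (0 + i)) = true := by decide +kernel

theorem check_comm1 : ((List.range 360).all fun i => commOK (360 + i)) = true := by decide +kernel

theorem check_comm2 : ((List.range 360).all fun i => commOK (720 + i)) = true := by decide +kernel

theorem check_comm3 : ((List.range 360).all fun i => commOK (1080 + i)) = true := by decide +kernel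

theorem check_comm4 : ((List.range 360).all fun i => commOK (1440 + i)) = true := by decide +kernel

theorem check_comm5 : ((List.range 360).all fun i => commOK (1800 + i)) = true := by decide +kernel

end CfsgLib.Janko3
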