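import Cfsg.Agent.Lib.Janko3.BoundChecks

/-!
Kernel evaluation of the commuting elements of the line stabiliser, part 2.
-/

set_option autoImplicit false
set_option maxRecDepth 100000
set_option maxHeartbeats 0
set_option Elab.async false

namespace CfsgLib.Janko3

theorem check_comm6 : ((List.range 360).all fun i => commOK (2160 + i)) = true := by decide +kernel

theorem check_comm7 : ((List.range 360).all fun i => commOK (2520 + i)) = true := by decide +kernel

theorem check_comm8 : ((List.range 360).all fun i => commOK (2880 + i)) = true := by decide +kernel

theorem check_comm9 : ((List.range 360).all fun i => commOK (3240 + i)) = true := by decide +kernel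

theorem check_comm10 : ((List.range 360).all fun i => commOK (3600 + i)) = true := by decide +kernel

theorem check_comm11 : ((List.range 360).all fun i => commOK (3960 + i)) = true := by decide +kernel

end CfsgLib.Janko3
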