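import Cfsg.Agent.Lib.Janko3.BoundChecks

/-!
Kernel evaluation of the commuting elements of the line stabiliser, part 3.
-/

set_option autoImplicit false
set_option maxRecDepth 100000
set_option maxHeartbeats 0
set_option Elab.async false

namespace CfsgLib.Janko3

theorem check_comm12 : ((List.range 360).all fun i => commOK (4320 + i)) = true := by decide +kernel

theorem check_comm13 : ((List.range 360).all fun i => commOK (4680 + i)) = true := by decide +kernel

theorem check_comm14 : ((List.range 360).all fun i => commOK (5040 + i)) = true := by decide +kernel

theorem check_comm15 : ((List.range 360).all fun i => commOK (5400 + i)) = true := by decide +kernel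

theorem check_comm16 : ((List.range 360).all fun i => commOK (5760 + i)) = true := by decide +kernel

theorem check_comm17 : ((List.range 360).all fun i => commOK (6120 + i)) = true := by decide +kernel

end CfsgLib.Janko3
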