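import Cfsg.Agent.Lib.Janko3.BoundChecks

/-!
Kernel evaluation of the fixed lines, part 2.
-/

set_option autoImplicit false
set_option maxRecDepth 100000
set_option maxHeartbeats 0
set_option Elab.async false

namespace CfsgLib.Janko3

theorem check_fixed4 : Nat.ble ((orbLines 308).countP mayFix) 15 = true := by decide +kernel

theorem check_fixed5 : Nat.ble ((orbLines 385).countP mayFix) 15 = true := by decide +kernel

theorem check_fixed6 : Nat.ble ((orbLines 462).countP mayFix) 15 = true := by decide +kernel

theorem check_fixed7 : Nat.ble ((orbLines 539).countP mayFix) 15 = true := by decide +kernel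

end CfsgLib.Janko3
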