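import Cfsg.Agent.Lib.Janko3.BoundChecksComm0
import Cfsg.Agent.Lib.Janko3.BoundChecksComm1
import Cfsg.Agent.Lib.Janko3.BoundChecksComm2
import Cfsg.Agent.Lib.Janko3.BoundChecksFixed0
import Cfsg.Agent.Lib.Janko3.BoundChecksFixed1

/-!
An upper bound for the centraliser of the central involution: the centraliser of a conjugate fixing
the first line permutes the at most 180 lines of the orbit fixed by it, with point stabilisers of
order at most 60 in the triple cover.
-/

set_option autoImplicit false
set_option linter.unusedSectionVars false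
set_option maxRecDepth 20000

namespace CfsgLib.Janko3

open Cfsg Cfsg.Spor Matrix Subgroup

theorem check_comm {i : ℕ} (hi : i < 6480) : commOK i = true := by
  have key : ∀ j, ((List.range 360).all fun k => commOK (360 * j + k)) = true →
      i / 360 = j → commOK i = true := by
    intro j h e
    have := List.all_eq_true.1 h (i % 360) (List.mem_range.2 (Nat.mod_lt _ (by norm_num)))
    rwa [← e, Nat.div_add_mod] at this
  have h : i / 360 < 18 := by omega
  generalize hj : i / 360 = j at h
  interval_cases j
  exacts [key 0 check_comm0 hj, key 1 check_comm1 hj, key 2 check_comm2 hj, key 3 check_comm3 hj,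
    key 4 check_comm4 hj, key 5 check_comm5 hj, key 6 check_comm6 hj, key 7 check_comm7 hj,
    key 8 check_comm8 hj, key 9 check_comm9 hj, key 10 check_comm10 hj, key 11 check_comm11 hj,
    key 12 check_comm12 hj, key 13 check_comm13 hj, key 14 check_comm14 hj, key 15 check_comm15 hj,
    key 16 check_comm16 hj, key 17 check_comm17 hj]

/-- The lines which may be fixed. -/
def fixedCodes : List ℕ :=
  (List.range 12).flatMap fun s => (orbLines (77 * s)).filter mayFix

theorem fixedCodes_length : fixedCodes.length ≤ 180 := by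
  have h : ∀ l : List ℕ, ∀ b, Nat.ble (l.countP mayFix) b = true → (l.filter mayFix).length ≤ b :=
    fun l b h => by rw [← List.countP_eq_length_filter]; exact Nat.le_of_ble_eq_true h
  rw [fixedCodes, show List.range 12 = [0,1,2,3,4,5,6,7,8,9,10,11] by rfl]
  simp only [List.flatMap_cons, List.flatMap_nil, List.length_append, List.length_nil]
  have := h _ _ check_fixed0; have := h _ _ check_fixed1; have := h _ _ check_fixed2
  have := h _ _ check_fixed3; have := h _ _ check_fixed4; have := h _ _ check_fixed5
  have := h _ _ check_fixed6; have := h _ _ check_fixed7; have := h _ _ check_fixed8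
  have := h _ _ check_fixed9; have := h _ _ check_fixed10; have := h _ _ check_fixed11
  simp only [show 77 * 0 = 0 by rfl, show 77 * 1 = 77 by rfl, show 77 * 2 = 154 by rfl,
    show 77 * 3 = 231 by rfl, show 77 * 4 = 308 by rfl, show 77 * 5 = 385 by rfl,
    show 77 * 6 = 462 by rfl, show 77 * 7 = 539 by rfl, show 77 * 8 = 616 by rfl,
    show 77 * 9 = 693 by rfl, show 77 * 10 = 770 by rfl, show 77 * 11 = 847 by rfl]
  omega

theorem mem_fixedCodes {r v : ℕ} (hr : r ∈ orbTab) (hv : v ∈ orbImgs r) (hf : mayFix v = true) :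
    v ∈ fixedCodes := by
  obtain ⟨x, hx, e⟩ := orb_index hr
  have hlen : orbTab.length = 918 := by
    have h := check_orb_sorted
    simp only [Bool.and_eq_true] at h
    exact beq_eq h.1
  rw [fixedCodes, List.mem_flatMap]
  refine ⟨x / 77, List.mem_range.2 (by omega), List.mem_filter.2 ⟨?_, hf⟩⟩
  rw [orbLines, List.mem_flatMap]
  refine ⟨r, ?_, List.mem_dedup.2 hv⟩
  rw [List.mem_iff_getElem]
  refine ⟨x % 77, by rw [List.length_take, List.length_drop, hlen]; omega, ?_⟩
  rw [List.getElem_take, List.getElem_drop]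
  rw [orb, List.getD_eq_getElem _ _ (by omega)] at e
  rw [← e]
  congr 1
  omega

variable {F : Type*} [Field F] {ω : F} (hf : Field4 F ω)
include hf

theorem good_tEl : Good F ω tEl₂ := by
  have h := check_tabA
  simp only [Tab.ok, Bool.and_eq_true] at h
  unfold tEl₂ aEl
  exact (Tab.good hf h.1.1 1).1

theorem moved_facts : Good F ω moveEl ∧ Good F ω (star moveEl) ∧ Good F ω tMoved ∧
    qEl F ω tMoved = (qEl F ω moveEl)⁻¹ * qEl F ω tEl₂ * qEl F ω moveEl := by
  have h := check_move
  simp only [Bool.and_eq_true] at h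
  have g1 : Good F ω moveEl := by rw [beq_eq h.1.1.1.1.1]; exact good_dc hf _
  have g2 : Good F ω (star moveEl) := by rw [beq_eq h.1.1.1.1.2]; exact good_dc hf _
  have e : qEl F ω (star moveEl) = (qEl F ω moveEl)⁻¹ := by
    refine eq_inv_of_mul_eq_one_right ?_
    rw [← qEl_mul' hf g1 g2, beq_eq h.1.1.1.2, (good_one hf).2]
  obtain ⟨g3, e3⟩ := good_mul hf (good_tEl hf) g1
  obtain ⟨g4, e4⟩ := good_mul hf g2 g3
  exact ⟨g1, g2, g4, by rw [tMoved, e4, e3, e, mul_assoc]⟩

/-- The centraliser of the moved involution in the triple cover is small. -/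
theorem card_cent_cover [Finite F] :
    Nat.card (Subgroup.centralizer
      ({⟨gl F ω tMoved, (moved_facts hf).2.2.1.1.2⟩} : Set (GG F ω))) ≤ 10800 := by
  classical
  obtain ⟨-, -, gT, -⟩ := moved_facts hf
  have hu := gT.1.1
  have h := check_move
  simp only [Bool.and_eq_true] at h
  have hline : line F (gl F ω tMoved) = line F 1 := by
    have hn := h.1.2
    rw [line_gl hf hu, line_one hf, ← pt_norm hf (norm_ne_zero hf hn), beq_eq h.2]
  set C := Subgroup.centralizer ({⟨gl F ω tMoved, gT.1.2⟩} : Set (GG F ω))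
  have hcomm : ∀ g : C, gl F ω tMoved * ((g : GG F ω) : GL F9 F) =
      ((g : GG F ω) : GL F9 F) * gl F ω tMoved := fun g =>
    (congrArg Subtype.val (Subgroup.mem_centralizer_singleton_iff.1 g.2)).symm
  have hcode : ∀ g : C, ∃ v ∈ fixedCodes, line F ((g : GG F ω) : GL F9 F) = pt F ω v := by
    intro g
    have hmem : line F ((g : GG F ω) : GL F9 F) ∈ orbit F ω := ⟨_, (g : GG F ω).2, rfl⟩
    rw [orbit_eq hf] at hmem
    obtain ⟨v, ⟨r, hr, hv⟩, e⟩ := hmem
    refine ⟨v, mem_fixedCodes hr hv ?_, e.symm⟩
    simp only [mayFix, Bool.or_eq_true, Bool.not_eq_true']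
    cases hn : normed (imgCode tMoved v)
    · left; rfl
    right
    have himg : img (gl F ω tMoved) (pt F ω v) = pt F ω v := by
      rw [e, img_line, hcomm g, line_left_congr hline, mul_one]
    rw [img_pt hf hu, ← pt_norm hf (v := col _) (norm_ne_zero hf hn)] at himg
    rw [show imgCode tMoved v = v from pt_injective hf hn (normed_imgs hr hv).1 himg]
    exact Nat.beq_refl v
  choose v hv hve using hcode
  let r : ℕ → C := fun w => if h : ∃ g, v g = w then h.choose else 1
  have hidx : ∀ g : C, ∃ i ∈ commIdx, (((r (v g))⁻¹ * g : C) : GG F ω) =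
      (⟨gl F ω (kEl (i % 81)) * gl F ω (uEl (i / 81 % 80)), HH_le_GG hf (mul_mem
        (kEl_mem hf (Nat.mod_lt _ (by norm_num))) (uEl_mem hf (Nat.mod_lt _ (by norm_num))))⟩ :
        GG F ω) := by
    intro g
    have hr : v (r (v g)) = v g := by
      simp only [r, dif_pos (⟨g, rfl⟩ : ∃ g', v g' = v g)]
      exact Exists.choose_spec (⟨g, rfl⟩ : ∃ g', v g' = v g)
    set d := (r (v g))⁻¹ * g with hd
    have hl : line F ((d : GG F ω) : GL F9 F) = line F 1 := by
      refine line_left_cancel (g := (((r (v g)) : GG F ω) : GL F9 F)) ?_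
      rw [mul_one]
      have : (((r (v g)) : GG F ω) : GL F9 F) * ((d : GG F ω) : GL F9 F) =
          ((g : GG F ω) : GL F9 F) := by
        simp [hd]
      rw [this, hve, hve, hr]
    obtain ⟨k, hk, s, hs, e⟩ := mem_HH hf (stab_eq hf (d : GG F ω).2 hl)
    have e1 : (k + 81 * s) % 81 = k := by omega
    have e2 : (k + 81 * s) / 81 = s := by omega
    refine ⟨k + 81 * s, ?_, ?_⟩
    · have hc := check_comm (show k + 81 * s < 6480 by omega)
      simp only [commOK, e1, e2, Bool.or_eq_true, Bool.not_eq_true', List.any_eq_true] at hc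
      rcases hc with hc | ⟨x, hx, hc⟩
      · exfalso
        obtain ⟨u1, q1⟩ := gl_hEl hf hk hs
        obtain ⟨u2, q2⟩ := gl_mul hf u1 hu
        obtain ⟨u3, q3⟩ := gl_mul hf hu u1
        have : mul (hEl k s) tMoved = mul tMoved (hEl k s) := by
          refine code_eq_of_dec hf.two hf.omega (mul_lt _ _) (mul_lt _ _) ?_
          rw [← gl_coe hf u2, ← gl_coe hf u3, q2, q3, q1, ← e, hcomm d]
        rw [this, Nat.beq_refl] at hc
        cases hc
      · exact beq_eq hc ▸ hx
    · apply Subtype.ext
      show ((d : GG F ω) : GL F9 F) = _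
      simp only [e1, show (k + 81 * s) / 81 % 80 = s by rw [e2]; exact Nat.mod_eq_of_lt hs]
      exact e
  choose i hi hie using hidx
  have hinj : Function.Injective
      (fun g : C => ((⟨v g, List.mem_toFinset.2 (hv g)⟩ : fixedCodes.toFinset),
        (⟨i g, List.mem_toFinset.2 (hi g)⟩ : commIdx.toFinset))) := by
    intro g g' h
    have h1 : v g = v g' := congrArg (fun p => ((p.1 : fixedCodes.toFinset) : ℕ)) h
    have h2 : i g = i g' := congrArg (fun p => ((p.2 : commIdx.toFinset) : ℕ)) h
    have h3 : (r (v g))⁻¹ * g = (r (v g'))⁻¹ * g' := by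
      apply Subtype.ext
      rw [hie g, hie g']
      apply Subtype.ext
      simp only [h2]
    rw [h1] at h3
    exact mul_left_cancel h3
  refine (Nat.card_le_card_of_injective _ hinj).trans ?_
  rw [Nat.card_prod, Nat.card_eq_fintype_card, Nat.card_eq_fintype_card, Fintype.card_coe,
    Fintype.card_coe]
  calc fixedCodes.toFinset.card * commIdx.toFinset.card ≤ 180 * 60 :=
        Nat.mul_le_mul ((List.toFinset_card_le _).trans fixedCodes_length)
          ((List.toFinset_card_le _).trans (Nat.le_of_ble_eq_true check_commIdx))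
    _ = 10800 := rfl

/-- The centraliser of the central involution has order at most 3600. -/
theorem card_cent_le [Fintype F] (hF : Fintype.card F = 4) :
    Nat.card (Subgroup.centralizer ({qEl F ω tEl₂} : Set (QQ F ω))) ≤ 3600 := by
  classical
  obtain ⟨-, -, gT, eT⟩ := moved_facts hf
  set T : GG F ω := ⟨gl F ω tMoved, gT.1.2⟩ with hT
  set q := QuotientGroup.mk' (Subgroup.center (GG F ω)) with hqdef
  have hq : qEl F ω tMoved = q T := by rw [qEl, dif_pos gT.1.2]; rfl
  have h := check_move
  simp only [Bool.and_eq_true] at h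
  have hT2 : T * T = 1 := by
    apply Subtype.ext
    show gl F ω tMoved * gl F ω tMoved = 1
    rw [← (gl_mul hf gT.1.1 gT.1.1).2, beq_eq h.1.1.2, gl_one hf]
  have hpre : (Subgroup.centralizer ({q T} : Set (QQ F ω))).comap q =
      Subgroup.centralizer ({T} : Set (GG F ω)) := by
    ext g
    simp only [Subgroup.mem_comap, Subgroup.mem_centralizer_singleton_iff]
    refine ⟨fun hg => ?_, fun hg => by rw [← map_mul, hg, map_mul]⟩
    have hc : T⁻¹ * (g * T * g⁻¹) ∈ Subgroup.center (GG F ω) := by
      rw [← QuotientGroup.ker_mk' (Subgroup.center (GG F ω)), MonoidHom.mem_ker, ← hqdef]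
      simp only [map_mul, map_inv]
      rw [hg, mul_inv_cancel_right, inv_mul_cancel]
    set c := T⁻¹ * (g * T * g⁻¹) with hc0
    have hconj : g * T * g⁻¹ = T * c := by rw [hc0, mul_inv_cancel_left]
    have hcc : T * c = c * T := (Subgroup.mem_center_iff.1 hc T)
    have h2 : c * c = 1 := by
      have : (g * T * g⁻¹) * (g * T * g⁻¹) = 1 := by
        rw [show (g * T * g⁻¹) * (g * T * g⁻¹) = g * (T * T) * g⁻¹ by group, hT2, mul_one,
          mul_inv_cancel]
      rw [hconj, show T * c * (T * c) = T * (c * T) * c by group, ← hcc,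
        show T * (T * c) * c = T * T * (c * c) by group, hT2, one_mul] at this
      exact this
    have h3 : c ^ 3 = 1 := by
      have := pow_card_eq_one' (G := Subgroup.center (GG F ω)) (x := ⟨c, hc⟩)
      rw [card_center hf hF] at this
      exact congrArg Subtype.val this
    have h1 : c = 1 := by rw [pow_succ, pow_two, h2, one_mul] at h3; exact h3
    rw [h1, mul_one, mul_inv_eq_iff_eq_mul] at hconj
    exact hconj
  have hcov : Nat.card (Subgroup.centralizer ({T} : Set (GG F ω))) ≤ 10800 := card_cent_cover hf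
  rw [← hpre] at hcov
  have i1 := Subgroup.card_mul_index ((Subgroup.centralizer ({q T} : Set (QQ F ω))).comap q)
  rw [Subgroup.index_comap_of_surjective _ (QuotientGroup.mk'_surjective _), card_GG hf] at i1
  have i2 := Subgroup.card_mul_index (Subgroup.centralizer ({q T} : Set (QQ F ω)))
  rw [card_QQ hf hF] at i2
  have hle : Nat.card (Subgroup.centralizer ({q T} : Set (QQ F ω))) ≤ 3600 := by
    rcases Nat.eq_zero_or_pos (Subgroup.centralizer ({q T} : Set (QQ F ω))).index with h0 | h0
    · rw [h0, mul_zero] at i2; omega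
    refine Nat.le_of_mul_le_mul_right ?_ h0
    have := Nat.mul_le_mul_right (Subgroup.centralizer ({q T} : Set (QQ F ω))).index hcov
    rw [i1] at this
    rw [i2]
    omega
  refine le_trans (le_of_eq ?_) hle
  rw [← hq, eT]
  refine Nat.card_congr (Equiv.subtypeEquiv (MulAut.conj (qEl F ω moveEl)⁻¹).toEquiv fun x => ?_)
  simp only [MulEquiv.toEquiv_eq_coe, EquivLike.coe_coe, MulAut.conj_apply, inv_inv,
    Subgroup.mem_centralizer_singleton_iff]
  constructor
  · intro hx
    calc (qEl F ω moveEl)⁻¹ * x * qEl F ω moveEl *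
          ((qEl F ω moveEl)⁻¹ * qEl F ω tEl₂ * qEl F ω moveEl)
        = (qEl F ω moveEl)⁻¹ * (x * qEl F ω tEl₂) * qEl F ω moveEl := by group
      _ = _ := by rw [hx]; group
  · intro hx
    have := congrArg (fun y => qEl F ω moveEl * y * (qEl F ω moveEl)⁻¹) hx
    simpa [mul_assoc] using this

end CfsgLib.Janko3
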