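import Cfsg.Agent.Lib.Janko3.CentData

/-!
Kernel evaluation for an involution centraliser in the third Janko group.
-/

set_option autoImplicit false
set_option maxRecDepth 100000
set_option maxHeartbeats 0
set_option Elab.async false

namespace CfsgLib.Janko3

/-- An element of the elementary abelian subgroup of order 16. -/
def aEl (a : ℕ) : ℕ := tabA.el a

/-- The central involution. -/
def tEl₂ : ℕ := aEl 1

/-- An element of the complement in the normaliser. -/
def kCode (k : ℕ) : ℕ := tabK.el k

/-- The action of an element of the complement. -/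
def act (k a : ℕ) : ℕ := (actTab.getD k 0 >>> (4 * a)) &&& 15

theorem check_tabA : tabA.ok 1 Tab.triv = true := by decide +kernel

theorem check_tabQ : tabQ.ok 1 Tab.triv = true := by decide +kernel

theorem check_tabH : tabH.ok 1 Tab.triv = true := by decide +kernel

theorem check_tabS : tabS.ok 1 Tab.triv = true := by decide +kernel

theorem check_sizes : (Nat.beq tabA.n 16 && Nat.beq tabA.m 4 && Nat.beq tabK.n 180 &&
    Nat.beq tabK.m 2 && Nat.beq tabQ.n 32 && Nat.beq tabQ.m 4 && Nat.beq tabH.n 60 &&
    Nat.beq tabH.m 2 && Nat.beq tabS.n 12 && Nat.beq tabS.m 2 && Nat.beq tabC.n 10 &&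
    Nat.beq tabC.m 7) = true := by
  decide +kernel

theorem check_xor : ((List.range 16).all fun a => (List.range 16).all fun b =>
    same (mul (aEl a) (aEl b)) (aEl (a ^^^ b))) = true := by
  decide +kernel

theorem check_aGen : ((List.range 4).all fun j => Nat.beq (tabA.gen j) (aEl (2 ^ j))) = true := by
  decide +kernel

theorem check_z : (((List.range 2).all fun g =>
      same (mul (kCode zIdx) (tabK.gen g)) (mul (tabK.gen g) (kCode zIdx))) &&
    ((List.range 16).all fun a => Nat.beq a 0 || !Nat.beq (act zIdx a) a) &&
    ((List.range 16).all fun a => Nat.beq a 0 ||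
      (List.range 180).any fun k => Nat.beq (act k 1) a)) = true := by
  decide +kernel

theorem check_qh : (Nat.beq (mul tEl₂ tEl₂) one &&
    ((List.range 4).all fun g => same (mul tEl₂ (tabQ.gen g)) (mul (tabQ.gen g) tEl₂)) &&
    ((List.range 2).all fun g => same (mul tEl₂ (tabH.gen g)) (mul (tabH.gen g) tEl₂)) &&
    ((List.range 32).any fun i => same tEl₂ (tabQ.el i)) &&
    ((List.range 2).all fun h => (List.range 4).all fun g => (List.range 32).any fun i =>
      same (mul (tabH.gen h) (tabQ.gen g)) (mul (tabQ.el i) (tabH.gen h))) &&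
    ((List.range 60).all fun j => Nat.beq j 0 || (List.range 32).all fun i =>
      !same (tabH.el j) (tabQ.el i))) = true := by
  decide +kernel

end CfsgLib.Janko3
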