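import Cfsg.Agent.Lib.Janko3.CentChecks

/-!
Kernel evaluation of the tables of the complement.
-/

set_option autoImplicit false
set_option maxRecDepth 100000
set_option maxHeartbeats 0
set_option Elab.async false

namespace CfsgLib.Janko3

theorem check_tabK : tabK.ok 1 Tab.triv = true := by decide +kernel

theorem check_act : ((List.range 180).all fun k => (List.range 16).all fun a =>
    same (mul (kCode k) (aEl a)) (mul (aEl (act k a)) (kCode k))) = true := by
  decide +kernel

/-- The action of an element of the complement on five cosets. -/
def five (h x : ℕ) : ℕ := (fivePts.getD h 0 >>> (3 * x)) &&& 7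

theorem check_five : ((List.range 60).all fun h => ((List.range 5).all fun x =>
      Nat.blt (five h x) 5 && (List.range 2).all fun g =>
        Nat.beq (five (tabH.next h g) x) (five h (five (tabH.next 0 g) x))) &&
      (Nat.beq h 0 == (List.range 5).all fun x => Nat.beq (five h x) x)) = true := by
  decide +kernel

end CfsgLib.Janko3
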