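import Cfsg.Agent.Lib.Janko3.CentStructure
import Cfsg.Agent.Lib.Trans3.LargeLinear

/-!
Involutions of the third Janko group and their centralisers.
-/

set_option autoImplicit false
set_option linter.unusedSectionVars false

namespace CfsgLib.Janko3

open Cfsg Cfsg.Spor Matrix Subgroup

/-- A split extension inside a subgroup, seen in that subgroup. -/
theorem shape_of {G A : Type*} [Group G] [Finite G] [Group A] (C Q H : Subgroup G) (hQ : Q ≤ C)
    (hH : H ≤ C) (hsup : Q ⊔ H = C) (hn : H ≤ Subgroup.normalizer (Q : Set G))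
    (hd : ∀ x ∈ Q, x ∈ H → x = 1) (hes : Cfsg.IsExtraspecial 2 Q) (hc : Nat.card Q = 32)
    (hr : ∀ E : Subgroup Q, Cfsg.IsElementaryAbelian 2 E → Nat.card E ≤ 2 ^ 2) (e : H ≃* A) :
    ∃ (Q' : Subgroup C) (_ : Q'.Normal), Cfsg.IsExtraspecial 2 Q' ∧ Nat.card Q' = 32 ∧
      (∀ E : Subgroup Q', Cfsg.IsElementaryAbelian 2 E → Nat.card E ≤ 2 ^ 2) ∧
      (∃ H' : Subgroup C, Q'.IsComplement' H') ∧ Nonempty (C ⧸ Q' ≃* A) := by
  have hQN : (Q.subgroupOf C).Normal := by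
    constructor
    intro n hn' g
    have hg : (g : G) ∈ Q ⊔ H := hsup.symm ▸ g.2
    exact (Subgroup.mem_normalizer_iff.1 ((sup_le Subgroup.le_normalizer hn : Q ⊔ H ≤ _) hg) _).1 hn'
  let eQ : Q.subgroupOf C ≃* Q := Subgroup.subgroupOfEquivOfLe hQ
  let eH : H.subgroupOf C ≃* H := Subgroup.subgroupOfEquivOfLe hH
  have hcomp : (Q.subgroupOf C).IsComplement' (H.subgroupOf C) := by
    refine Subgroup.isComplement'_of_card_mul_and_disjoint ?_ ?_
    · rw [Nat.card_congr eQ.toEquiv, Nat.card_congr eH.toEquiv, ← (semi_prod hn hd).2, hsup]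
    · rw [Subgroup.disjoint_def]
      exact fun {x} hx hy => Subtype.ext (hd _ hx hy)
  refine ⟨Q.subgroupOf C, hQN, CfsgLib.Trans3.LargeLinear.isExtraspecial_of_equiv eQ.symm hes,
    (Nat.card_congr eQ.toEquiv).trans hc, fun E hE => ?_, ⟨_, hcomp⟩,
    ⟨hcomp.symm.QuotientMulEquiv.trans (eH.trans e)⟩⟩
  have h1 : Cfsg.IsElementaryAbelian 2 (E.map eQ.toMonoidHom) := by
    refine ⟨⟨⟨?_⟩⟩, ?_⟩
    · rintro ⟨_, x, hx, rfl⟩ ⟨_, y, hy, rfl⟩
      have := hE.1.is_comm.comm ⟨x, hx⟩ ⟨y, hy⟩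
      apply Subtype.ext
      show eQ x * eQ y = eQ y * eQ x
      rw [← map_mul, ← map_mul]
      exact congrArg eQ (congrArg Subtype.val this)
    · rintro _ ⟨x, hx, rfl⟩
      show (eQ x) ^ 2 = 1
      rw [← map_pow, hE.2 x hx, map_one]
  have := hr _ h1
  rwa [Nat.card_congr (E.equivMapOfInjective eQ.toMonoidHom eQ.injective).toEquiv]

variable {F : Type*} [Field F] {ω : F} (hf : Field4 F ω) [Fintype F] (hF : Fintype.card F = 4)
include hf hF

/-- All involutions are conjugate and the centraliser of one has shape `2^{1+4}.A₅`. -/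
theorem cent_main :
    (∀ x y : QQ F ω, orderOf x = 2 → orderOf y = 2 → IsConj x y) ∧
    ∃ t : QQ F ω, orderOf t = 2 ∧
      ∃ (Q : Subgroup ↥(Subgroup.centralizer ({t} : Set (QQ F ω)))) (_ : Q.Normal),
        Cfsg.IsExtraspecial 2 Q ∧ Nat.card Q = 32 ∧
        (∀ E : Subgroup Q, Cfsg.IsElementaryAbelian 2 E → Nat.card E ≤ 2 ^ 2) ∧
        (∃ H : Subgroup ↥(Subgroup.centralizer ({t} : Set (QQ F ω))), Q.IsComplement' H) ∧
        Nonempty (↥(Subgroup.centralizer ({t} : Set (QQ F ω))) ⧸ Q ≃* ↥(alternatingGroup (Fin 5))) := by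
  refine ⟨fun x y hx hy => ?_, tQ F ω, orderOf_tQ hf hF, ?_⟩
  · obtain ⟨g, hg⟩ := conj_tQ hf hF hx
    obtain ⟨k, hk⟩ := conj_tQ hf hF hy
    refine isConj_iff.2 ⟨k⁻¹ * g, ?_⟩
    rw [show k⁻¹ * g * x * (k⁻¹ * g)⁻¹ = k⁻¹ * (g * x * g⁻¹) * k by group, hg, ← hk]
    group
  obtain ⟨e⟩ := HX_iso hf hF
  exact shape_of (CC F ω) (QX F ω) (HX F ω) (QX_le hf hF) (HX_le hf hF) (QX_sup_HX hf hF)
    (HX_normalizes hf hF) (fun x => QX_inf_HX hf hF) (extraspecial_QX hf hF) (card_QX hf hF)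
    (rank_QX hf hF) e

end CfsgLib.Janko3
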