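import Cfsg.Agent.Lib.Janko3.CentChecks

/-!
Kernel evaluation for the extraspecial group in an involution centraliser.
-/

set_option autoImplicit false
set_option maxRecDepth 100000
set_option maxHeartbeats 0
set_option Elab.async false

namespace CfsgLib.Janko3

/-- Two elements of the extraspecial group commute. -/
def qComm (i j : ℕ) : Bool := same (mul (tabQ.el i) (tabQ.el j)) (mul (tabQ.el j) (tabQ.el i))

/-- An element commutes with the generators. -/
def qCentral (i : ℕ) : Bool :=
  (List.range 4).all fun g => same (mul (tabQ.el i) (tabQ.gen g)) (mul (tabQ.gen g) (tabQ.el i))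

/-- An element of the group generated by the central involution. -/
def inZ (c : ℕ) : Bool := same c one || same c tEl₂

theorem check_qCenter : (((List.range 32).all fun i => !qCentral i || inZ (tabQ.el i)) &&
    ((List.range 32).all fun i => inZ (mul (tabQ.el i) (tabQ.el i))) &&
    ((List.range 4).all fun i => (List.range 4).all fun j =>
      inZ (mul (mul (tabQ.gen i) (tabQ.gen j)) (mul (star (tabQ.gen i)) (star (tabQ.gen j))))) &&
    ((List.range 4).any fun i => (List.range 4).any fun j =>
      !same (mul (tabQ.gen i) (tabQ.gen j)) (mul (tabQ.gen j) (tabQ.gen i)))) = true := by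
  decide +kernel

theorem check_qRank : ((List.range 32).all fun i => inZ (tabQ.el i) ||
    !same (mul (tabQ.el i) (tabQ.el i)) one ||
    Nat.blt (((List.range 32).filter fun j =>
      same (mul (tabQ.el j) (tabQ.el j)) one && qComm i j).length) 8) = true := by
  decide +kernel

end CfsgLib.Janko3
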