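import Cfsg.Agent.Lib.Janko3.Involutions
import Cfsg.Agent.Lib.Janko3.ExtraChecks
import Cfsg.Agent.Lib.Transfer.PPrimeAut
import Cfsg.Agent.Lib.Solvable.Frattini2

/-!
The structure `2^{1+4}.A₅` of the centraliser of an involution.
-/

set_option autoImplicit false
set_option linter.unusedSectionVars false

namespace CfsgLib.Janko3

open Cfsg Cfsg.Spor Matrix Subgroup
open scoped commutatorElement

variable {F : Type*} [Field F] {ω : F} (hf : Field4 F ω)
include hf

theorem good_Q (i : ℕ) : Good F ω (tabQ.el i) ∧ Good F ω (tabQ.gen i) :=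
  Tab.good hf (okGood_of_ok check_tabQ) i

theorem good_H (i : ℕ) : Good F ω (tabH.el i) ∧ Good F ω (tabH.gen i) :=
  Tab.good hf (okGood_of_ok check_tabH) i

variable [Fintype F] (hF : Fintype.card F = 4)
include hF

theorem mem_QX {x : QQ F ω} : x ∈ QX F ω ↔ ∃ i < 32, qEl F ω (tabQ.el i) = x := by
  have := (Tab.spec_triv hf hF check_tabQ).2.1 x
  rwa [table_sizes.2.2.2.2.1] at this

theorem card_QX : Nat.card (QX F ω) = 32 :=
  (Tab.spec_triv hf hF check_tabQ).2.2.trans table_sizes.2.2.2.2.1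

theorem mem_HX {x : QQ F ω} : x ∈ HX F ω ↔ ∃ j < 60, qEl F ω (tabH.el j) = x := by
  have := (Tab.spec_triv hf hF check_tabH).2.1 x
  rwa [table_sizes.2.2.2.2.2.2.1] at this

theorem card_HX : Nat.card (HX F ω) = 60 :=
  (Tab.spec_triv hf hF check_tabH).2.2.trans table_sizes.2.2.2.2.2.2.1

theorem QX_le : QX F ω ≤ CC F ω := (Subgroup.closure_le _).2 (by
  have h := check_qh
  simp only [Bool.and_eq_true] at h
  rintro _ ⟨g, hg, rfl⟩
  rw [Set.mem_Iio, table_sizes.2.2.2.2.2.1] at hg
  exact gen_comm hf (okGood_of_ok check_tabQ) (of_all h.1.1.1.1.2 hg))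

theorem HX_le : HX F ω ≤ CC F ω := (Subgroup.closure_le _).2 (by
  have h := check_qh
  simp only [Bool.and_eq_true] at h
  rintro _ ⟨g, hg, rfl⟩
  rw [Set.mem_Iio, table_sizes.2.2.2.2.2.2.2.1] at hg
  exact gen_comm hf (okGood_of_ok check_tabH) (of_all h.1.1.1.2 hg))

theorem HX_normalizes : HX F ω ≤ Subgroup.normalizer (QX F ω : Set (QQ F ω)) := by
  have h := check_qh
  simp only [Bool.and_eq_true] at h
  refine (Subgroup.closure_le _).2 ?_
  rintro _ ⟨u, hu, rfl⟩
  rw [Set.mem_Iio, table_sizes.2.2.2.2.2.2.2.1] at hu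
  refine Subgroup.mem_normalizer_iff.2 ?_
  set x := qEl F ω (tabH.gen u)
  have hle : (QX F ω).map (MulAut.conj x).toMonoidHom ≤ QX F ω := by
    rw [Subgroup.map_le_iff_le_comap, QX, Tab.grp, Subgroup.closure_le]
    rintro _ ⟨g, hg, rfl⟩
    rw [Set.mem_Iio, table_sizes.2.2.2.2.2.1] at hg
    have h' := of_all (of_all h.1.2 hu) hg
    simp only [List.any_eq_true, List.mem_range] at h'
    obtain ⟨i, hi, e⟩ := h'
    show MulAut.conj x (qEl F ω (tabQ.gen g)) ∈ QX F ω
    rw [MulAut.conj_apply]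
    refine (mem_QX hf hF).2 ⟨i, hi, ?_⟩
    rw [eq_mul_inv_iff_mul_eq, ← qEl_mul' hf (good_Q hf i).1 (good_H hf u).2,
      ← qEl_mul' hf (good_H hf u).2 (good_Q hf g).2]
    exact (qEl_same hf (good_mul hf (good_Q hf i).1 (good_H hf u).2).1 e).symm
  have heq := Subgroup.eq_of_le_of_card_ge hle
    (by rw [Subgroup.card_map_of_injective (MulAut.conj x).injective])
  intro y
  constructor
  · exact fun hy => heq ▸ ⟨y, hy, rfl⟩
  · intro hy
    rw [← heq] at hy
    obtain ⟨z, hz, e⟩ := hy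
    exact mul_left_cancel (mul_right_cancel (show x * z * x⁻¹ = x * y * x⁻¹ from e)) ▸ hz

theorem QX_inf_HX {x : QQ F ω} (hQ : x ∈ QX F ω) (hH : x ∈ HX F ω) : x = 1 := by
  obtain ⟨j, hj, rfl⟩ := (mem_HX hf hF).1 hH
  obtain ⟨i, hi, e⟩ := (mem_QX hf hF).1 hQ
  have h := check_qh
  simp only [Bool.and_eq_true] at h
  by_cases hj0 : j = 0
  · rw [hj0, el_zero_of_ok check_tabH, (good_one hf).2]
  have h' := of_all h.2 hj
  simp only [Bool.or_eq_true] at h'
  have h'' := of_all (h'.resolve_left fun e => hj0 (beq_eq e)) hi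
  rw [same_of_qEl hf hF (good_H hf j).1 (good_Q hf i).1 e.symm] at h''
  cases h''

theorem QX_sup_HX : QX F ω ⊔ HX F ω = CC F ω := by
  refine Subgroup.eq_of_le_of_card_ge (sup_le (QX_le hf hF) (HX_le hf hF)) (le_of_eq ?_)
  rw [(semi_prod (HX_normalizes hf hF) fun x => QX_inf_HX hf hF).2, card_QX hf hF, card_HX hf hF,
    (cent_spec hf hF).1]

theorem inZ_spec {c : ℕ} (hc : Good F ω c) (h : inZ c = true) :
    qEl F ω c = 1 ∨ qEl F ω c = tQ F ω := by
  simp only [inZ, Bool.or_eq_true] at h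
  rcases h with h | h
  · exact Or.inl (by rw [qEl_same hf (good_one hf).1 h, (good_one hf).2])
  · exact Or.inr (qEl_same hf (good_aEl hf 1) h)

theorem inZ_of {c : ℕ} (hc : Good F ω c) (h : qEl F ω c = 1 ∨ qEl F ω c = tQ F ω) :
    inZ c = true := by
  simp only [inZ, Bool.or_eq_true]
  rcases h with h | h
  · exact Or.inl (same_of_qEl hf hF hc (good_one hf).1 (by rw [h, (good_one hf).2]))
  · exact Or.inr (same_of_qEl hf hF hc (good_aEl hf 1) h)

theorem tQ_mem_QX : tQ F ω ∈ QX F ω := by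
  have h := check_qh
  simp only [Bool.and_eq_true, List.any_eq_true, List.mem_range] at h
  obtain ⟨i, hi, e⟩ := h.1.1.2
  exact (mem_QX hf hF).2 ⟨i, hi, (qEl_same hf (good_Q hf i).1 e).symm⟩

theorem sq_QX {x : QQ F ω} (hx : x ∈ QX F ω) : x * x = 1 ∨ x * x = tQ F ω := by
  obtain ⟨i, hi, rfl⟩ := (mem_QX hf hF).1 hx
  have h := check_qCenter
  simp only [Bool.and_eq_true] at h
  rw [← qEl_mul' hf (good_Q hf i).1 (good_Q hf i).1]
  exact inZ_spec hf hF (good_mul hf (good_Q hf i).1 (good_Q hf i).1).1 (of_all h.1.1.2 hi)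

theorem central_QX {x : QQ F ω} (hx : x ∈ QX F ω) (hc : ∀ y ∈ QX F ω, x * y = y * x) :
    x = 1 ∨ x = tQ F ω := by
  obtain ⟨i, hi, rfl⟩ := (mem_QX hf hF).1 hx
  have h := check_qCenter
  simp only [Bool.and_eq_true] at h
  have h' := of_all h.1.1.1 hi
  have hcen : qCentral i = true := by
    rw [qCentral, List.all_eq_true]
    intro g hg
    rw [List.mem_range] at hg
    refine same_of_qEl hf hF (good_mul hf (good_Q hf i).1 (good_Q hf g).2).1
      (good_mul hf (good_Q hf g).2 (good_Q hf i).1).1 ?_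
    rw [qEl_mul' hf (good_Q hf i).1 (good_Q hf g).2, qEl_mul' hf (good_Q hf g).2 (good_Q hf i).1]
    exact hc _ (Tab.gen_mem hf g (by rw [table_sizes.2.2.2.2.2.1]; exact hg))
  rw [hcen] at h'
  simp only [Bool.not_true, Bool.false_or] at h'
  exact inZ_spec hf hF (good_Q hf i).1 h'

/-- The normal subgroup of order 32 is extraspecial. -/
theorem extraspecial_QX : Cfsg.IsExtraspecial 2 (QX F ω) := by
  haveI : Fact (Nat.Prime 2) := ⟨Nat.prime_two⟩
  have hP : IsPGroup 2 (QX F ω) := IsPGroup.of_card (n := 5) (card_QX hf hF)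
  set t : QX F ω := ⟨tQ F ω, tQ_mem_QX hf hF⟩ with ht
  have ht1 : t ≠ 1 := fun h => tQ_ne_one hf hF (congrArg Subtype.val h)
  have htc : t ∈ Subgroup.center (QX F ω) := Subgroup.mem_center_iff.2 fun y =>
    Subtype.ext ((mem_CC hf).1 (QX_le hf hF y.2))
  have hZ : Subgroup.center (QX F ω) = Subgroup.zpowers t := by
    refine le_antisymm (fun x hx => ?_) (Subgroup.zpowers_le.2 htc)
    rcases central_QX hf hF x.2 (fun y hy =>
      (congrArg Subtype.val (Subgroup.mem_center_iff.1 hx ⟨y, hy⟩)).symm) with h | h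
    · rw [show x = 1 from Subtype.ext h]; exact one_mem _
    · rw [show x = t from Subtype.ext h]; exact Subgroup.mem_zpowers _
  have hord : orderOf t = 2 := by
    rw [← Subgroup.orderOf_coe]; exact orderOf_tQ hf hF
  have hcard : Nat.card (Subgroup.center (QX F ω)) = 2 := by rw [hZ, Nat.card_zpowers, hord]
  have hsq : ∀ x : QX F ω, x ^ 2 ∈ Subgroup.center (QX F ω) := by
    intro x
    rw [pow_two]
    rcases sq_QX hf hF x.2 with h | h
    · rw [show x * x = 1 from Subtype.ext h]; exact one_mem _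
    · rw [show x * x = t from Subtype.ext h]; exact htc
  have hcomm : ∀ x y : QX F ω, ⁅x, y⁆ ∈ Subgroup.center (QX F ω) := by
    intro x y
    have e : ⁅x, y⁆ = (x * y) ^ 2 * (y⁻¹ * (x⁻¹ ^ 2) * y) * (y⁻¹ ^ 2) := by
      rw [commutatorElement_def, pow_two, pow_two, pow_two]; group
    have hx := Subgroup.mem_center_iff.1 (hsq x⁻¹) y
    rw [e, show y⁻¹ * x⁻¹ ^ 2 * y = x⁻¹ ^ 2 by rw [mul_assoc, ← hx, inv_mul_cancel_left]]
    exact mul_mem (mul_mem (hsq _) (hsq _)) (hsq _)
  have hnc : ¬ ∀ x y : QX F ω, x * y = y * x := by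
    intro hall
    have h := check_qCenter
    simp only [Bool.and_eq_true, List.any_eq_true, List.mem_range] at h
    obtain ⟨i, hi, j, hj, e⟩ := h.2
    have e2 : qEl F ω (tabQ.gen i) * qEl F ω (tabQ.gen j) =
        qEl F ω (tabQ.gen j) * qEl F ω (tabQ.gen i) := congrArg Subtype.val (hall
      ⟨_, Tab.gen_mem hf i (by rw [table_sizes.2.2.2.2.2.1]; exact hi)⟩
      ⟨_, Tab.gen_mem hf j (by rw [table_sizes.2.2.2.2.2.1]; exact hj)⟩)
    rw [same_of_qEl hf hF (good_mul hf (good_Q hf i).2 (good_Q hf j).2).1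
      (good_mul hf (good_Q hf j).2 (good_Q hf i).2).1
      (by rw [qEl_mul' hf (good_Q hf i).2 (good_Q hf j).2, qEl_mul' hf (good_Q hf j).2 (good_Q hf i).2, e2])] at e
    cases e
  have hcle : commutator (QX F ω) ≤ Subgroup.center (QX F ω) := by
    rw [_root_.commutator_def, Subgroup.commutator_le]
    exact fun x _ y _ => hcomm x y
  have hceq : commutator (QX F ω) = Subgroup.center (QX F ω) := by
    refine Subgroup.eq_of_le_of_card_ge hcle ?_
    rw [hcard]
    refine Nat.succ_le_of_lt (Finite.one_lt_card_iff_nontrivial.2 ?_)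
    rw [Subgroup.nontrivial_iff_ne_bot]
    intro hbot
    refine hnc fun x y => commutatorElement_eq_one_iff_mul_comm.1 ?_
    have : ⁅x, y⁆ ∈ commutator (QX F ω) :=
      Subgroup.commutator_mem_commutator (Subgroup.mem_top x) (Subgroup.mem_top y)
    rwa [hbot, Subgroup.mem_bot] at this
  refine ⟨⟨hP, le_antisymm
    (CfsgLib.Transfer.frattini_le_of_elementary_quotient (p := 2) _ hcomm hsq) ?_, hceq⟩, hcard⟩
  rw [← hceq]
  haveI := hP.isNilpotent
  exact CfsgLib.Solvable.commutator_le_frattini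

/-- The normal subgroup of order 32 has no elementary abelian subgroup of order 8. -/
theorem rank_QX (E : Subgroup (QX F ω)) (hE : Cfsg.IsElementaryAbelian 2 E) :
    Nat.card E ≤ 2 ^ 2 := by
  haveI : Fact (Nat.Prime 2) := ⟨Nat.prime_two⟩
  classical
  by_cases hz : ∀ x ∈ E, ((x : QQ F ω) = 1 ∨ (x : QQ F ω) = tQ F ω)
  · have hinj : Function.Injective (fun x : E => decide (((x : QX F ω) : QQ F ω) = 1)) := by
      intro x y h
      simp only [decide_eq_decide] at h
      rcases hz x x.2 with hx | hx <;> rcases hz y y.2 with hy | hy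
      · exact Subtype.ext (Subtype.ext (hx.trans hy.symm))
      · exact absurd ((h.1 hx) ▸ hy.symm) (tQ_ne_one hf hF)
      · exact absurd ((h.2 hy) ▸ hx.symm) (tQ_ne_one hf hF)
      · exact Subtype.ext (Subtype.ext (hx.trans hy.symm))
    refine (Nat.card_le_card_of_injective _ hinj).trans ?_
    rw [Nat.card_eq_fintype_card, Fintype.card_bool]
    norm_num
  push Not at hz
  obtain ⟨x, hx, hx1, hxt⟩ := hz
  obtain ⟨i, hi, ei⟩ := (mem_QX hf hF).1 x.2
  have hcomm := hE.1
  have h := of_all check_qRank hi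
  simp only [Bool.or_eq_true, Bool.not_eq_true', Nat.blt_eq] at h
  have key : ∀ y : QX F ω, y ∈ E → ∃ j ∈ ((List.range 32).filter fun j =>
      same (mul (tabQ.el j) (tabQ.el j)) one && qComm i j).toFinset,
      qEl F ω (tabQ.el j) = y := by
    intro y hy
    obtain ⟨j, hj, ej⟩ := (mem_QX hf hF).1 y.2
    have gj := (good_Q hf (F := F) (ω := ω) j).1
    have gi := (good_Q hf (F := F) (ω := ω) i).1
    refine ⟨j, ?_, ej⟩
    simp only [List.mem_toFinset, List.mem_filter, List.mem_range, qComm, Bool.and_eq_true]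
    refine ⟨hj, same_of_qEl hf hF (good_mul hf gj gj).1 (good_one hf).1 ?_,
      same_of_qEl hf hF (good_mul hf gi gj).1 (good_mul hf gj gi).1 ?_⟩
    · rw [qEl_mul' hf gj gj, ej, (good_one hf).2]
      have := hE.2 y hy
      rw [pow_two] at this
      exact congrArg Subtype.val this
    · rw [qEl_mul' hf gi gj, qEl_mul' hf gj gi, ei, ej]
      exact congrArg Subtype.val (congrArg Subtype.val (hcomm.is_comm.comm ⟨x, hx⟩ ⟨y, hy⟩))
  rcases h with (h | h) | h
  · rcases inZ_spec hf hF (good_Q hf i).1 h with h | h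
    · exact absurd (ei.symm.trans h) hx1
    · exact absurd (ei.symm.trans h) hxt
  · exfalso
    obtain ⟨j, hj, ej⟩ := key x hx
    simp only [List.mem_toFinset, List.mem_filter, Bool.and_eq_true] at hj
    have hh := qEl_same hf (good_one hf (F := F) (ω := ω)).1 hj.2.1
    rw [(good_one hf).2, qEl_mul' hf (good_Q hf j).1 (good_Q hf j).1, ej] at hh
    rw [same_of_qEl hf hF (good_mul hf (good_Q hf i).1 (good_Q hf i).1).1 (good_one hf).1
      (by rw [qEl_mul' hf (good_Q hf i).1 (good_Q hf i).1, ei, hh, (good_one hf).2])] at h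
    cases h
  · obtain ⟨k, hk⟩ := ((IsPGroup.of_card (p := 2) (n := 5) (G := QX F ω) (card_QX hf hF)).to_subgroup E).exists_card_eq
    choose j hj ej using fun y : E => key y.1 y.2
    have hb := Nat.card_le_card_of_injective (fun y : E => (⟨j y, hj y⟩ :
        ((List.range 32).filter fun j => same (mul (tabQ.el j) (tabQ.el j)) one && qComm i j).toFinset))
      (fun y z hyz => Subtype.ext (Subtype.ext (by
        rw [← ej y, ← ej z, show j y = j z from congrArg Subtype.val hyz])))
    rw [hk, Nat.card_eq_fintype_card, Fintype.card_coe] at hb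
    have := List.toFinset_card_le
      ((List.range 32).filter fun j => same (mul (tabQ.el j) (tabQ.el j)) one && qComm i j)
    rw [hk]
    have h3 : k < 3 := by
      by_contra hk3
      have : 2 ^ 3 ≤ 2 ^ k := Nat.pow_le_pow_right two_pos (not_lt.1 hk3)
      omega
    exact Nat.pow_le_pow_right two_pos (by omega)

theorem five_spec : ∀ j < 60, ∀ x < 5, five j x < 5 ∧
    ∀ g < 2, five (tabH.next j g) x = five j (five (tabH.next 0 g) x) := by
  intro j hj x hx
  have h := of_all check_five hj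
  simp only [Bool.and_eq_true] at h
  have h' := of_all h.1 hx
  simp only [Bool.and_eq_true, Nat.blt_eq] at h'
  exact ⟨h'.1, fun g hg => beq_eq (of_all h'.2 hg)⟩

theorem five_zero {x : ℕ} (hx : x < 5) : five 0 x = x := by
  have h := of_all check_five (show 0 < 60 by norm_num)
  simp only [Bool.and_eq_true, Nat.beq_refl, beq_iff_eq] at h
  exact beq_eq (of_all h.2.symm hx)

/-- The complement is the alternating group on five points. -/
theorem HX_iso : Nonempty (HX F ω ≃* alternatingGroup (Fin 5)) := by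
  classical
  have hidx : ∀ h : HX F ω, ∃ j < 60, qEl F ω (tabH.el j) = h := fun h => (mem_HX hf hF).1 h.2
  choose idx hidx1 hidx2 using hidx
  have huniq : ∀ (h : HX F ω) (j : ℕ), j < 60 → qEl F ω (tabH.el j) = h → idx h = j :=
    fun h j hj e => index_injective (fun _ => mem_HX hf hF) (card_HX hf hF) (hidx1 h) hj
      ((hidx2 h).trans e.symm)
  let φ : HX F ω → Fin 5 → Fin 5 := fun h x => ⟨five (idx h) x, (five_spec hf hF _ (hidx1 h) _ x.2).1⟩
  have hgen : ∀ g (hg : g < 2) (a : HX F ω),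
      φ (a * ⟨qEl F ω (tabH.gen g), Tab.gen_mem hf g (table_sizes.2.2.2.2.2.2.2.1.symm ▸ hg)⟩) =
        φ a ∘ φ ⟨qEl F ω (tabH.gen g), Tab.gen_mem hf g (table_sizes.2.2.2.2.2.2.2.1.symm ▸ hg)⟩ := by
    intro g hg a
    have hs : ∀ i < 60, tabH.next i g < 60 ∧
        qEl F ω (tabH.el i) * qEl F ω (tabH.gen g) = qEl F ω (tabH.el (tabH.next i g)) := by
      intro i hi
      have h := check_tabH
      simp only [Tab.ok, Bool.and_eq_true, Tab.okStep, Tab.okTree] at h
      have h' := of_all (of_all h.1.2 (table_sizes.2.2.2.2.2.2.1.symm ▸ hi))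
        (table_sizes.2.2.2.2.2.2.2.1.symm ▸ hg)
      simp only [Bool.and_eq_true] at h'
      refine ⟨(Nat.mod_lt _ (Nat.le_of_ble_eq_true h.2.1.1)).trans_eq table_sizes.2.2.2.2.2.2.1, ?_⟩
      rw [← qEl_mul' hf (good_H hf i).1 (good_H hf g).2,
        qEl_same hf (good_mul hf (good_one hf).1 (good_H hf _).1).1 h'.1.1.2,
        qEl_mul' hf (good_one hf).1 (good_H hf _).1, (good_one hf).2, one_mul]
    generalize hu : (⟨qEl F ω (tabH.gen g), Tab.gen_mem hf g (table_sizes.2.2.2.2.2.2.2.1.symm ▸ hg)⟩ : HX F ω) = u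
    have hu' : (u : QQ F ω) = qEl F ω (tabH.gen g) := by rw [← hu]
    funext x
    apply Fin.ext
    obtain ⟨h0, e0⟩ := hs 0 (by norm_num)
    rw [el_zero_of_ok check_tabH, (good_one hf).2, one_mul] at e0
    obtain ⟨ha, ea⟩ := hs (idx a) (hidx1 a)
    simp only [φ, Function.comp_apply]
    rw [huniq (a * u) _ ha (by rw [← ea, hidx2 a, Subgroup.coe_mul, hu']), huniq u _ h0 (by rw [hu', e0])]
    exact (five_spec hf hF _ (hidx1 a) _ x.2).2 g hg
  have hone : φ 1 = id := by
    funext x
    apply Fin.ext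
    simp only [φ, id]
    rw [huniq 1 0 (by norm_num) (by rw [el_zero_of_ok check_tabH, (good_one hf).2]; rfl)]
    exact five_zero hf hF x.2
  have hmul : ∀ b a : HX F ω, φ (a * b) = φ a ∘ φ b := by
    rintro ⟨b, hb⟩
    have hb' := hb
    rw [HX, Tab.grp, ← Subgroup.mem_toSubmonoid, Subgroup.closure_toSubmonoid_of_finite] at hb'
    induction hb' using Submonoid.closure_induction with
    | mem x hx =>
      obtain ⟨g, hg, rfl⟩ := hx
      rw [Set.mem_Iio, table_sizes.2.2.2.2.2.2.2.1] at hg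
      exact hgen g hg
    | one =>
      intro a
      rw [show (⟨1, hb⟩ : HX F ω) = 1 from rfl, mul_one, hone]
      rfl
    | mul x y hx hy ihx ihy =>
      intro a
      have hxm : x ∈ HX F ω := by
        rw [HX, Tab.grp, ← Subgroup.mem_toSubmonoid, Subgroup.closure_toSubmonoid_of_finite]
        exact hx
      have hym : y ∈ HX F ω := by
        rw [HX, Tab.grp, ← Subgroup.mem_toSubmonoid, Subgroup.closure_toSubmonoid_of_finite]
        exact hy
      rw [show (⟨x * y, hb⟩ : HX F ω) = ⟨x, hxm⟩ * ⟨y, hym⟩ from rfl, ← mul_assoc, ihy hym,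
        ihx hxm, ihy hym, Function.comp_assoc]
  have hinj : ∀ h : HX F ω, φ h = id → h = 1 := by
    intro h hh
    have h5 := of_all check_five (hidx1 h)
    simp only [Bool.and_eq_true, beq_iff_eq] at h5
    have hall : ((List.range 5).all fun x => Nat.beq (five (idx h) x) x) = true := by
      rw [List.all_eq_true]
      intro x hx
      rw [List.mem_range] at hx
      have := congrArg Fin.val (congrFun hh ⟨x, hx⟩)
      simp only [φ, id] at this
      rw [this]; exact Nat.beq_refl x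
    rw [hall] at h5
    have h0 := beq_eq h5.2
    apply Subtype.ext
    rw [← hidx2 h, h0, el_zero_of_ok check_tabH, (good_one hf).2]
    rfl
  let ψ : HX F ω →* Equiv.Perm (Fin 5) :=
    MonoidHom.mk' (fun h => ⟨φ h, φ h⁻¹,
      fun x => by rw [← Function.comp_apply (f := φ h⁻¹) (g := φ h), ← hmul, inv_mul_cancel, hone, id],
      fun x => by rw [← Function.comp_apply (f := φ h) (g := φ h⁻¹), ← hmul, mul_inv_cancel, hone, id]⟩)
      (fun a b => Equiv.ext fun x => by simp only [Equiv.Perm.mul_apply, Equiv.coe_fn_mk, hmul b a, Function.comp_apply])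
  have hψ : Function.Injective ψ := by
    rw [← MonoidHom.ker_eq_bot_iff, Subgroup.eq_bot_iff_forall]
    intro h hh
    exact hinj h (by funext x; exact congrFun (congrArg DFunLike.coe (MonoidHom.mem_ker.1 hh)) x)
  have hcard : Nat.card ψ.range = 60 := by
    rw [← Nat.card_congr (MonoidHom.ofInjective hψ).toEquiv, card_HX hf hF]
  have hA : ψ.range = alternatingGroup (Fin 5) := by
    refine Equiv.Perm.eq_alternatingGroup_of_index_eq_two ?_
    have := Subgroup.card_mul_index ψ.range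
    rw [hcard, Nat.card_perm, Nat.card_eq_fintype_card, Fintype.card_fin] at this
    have h120 : Nat.factorial 5 = 120 := rfl
    omega
  exact ⟨(MonoidHom.ofInjective hψ).trans (MulEquiv.subgroupCongr hA)⟩

end CfsgLib.Janko3
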