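import Cfsg.Agent.Lib.Janko3.Orbit

/-!
The centre consists of the scalars.
-/

set_option autoImplicit false
set_option linter.unusedSectionVars false

namespace CfsgLib.Janko3

open Cfsg.Spor Matrix Subgroup

theorem check_moved_normed : (movedTab.all fun m => normed (norm (col (mul (hGen (m / 1000))
    (pack fun i => (orb (m % 1000) >>> (2 * i)) &&& 3))))) = true := by
  decide +kernel

variable {F : Type*} [Field F] {ω : F}

theorem four_elements [Fintype F] (hF : Fintype.card F = 4) (hf : Field4 F ω) (x : F) :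
    x = 0 ∨ x = 1 ∨ x = ω ∨ x = ω + 1 := by
  classical
  have hω0 : ω ≠ 0 := fun e => by simpa [e] using hf.omega
  have h1 : ω ≠ 1 := fun e => one_ne_zero (α := F) (by
    have := hf.omega; rw [e] at this; linear_combination this - hf.two)
  have h01 : ω + 1 ≠ 0 := fun e => h1 (by linear_combination e - hf.two)
  have h : ({0, 1, ω, ω + 1} : Finset F) = Finset.univ := by
    apply Finset.eq_univ_of_card
    rw [hF, Finset.card_insert_of_notMem, Finset.card_insert_of_notMem,
      Finset.card_pair] <;> simp [hω0, h1, hω0.symm, h1.symm, h01.symm]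
  have hx := Finset.mem_univ x
  rw [← h] at hx
  simpa using hx

variable (hf : Field4 F ω)
include hf

theorem gl_scal {c : ℕ} (hc : c ∈ [1, 2, 3]) : ∃ k < 81,
    (gl F ω (kEl k) : Matrix F9 F9 F) = el F ω (c.testBit 0) (c.testBit 1) • (1 : Matrix F9 F9 F) := by
  have h := check_misc
  simp only [Bool.and_eq_true] at h
  have h' := List.all_eq_true.1 h.1.2 c hc
  rw [List.any_eq_true] at h'
  obtain ⟨k, hk, e⟩ := h'
  rw [List.mem_range] at hk
  refine ⟨k, hk, ?_⟩
  rw [gl_coe hf (unit_kEl hf hk), ← beq_eq e, scal, dec_diag, Matrix.smul_one_eq_diagonal]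
  congr 1
  funext z
  have h3 : ∀ c ∈ [1, 2, 3], ∀ i < 9,
      (cond (Nat.beq c 1) 87381 (cond (Nat.beq c 2) 174762 262143)).testBit (2 * i) = c.testBit 0 ∧
      (cond (Nat.beq c 1) 87381 (cond (Nat.beq c 2) 174762 262143)).testBit (2 * i + 1) = c.testBit 1 := by
    decide
  rw [vdec, ent, (h3 c hc _ (ix_lt z)).1, (h3 c hc _ (ix_lt z)).2]

omit hf in
theorem bits : Nat.testBit 1 0 = true ∧ Nat.testBit 1 1 = false ∧ Nat.testBit 2 0 = false ∧
    Nat.testBit 2 1 = true ∧ Nat.testBit 3 0 = true ∧ Nat.testBit 3 1 = true := by decide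

/-- Every nonzero scalar lies in the diagonal group. -/
theorem scalar_K [Fintype F] (hF : Fintype.card F = 4) {x : F} (hx : x ≠ 0) :
    ∃ k < 81, (gl F ω (kEl k) : Matrix F9 F9 F) = x • (1 : Matrix F9 F9 F) := by
  rcases four_elements hF hf x with h | h | h | h
  · exact absurd h hx
  all_goals subst h
  · simpa [el, bits] using gl_scal hf (c := 1) (by simp)
  · simpa [el, bits] using gl_scal hf (c := 2) (by simp)
  · simpa [el, bits, add_comm] using gl_scal hf (c := 3) (by simp)

theorem vdec_col_pack (v : ℕ) :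
    vdec F ω (col (pack fun i => (v >>> (2 * i)) &&& 3)) = vdec F ω v := by
  rw [vdec_col]
  funext z
  simp only [dec, Matrix.of_apply]
  rw [row_pack (fun i => (v >>> (2 * i)) &&& 3) (fun i k hk => ?_) (ix_lt z),
    show ix (0 : F9) = 0 from rfl]
  · simp only [vdec, ent, Nat.testBit_and, Nat.testBit_shiftRight]
    simp [bits]
  · exact Nat.testBit_lt_two_pow (lt_of_lt_of_le (Nat.and_le_right.trans_lt (by norm_num : 3 < 2 ^ 18))
      (Nat.pow_le_pow_right two_pos hk))

theorem img_pt {a : ℕ} (ha : IsUnit (dec F ω a)) (v : ℕ) :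
    img (gl F ω a) (pt F ω v) = pt F ω (col (mul a (pack fun i => (v >>> (2 * i)) &&& 3))) := by
  rw [img, pt, pt, Submodule.map_span, Set.image_singleton, Matrix.mulVecLin_apply,
    gl_coe hf ha, ← vdec_col_pack hf v, vdec_col, vdec_col, dec_mul hf.two hf.omega]
  rfl

/-- A central element fixes the first line. -/
theorem center_line [Finite F] {c : GL F9 F} (hc : c ∈ GG F ω)
    (hcomm : ∀ g ∈ GG F ω, c * g = g * c) : line F c = line F 1 := by
  have hfix : ∀ h ∈ HH F ω, img h (line F c) = line F c := fun h hh => by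
    rw [img_line, ← hcomm h (HH_le_GG hf hh),
      line_left_congr (show line F h = line F 1 from HH_le_stab hf hh), mul_one]
  have hmem : line F c ∈ orbit F ω := ⟨c, hc, rfl⟩
  rw [orbit_eq hf] at hmem
  obtain ⟨v, ⟨r, hr, hv⟩, e⟩ := hmem
  have hrn : normed r = true := by
    have h := List.all_eq_true.1 check_orb_min r hr
    simp only [Bool.and_eq_true] at h
    exact h.1
  obtain ⟨l, hl, el⟩ := List.mem_map.1 hv
  have hrv : pt F ω r = line F c := by
    obtain ⟨li, hli, eli⟩ := k_inv hf (kSmall_lt hl)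
    have h1 : img (gl F ω (kEl l)) (pt F ω r) = line F c := by
      rw [img_gl_diag hf (kSmall_lt hl), ← e, ← el,
        pt_norm hf (norm_ne_zero hf (el.symm ▸ (normed_imgs hr hv).1))]
    rw [← hfix _ (kEl_mem hf hli), ← eli, ← h1, img_img, inv_mul_cancel, img_one]
  have hall : ∀ w ∈ orbImgs r, w = r := fun w hw => by
    obtain ⟨m, hm, em⟩ := List.mem_map.1 hw
    refine pt_injective hf (normed_imgs hr hw).1 hrn ?_
    rw [← em, pt_norm hf (norm_ne_zero hf (em.symm ▸ (normed_imgs hr hw).1)),
      ← img_gl_diag hf (kSmall_lt hm), hrv, hfix _ (kEl_mem hf (kSmall_lt hm))]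
  obtain ⟨x, hx, rfl⟩ := orb_index hr
  have h := check_moved
  simp only [Bool.and_eq_true] at h
  have hx' := of_all h.1 hx
  simp only [Bool.or_eq_true, Bool.not_eq_true'] at hx'
  rcases hx' with (h1 | h1) | h1
  · rw [← hrv, beq_eq h1, line_one hf]
  · rw [List.all_eq_false] at h1
    obtain ⟨w, hw, hw'⟩ := h1
    exact absurd (hall w hw) (fun e => hw' (by rw [e]; exact Nat.beq_refl _))
  · rw [List.any_eq_true] at h1
    obtain ⟨m, hm, em⟩ := h1
    have h3 := List.all_eq_true.1 h.2 m hm
    simp only [Bool.and_eq_true, Nat.blt_eq, Bool.not_eq_true'] at h3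
    rw [beq_eq em] at h3
    obtain ⟨hg, hne⟩ := h3
    exfalso
    have h5 : pt F ω (col (mul (hGen (m / 1000)) (pack fun i => (orb x >>> (2 * i)) &&& 3))) =
        pt F ω (orb x) := by
      rw [← img_pt hf (unit_hGen hf hg), hrv, hfix _ (hGen_mem hf hg)]
    set w := col (mul (hGen (m / 1000)) (pack fun i => (orb x >>> (2 * i)) &&& 3))
    have h7 := List.all_eq_true.1 check_moved_normed m hm
    rw [beq_eq em] at h7
    have h6 : norm w = orb x :=
      pt_injective hf h7 hrn (by rw [pt_norm hf (norm_ne_zero hf h7)]; exact h5)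
    rw [h6, Nat.beq_refl] at hne
    exact absurd hne (by decide)

/-- An element fixing every line of the orbit is a scalar. -/
theorem scalar_of_fix [Finite F] {c : GL F9 F}
    (hfix : ∀ g ∈ GG F ω, line F (c * g) = line F g) :
    ∃ x : F, (c : Matrix F9 F9 F) = x • (1 : Matrix F9 F9 F) := by
  have hall : ∀ r ∈ orbTab, ∃ a : F, (c : Matrix F9 F9 F) *ᵥ vdec F ω r = a • vdec F ω r := by
    intro r hr
    obtain ⟨x, hx, rfl⟩ := orb_index hr
    have h := List.all_eq_true.1 check_orb_min _ hr
    simp only [Bool.and_eq_true] at h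
    have hmem : pt F ω (orb x) ∈ orbit F ω := by
      rw [orbit_eq hf]
      obtain ⟨l, hl, e⟩ := img_mem_imgs hf hr (k := 0) (by norm_num)
      rw [(base hf).2.1, img_one] at e
      exact ⟨l, ⟨_, hr, hl⟩, e.symm⟩
    obtain ⟨g, hg, e⟩ := hmem
    have h2 : img c (pt F ω (orb x)) = pt F ω (orb x) := by
      rw [← e, img_line, hfix g hg]
    have h3 : (c : Matrix F9 F9 F) *ᵥ vdec F ω (orb x) ∈ pt F ω (orb x) := by
      rw [← h2]
      exact Submodule.mem_map_of_mem (f := Matrix.mulVecLin (c : Matrix F9 F9 F))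
        (Submodule.mem_span_singleton_self _)
    obtain ⟨a, ha⟩ := Submodule.mem_span_singleton.1 h3
    exact ⟨a, ha.symm⟩
  have hs := check_special
  simp only [Bool.and_eq_true] at hs
  have hu : ∀ i < 9, ∀ j < 9, (1 <<< (2 * i)).testBit (2 * j) = decide (i = j) ∧
      (1 <<< (2 * i)).testBit (2 * j + 1) = false := by decide
  have hdiag : ∀ w : F9, ∃ a : F, ∀ z, (c : Matrix F9 F9 F) z w = if w = z then a else 0 := by
    intro w
    obtain ⟨r, hr, e⟩ := List.any_eq_true.1 (of_all hs.1 (ix_lt w))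
    obtain ⟨a, ha⟩ := hall r hr
    have hv : vdec F ω r = Pi.single w 1 := by
      funext z
      rw [beq_eq e, vdec, ent, (hu _ (ix_lt w) _ (ix_lt z)).1, (hu _ (ix_lt w) _ (ix_lt z)).2]
      by_cases h : w = z
      · subst h; simp [el]
      · simp [el, ix_injective.ne h, Pi.single_apply, Ne.symm h]
    refine ⟨a, fun z => ?_⟩
    have := congrFun ha z
    rw [hv, Matrix.mulVec_single_one, Pi.smul_apply, smul_eq_mul] at this
    simp only [Matrix.col_apply] at this
    rw [this]
    by_cases h : w = z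
    · subst h; simp
    · simp [h, Pi.single_apply, Ne.symm h]
  choose a ha using hdiag
  have hs2 := of_decide_eq_true hs.2
  rw [List.any_eq_true] at hs2
  obtain ⟨r, hr, e⟩ := hs2
  obtain ⟨b, hb⟩ := hall r hr
  have hne : ∀ z : F9, vdec F ω r z ≠ 0 := by
    intro z h0
    have h := of_all e (ix_lt z)
    simp only [Bool.not_eq_true'] at h
    have h' : el F ω (r.testBit (2 * ix z)) (r.testBit (2 * ix z + 1)) = el F ω false false :=
      h0.trans (by simp [el])
    obtain ⟨p, q⟩ := el_injective hf.two hf.omega h'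
    rw [pair_eq, p, q] at h
    simp at h
  have hab : ∀ z, a z = b := by
    intro z
    have h := congrFun hb z
    rw [Pi.smul_apply, smul_eq_mul, Matrix.mulVec, dotProduct] at h
    simp only [ha, ite_mul, zero_mul, Finset.sum_ite_eq', Finset.mem_univ, if_true] at h
    exact mul_right_cancel₀ (hne z) h
  refine ⟨b, ?_⟩
  ext z w
  rw [ha, Matrix.smul_apply, Matrix.one_apply, smul_eq_mul]
  by_cases h : w = z
  · subst h; simp [hab]
  · simp [h, Ne.symm h]

/-- A central element is a scalar. -/
theorem center_scalar [Finite F] {c : GL F9 F} (hc : c ∈ GG F ω)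
    (hcomm : ∀ g ∈ GG F ω, c * g = g * c) : ∃ x : F, (c : Matrix F9 F9 F) = x • (1 : Matrix F9 F9 F) :=
  scalar_of_fix hf fun g hg => by
    rw [hcomm g hg, line_left_congr (center_line hf hc hcomm), mul_one]

/-- The centre has order three. -/
theorem card_center [Fintype F] (hF : Fintype.card F = 4) : Nat.card (Subgroup.center (GG F ω)) = 3 := by
  classical
  have hmem : ∀ u : Fˣ, Units.map (Matrix.scalar F9 : F →+* Matrix F9 F9 F).toMonoidHom u ∈ GG F ω := by
    intro u
    obtain ⟨k, hk, e⟩ := scalar_K hf hF u.ne_zero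
    have : Units.map (Matrix.scalar F9 : F →+* Matrix F9 F9 F).toMonoidHom u = gl F ω (kEl k) := by
      refine Units.ext ?_
      rw [e, Matrix.smul_one_eq_diagonal]
      rfl
    rw [this]
    exact HH_le_GG hf (kEl_mem hf hk)
  let f : Fˣ → Subgroup.center (GG F ω) := fun u =>
    ⟨⟨Units.map (Matrix.scalar F9 : F →+* Matrix F9 F9 F).toMonoidHom u, hmem u⟩,
      Subgroup.mem_center_iff.2 fun g => Subtype.ext (Units.ext
        ((Matrix.scalar_commute (u : F) (fun r' => mul_comm _ _) (g.1 : Matrix F9 F9 F)).eq.symm))⟩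
  have hb : Function.Bijective f := by
    refine ⟨fun u v h => ?_, fun c => ?_⟩
    · have h' := congrArg (fun t : Subgroup.center (GG F ω) => (t.1.1 : Matrix F9 F9 F) 0 0) h
      exact Units.ext (by simpa [f] using h')
    · obtain ⟨x, hx⟩ := center_scalar hf c.1.2 fun g hg =>
        (congrArg Subtype.val (Subgroup.mem_center_iff.1 c.2 ⟨g, hg⟩)).symm
      have hx0 : x ≠ 0 := by
        rintro rfl
        exact (Units.isUnit c.1.1).ne_zero (by rw [hx, zero_smul])
      refine ⟨Units.mk0 x hx0, Subtype.ext (Subtype.ext (Units.ext ?_))⟩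
      show Matrix.scalar F9 x = (c.1.1 : Matrix F9 F9 F)
      rw [hx, Matrix.smul_one_eq_diagonal]
      rfl
  rw [← Nat.card_congr (Equiv.ofBijective f hb), Nat.card_eq_fintype_card, Fintype.card_units, hF]

end CfsgLib.Janko3
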