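import Cfsg.Agent.Lib.Janko3.CentChecks

/-!
Kernel evaluation for the normaliser of the elementary abelian subgroup within the centraliser.
-/

set_option autoImplicit false
set_option maxRecDepth 100000
set_option maxHeartbeats 0
set_option Elab.async false

namespace CfsgLib.Janko3

/-- An element of the stabiliser of the involution in the normaliser. -/
def nEl (b : ℕ) : ℕ := mul (aEl (b % 16)) (kCode (stabIdx.getD (b / 16) 0))

theorem check_stab : (((List.range 12).all fun i => Nat.blt (stabIdx.getD i 0) 180 &&
      same (tabS.el i) (kCode (stabIdx.getD i 0))) &&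
    ((List.range 180).all fun k => Nat.beq (act k 1) 1 == stabIdx.any (fun e => Nat.beq e k)) &&
    (List.range 180).all fun k => (List.range 180).all fun l =>
      !((List.range 4).all fun j => Nat.beq (act k (2 ^ j)) (act l (2 ^ j))) || Nat.beq k l) =
    true := by
  decide +kernel

theorem check_tabC : tabC.ok 192 nEl = true := by decide +kernel

theorem check_tabC_gens : (((List.range 4).all fun j => Nat.beq (tabC.gen j) (aEl (2 ^ j))) &&
    ((List.range 2).all fun j => Nat.beq (tabC.gen (4 + j)) (tabS.gen j)) &&
    same (mul tEl₂ (tabC.gen 6)) (mul (tabC.gen 6) tEl₂)) = true := by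
  decide +kernel

/-- A coset representative other than the first does not normalise. -/
def moves (r : ℕ) : Bool :=
  (List.range 16).all fun a =>
    !same (mul (tabC.el r) (aEl (2 ^ cosetWit.getD r 0))) (mul (aEl a) (tabC.el r))

theorem check_moves : ((List.range 10).all fun r =>
    Nat.beq r 0 || (Nat.blt (cosetWit.getD r 0) 4 && moves r)) = true := by
  decide +kernel

end CfsgLib.Janko3
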