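import Mathlib

/-!
The product of a subgroup with a subgroup normalising it, given by indexed elements.
-/

set_option autoImplicit false

namespace CfsgLib.Janko3

/-- A finite indexed subgroup is indexed without repetition when the cardinalities agree. -/
theorem index_injective {G : Type*} [Group G] [Finite G] {S : Subgroup G} {n : ℕ} {f : ℕ → G}
    (hmem : ∀ x, x ∈ S ↔ ∃ i < n, f i = x) (hc : Nat.card S = n) {i j : ℕ} (hi : i < n) (hj : j < n)
    (h : f i = f j) : i = j := by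
  have hb : Function.Bijective (fun i : Fin n => (⟨f i, (hmem _).2 ⟨i, i.2, rfl⟩⟩ : S)) := by
    refine (Nat.bijective_iff_surjective_and_card _).2 ⟨?_, by rw [hc, Nat.card_eq_fintype_card, Fintype.card_fin]⟩
    rintro ⟨x, hx⟩
    obtain ⟨i, hi, e⟩ := (hmem x).1 hx
    exact ⟨⟨i, hi⟩, Subtype.ext e⟩
  exact congrArg Fin.val (hb.1 (a₁ := ⟨i, hi⟩) (a₂ := ⟨j, hj⟩) (Subtype.ext h))

/-- The join of a subgroup and a disjoint one normalising it. -/
theorem semi_prod {G : Type*} [Group G] [Finite G] {A S : Subgroup G}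
    (hn : S ≤ Subgroup.normalizer (A : Set G)) (hd : ∀ x ∈ A, x ∈ S → x = 1) :
    (∀ x, x ∈ A ⊔ S ↔ ∃ a ∈ A, ∃ s ∈ S, a * s = x) ∧
      Nat.card ↥(A ⊔ S) = Nat.card A * Nat.card S := by
  have hmem : ∀ x, x ∈ A ⊔ S ↔ ∃ a ∈ A, ∃ s ∈ S, a * s = x := by
    intro x
    rw [← SetLike.mem_coe, Subgroup.coe_mul_of_right_le_normalizer_left A S hn, Set.mem_mul]
    rfl
  refine ⟨hmem, ?_⟩
  let f : A × S → ↥(A ⊔ S) := fun p => ⟨p.1 * p.2, (hmem _).2 ⟨_, p.1.2, _, p.2.2, rfl⟩⟩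
  have hf : Function.Bijective f := by
    constructor
    · rintro ⟨a, s⟩ ⟨a', s'⟩ h
      have h' : (a : G) * s = a' * s' := congrArg Subtype.val h
      have e : (a' : G)⁻¹ * a = s' * (s : G)⁻¹ := by
        rw [eq_mul_inv_iff_mul_eq, mul_assoc, h', inv_mul_cancel_left]
      have h1 := hd _ (mul_mem (inv_mem a'.2) a.2) (e ▸ mul_mem s'.2 (inv_mem s.2))
      obtain rfl : a' = a := Subtype.ext (inv_mul_eq_one.1 h1)
      obtain rfl : s = s' := Subtype.ext (mul_left_cancel h')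
      rfl
    · rintro ⟨x, hx⟩
      obtain ⟨a, ha, s, hs, e⟩ := (hmem x).1 hx
      exact ⟨(⟨a, ha⟩, ⟨s, hs⟩), Subtype.ext e⟩
  rw [← Nat.card_prod]
  exact (Nat.card_eq_of_bijective f hf).symm

end CfsgLib.Janko3
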