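import Cfsg.Agent.Lib.Janko3.CentBound
import Cfsg.Agent.Lib.Janko3.CentChecksTables
import Cfsg.Agent.Lib.Janko3.NormChecks
import Cfsg.Agent.Lib.Janko3.SemiProd

/-!
The centraliser of the central involution and the normaliser of an elementary abelian subgroup of
order 16 in the third Janko group.
-/

set_option autoImplicit false
set_option linter.unusedSectionVars false
set_option maxRecDepth 20000

namespace CfsgLib.Janko3

open Cfsg Cfsg.Spor Matrix Subgroup

theorem table_sizes : tabA.n = 16 ∧ tabA.m = 4 ∧ tabK.n = 180 ∧ tabK.m = 2 ∧ tabQ.n = 32 ∧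
    tabQ.m = 4 ∧ tabH.n = 60 ∧ tabH.m = 2 ∧ tabS.n = 12 ∧ tabS.m = 2 ∧ tabC.n = 10 ∧ tabC.m = 7 := by
  have h := check_sizes
  simp only [Bool.and_eq_true] at h
  exact ⟨beq_eq h.1.1.1.1.1.1.1.1.1.1.1, beq_eq h.1.1.1.1.1.1.1.1.1.1.2,
    beq_eq h.1.1.1.1.1.1.1.1.1.2, beq_eq h.1.1.1.1.1.1.1.1.2, beq_eq h.1.1.1.1.1.1.1.2,
    beq_eq h.1.1.1.1.1.1.2, beq_eq h.1.1.1.1.1.2, beq_eq h.1.1.1.1.2, beq_eq h.1.1.1.2,
    beq_eq h.1.1.2, beq_eq h.1.2, beq_eq h.2⟩

theorem okGood_of_ok {T : Tab} {nb : ℕ} {bc : ℕ → ℕ} (h : T.ok nb bc = true) : T.okGood = true := by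
  simp only [Tab.ok, Bool.and_eq_true] at h
  exact h.1.1

theorem el_zero_of_ok {T : Tab} {nb : ℕ} {bc : ℕ → ℕ} (h : T.ok nb bc = true) : T.el 0 = one := by
  simp only [Tab.ok, Tab.okTree, Bool.and_eq_true] at h
  exact beq_eq h.2.1.2

theorem act_lt (k a : ℕ) : act k a < 16 := Nat.and_le_right.trans_lt (by norm_num)

variable (F : Type*) [Field F] (ω : F)

/-- An element of the elementary abelian subgroup. -/
noncomputable def aQ (a : ℕ) : QQ F ω := qEl F ω (aEl a)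

/-- An element of the complement. -/
noncomputable def kQ (k : ℕ) : QQ F ω := qEl F ω (kCode k)

/-- The central involution. -/
noncomputable def tQ : QQ F ω := qEl F ω tEl₂

/-- The elementary abelian subgroup of order 16. -/
noncomputable def AA : Subgroup (QQ F ω) := tabA.grp F ω

/-- The complement of order 180. -/
noncomputable def KK : Subgroup (QQ F ω) := tabK.grp F ω

/-- The extraspecial subgroup of order 32. -/
noncomputable def QX : Subgroup (QQ F ω) := tabQ.grp F ω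

/-- A complement of order 60. -/
noncomputable def HX : Subgroup (QQ F ω) := tabH.grp F ω

/-- The stabiliser of the central involution in the complement. -/
noncomputable def SS : Subgroup (QQ F ω) := tabS.grp F ω

/-- The normaliser of the elementary abelian subgroup. -/
noncomputable def MM : Subgroup (QQ F ω) := AA F ω ⊔ KK F ω

/-- The centraliser of the central involution. -/
noncomputable def CC : Subgroup (QQ F ω) := Subgroup.centralizer {tQ F ω}

variable {F ω} (hf : Field4 F ω)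
include hf

theorem good_aEl (a : ℕ) : Good F ω (aEl a) := (Tab.good hf (okGood_of_ok check_tabA) a).1

theorem good_kCode (k : ℕ) : Good F ω (kCode k) := (Tab.good hf (okGood_of_ok check_tabK) k).1

theorem aQ_zero : aQ F ω 0 = 1 := by
  rw [aQ, aEl, el_zero_of_ok check_tabA, (good_one hf).2]

theorem kQ_zero : kQ F ω 0 = 1 := by
  rw [kQ, kCode, el_zero_of_ok check_tabK, (good_one hf).2]

theorem kQ_large {k : ℕ} (h : 180 ≤ k) : kQ F ω k = 1 := by
  rw [kQ, kCode, Tab.el, List.getD_eq_default _ _ (by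
    have := table_sizes.2.2.1; unfold Tab.n at this; omega), (good_one hf).2]

theorem aQ_large {a : ℕ} (h : 16 ≤ a) : aQ F ω a = 1 := by
  rw [aQ, aEl, Tab.el, List.getD_eq_default _ _ (by
    have := table_sizes.1; unfold Tab.n at this; omega), (good_one hf).2]

theorem aQ_mul {a b : ℕ} (ha : a < 16) (hb : b < 16) :
    aQ F ω a * aQ F ω b = aQ F ω (a ^^^ b) := by
  rw [aQ, aQ, aQ, ← qEl_mul' hf (good_aEl hf a) (good_aEl hf b)]
  exact qEl_same hf (good_aEl hf _) (of_all (of_all check_xor ha) hb)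

theorem aQ_comm (a b : ℕ) : aQ F ω a * aQ F ω b = aQ F ω b * aQ F ω a := by
  rcases Nat.lt_or_ge a 16 with ha | ha
  · rcases Nat.lt_or_ge b 16 with hb | hb
    · rw [aQ_mul hf ha hb, aQ_mul hf hb ha, Nat.xor_comm]
    · rw [aQ_large hf hb, mul_one, one_mul]
  · rw [aQ_large hf ha, mul_one, one_mul]

theorem aQ_inv (a : ℕ) : (aQ F ω a)⁻¹ = aQ F ω a := by
  rcases Nat.lt_or_ge a 16 with ha | ha
  · refine inv_eq_of_mul_eq_one_right ?_
    rw [aQ_mul hf ha ha, Nat.xor_self, aQ_zero hf]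
  · rw [aQ_large hf ha, inv_one]

theorem tQ_eq : tQ F ω = aQ F ω 1 := rfl

theorem conj_act {k a : ℕ} (hk : k < 180) (ha : a < 16) :
    kQ F ω k * aQ F ω a * (kQ F ω k)⁻¹ = aQ F ω (act k a) := by
  rw [mul_inv_eq_iff_eq_mul, kQ, aQ, aQ, ← qEl_mul' hf (good_kCode hf k) (good_aEl hf a),
    ← qEl_mul' hf (good_aEl hf _) (good_kCode hf k)]
  exact qEl_same hf (good_mul hf (good_aEl hf _) (good_kCode hf _)).1 (of_all (of_all check_act hk) ha)

variable [Fintype F] (hF : Fintype.card F = 4)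
include hF

theorem mem_AA {x : QQ F ω} : x ∈ AA F ω ↔ ∃ a < 16, aQ F ω a = x := by
  have := (Tab.spec_triv hf hF check_tabA).2.1 x
  rwa [table_sizes.1] at this

theorem card_AA : Nat.card (AA F ω) = 16 :=
  (Tab.spec_triv hf hF check_tabA).2.2.trans table_sizes.1

theorem mem_KK {x : QQ F ω} : x ∈ KK F ω ↔ ∃ k < 180, kQ F ω k = x := by
  have := (Tab.spec_triv hf hF check_tabK).2.1 x
  rwa [table_sizes.2.2.1] at this

theorem card_KK : Nat.card (KK F ω) = 180 :=
  (Tab.spec_triv hf hF check_tabK).2.2.trans table_sizes.2.2.1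

theorem aQ_mem (a : ℕ) : aQ F ω a ∈ AA F ω := by
  rcases Nat.lt_or_ge a 16 with ha | ha
  · exact (mem_AA hf hF).2 ⟨a, ha, rfl⟩
  · rw [aQ_large hf ha]; exact one_mem _

theorem kQ_mem (k : ℕ) : kQ F ω k ∈ KK F ω := by
  rcases Nat.lt_or_ge k 180 with hk | hk
  · exact (mem_KK hf hF).2 ⟨k, hk, rfl⟩
  · rw [kQ_large hf hk]; exact one_mem _

theorem aQ_inj {a b : ℕ} (ha : a < 16) (hb : b < 16) (h : aQ F ω a = aQ F ω b) : a = b :=
  index_injective (fun _ => mem_AA hf hF) (card_AA hf hF) ha hb h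

theorem kQ_inj {k l : ℕ} (hk : k < 180) (hl : l < 180) (h : kQ F ω k = kQ F ω l) : k = l :=
  index_injective (fun _ => mem_KK hf hF) (card_KK hf hF) hk hl h

theorem AA_comm {x y : QQ F ω} (hx : x ∈ AA F ω) (hy : y ∈ AA F ω) : x * y = y * x := by
  obtain ⟨a, -, rfl⟩ := (mem_AA hf hF).1 hx
  obtain ⟨b, -, rfl⟩ := (mem_AA hf hF).1 hy
  exact aQ_comm hf a b

theorem act_xor {k a b : ℕ} (hk : k < 180) (ha : a < 16) (hb : b < 16) :
    act k (a ^^^ b) = act k a ^^^ act k b := by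
  refine aQ_inj hf hF (act_lt _ _) (Nat.xor_lt_two_pow (n := 4) (act_lt _ _) (act_lt _ _)) ?_
  rw [← conj_act hf hk (Nat.xor_lt_two_pow (n := 4) ha hb), ← aQ_mul hf (act_lt _ _) (act_lt _ _),
    ← conj_act hf hk ha, ← conj_act hf hk hb, ← aQ_mul hf ha hb]
  group

theorem act_zero {a : ℕ} (ha : a < 16) : act 0 a = a := by
  refine aQ_inj hf hF (act_lt _ _) ha ?_
  rw [← conj_act hf (by norm_num) ha, kQ_zero hf, one_mul, inv_one, mul_one]

/-- The action of the complement is faithful on the generators. -/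
theorem act_faithful {k : ℕ} (hk : k < 180) (h : ∀ j < 4, act k (2 ^ j) = 2 ^ j) : k = 0 := by
  have hs := check_stab
  simp only [Bool.and_eq_true] at hs
  have h' := of_all (of_all hs.2 hk) (show 0 < 180 by norm_num)
  simp only [Bool.or_eq_true, Bool.not_eq_true', List.all_eq_false, List.mem_range] at h'
  rcases h' with ⟨j, hj, h'⟩ | h'
  · rw [h j hj, act_zero hf hF (Nat.pow_lt_pow_right one_lt_two hj)] at h'
    simp at h'
  · exact beq_eq h'

theorem KK_normalizes : KK F ω ≤ Subgroup.normalizer (AA F ω : Set (QQ F ω)) := by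
  intro x hx
  have key : ∀ x ∈ KK F ω, ∀ y ∈ AA F ω, x * y * x⁻¹ ∈ AA F ω := by
    intro x hx y hy
    obtain ⟨k, hk, rfl⟩ := (mem_KK hf hF).1 hx
    obtain ⟨a, ha, rfl⟩ := (mem_AA hf hF).1 hy
    rw [conj_act hf hk ha]
    exact aQ_mem hf hF _
  rw [Subgroup.mem_normalizer_iff]
  refine fun y => ⟨key x hx y, fun hy => ?_⟩
  simpa [mul_assoc] using key x⁻¹ (inv_mem hx) _ hy

theorem AA_inf_KK {x : QQ F ω} (hA : x ∈ AA F ω) (hK : x ∈ KK F ω) : x = 1 := by
  obtain ⟨k, hk, rfl⟩ := (mem_KK hf hF).1 hK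
  obtain rfl : k = 0 := act_faithful hf hF hk fun j hj => by
    have h2 : 2 ^ j < 16 := Nat.pow_lt_pow_right (m := j) (n := 4) one_lt_two hj
    refine aQ_inj hf hF (act_lt _ _) h2 ?_
    rw [← conj_act hf hk h2, AA_comm hf hF hA (aQ_mem hf hF _), mul_inv_cancel_right]
  exact kQ_zero hf

theorem mem_MM {x : QQ F ω} :
    x ∈ MM F ω ↔ ∃ a < 16, ∃ k < 180, aQ F ω a * kQ F ω k = x := by
  rw [MM, (semi_prod (KK_normalizes hf hF) fun x => AA_inf_KK hf hF).1 x]
  constructor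
  · rintro ⟨u, hu, v, hv, rfl⟩
    obtain ⟨a, ha, rfl⟩ := (mem_AA hf hF).1 hu
    obtain ⟨k, hk, rfl⟩ := (mem_KK hf hF).1 hv
    exact ⟨a, ha, k, hk, rfl⟩
  · rintro ⟨a, -, k, -, rfl⟩
    exact ⟨_, aQ_mem hf hF a, _, kQ_mem hf hF k, rfl⟩

/-- The stabiliser of the involution in the complement, by index. -/
theorem mem_SS {x : QQ F ω} :
    x ∈ SS F ω ↔ ∃ i < 12, kQ F ω (stabIdx.getD i 0) = x := by
  have hs := check_stab
  simp only [Bool.and_eq_true] at hs
  have key : ∀ i < 12, qEl F ω (tabS.el i) = kQ F ω (stabIdx.getD i 0) := by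
    intro i hi
    have h' := of_all hs.1.1 hi
    simp only [Bool.and_eq_true] at h'
    exact qEl_same hf (good_kCode hf _) h'.2
  rw [SS, (Tab.spec_triv hf hF check_tabS).2.1, table_sizes.2.2.2.2.2.2.2.2.1]
  exact ⟨fun ⟨i, hi, e⟩ => ⟨i, hi, by rw [← key i hi, e]⟩,
    fun ⟨i, hi, e⟩ => ⟨i, hi, by rw [key i hi, e]⟩⟩

theorem SS_le : SS F ω ≤ KK F ω := fun _ hx => by
  obtain ⟨i, -, rfl⟩ := (mem_SS hf hF).1 hx
  exact kQ_mem hf hF _

theorem stab_iff {k : ℕ} (hk : k < 180) : act k 1 = 1 ↔ ∃ i < 12, stabIdx.getD i 0 = k := by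
  have hs := check_stab
  simp only [Bool.and_eq_true] at hs
  have hlen : stabIdx.length = 12 := by decide
  have h' := beq_iff_eq.1 (of_all hs.1.2 hk)
  constructor
  · intro h
    rw [h, Nat.beq_refl] at h'
    obtain ⟨e, he, e'⟩ := List.any_eq_true.1 h'.symm
    obtain ⟨i, hi, rfl⟩ := List.getElem_of_mem he
    exact ⟨i, hlen ▸ hi, by rw [List.getD_eq_getElem _ _ hi]; exact beq_eq e'⟩
  · rintro ⟨i, hi, e⟩
    have : stabIdx.any (fun e => Nat.beq e k) = true :=
      List.any_eq_true.2 ⟨k, by rw [← e, List.getD_eq_getElem _ _ (hlen ▸ hi)]; exact List.getElem_mem _,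
        Nat.beq_refl k⟩
    rw [this] at h'
    exact beq_eq h'

/-- The elements of the stabiliser of the involution in the normaliser. -/
theorem mem_NN {x : QQ F ω} :
    x ∈ AA F ω ⊔ SS F ω ↔ ∃ b < 192, qEl F ω (nEl b) = x := by
  rw [(semi_prod ((SS_le hf hF).trans (KK_normalizes hf hF))
    fun x hA hS => AA_inf_KK hf hF hA (SS_le hf hF hS)).1 x]
  constructor
  · rintro ⟨u, hu, v, hv, rfl⟩
    obtain ⟨a, ha, rfl⟩ := (mem_AA hf hF).1 hu
    obtain ⟨i, hi, rfl⟩ := (mem_SS hf hF).1 hv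
    refine ⟨a + 16 * i, by omega, ?_⟩
    rw [nEl, show (a + 16 * i) % 16 = a by omega, show (a + 16 * i) / 16 = i by omega,
      qEl_mul' hf (good_aEl hf a) (good_kCode hf _)]
    rfl
  · rintro ⟨b, hb, rfl⟩
    exact ⟨_, aQ_mem hf hF (b % 16), _, (mem_SS hf hF).2 ⟨b / 16, by omega, rfl⟩,
      (qEl_mul' hf (good_aEl hf _) (good_kCode hf _)).symm⟩

theorem card_NN : Nat.card ↥(AA F ω ⊔ SS F ω) = 192 := by
  rw [(semi_prod ((SS_le hf hF).trans (KK_normalizes hf hF))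
    fun x hA hS => AA_inf_KK hf hF hA (SS_le hf hF hS)).2, card_AA hf hF, SS,
    (Tab.spec_triv hf hF check_tabS).2.2, table_sizes.2.2.2.2.2.2.2.2.1]

theorem tQ_ne_one : tQ F ω ≠ 1 := fun h => absurd
  (aQ_inj hf hF (show 1 < 16 by norm_num) (show 0 < 16 by norm_num)
    (by rw [aQ_zero hf]; exact h)) (by norm_num)

theorem orderOf_tQ : orderOf (tQ F ω) = 2 := by
  refine orderOf_eq_prime ?_ (tQ_ne_one hf hF)
  rw [pow_two, tQ_eq hf, aQ_mul hf (by norm_num) (by norm_num), Nat.xor_self, aQ_zero hf]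

omit hF in
theorem mem_CC {x : QQ F ω} : x ∈ CC F ω ↔ x * tQ F ω = tQ F ω * x :=
  Subgroup.mem_centralizer_singleton_iff

omit hF in
theorem gen_comm {T : Tab} (hT : T.okGood = true) {g : ℕ}
    (h : same (mul tEl₂ (T.gen g)) (mul (T.gen g) tEl₂) = true) : qEl F ω (T.gen g) ∈ CC F ω := by
  have gg := (Tab.good hf hT g).2
  have gt : Good F ω tEl₂ := good_aEl hf 1
  rw [mem_CC hf, tQ, ← qEl_mul' hf gg gt, ← qEl_mul' hf gt gg]
  exact (qEl_same hf (good_mul hf gg gt).1 h).symm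

theorem stab_mem_CC (i : ℕ) (hi : i < 12) : kQ F ω (stabIdx.getD i 0) ∈ CC F ω := by
  have hs := check_stab
  simp only [Bool.and_eq_true] at hs
  have h' := of_all hs.1.1 hi
  simp only [Bool.and_eq_true, Nat.blt_eq] at h'
  have := conj_act hf h'.1 (show 1 < 16 by norm_num) (F := F) (ω := ω)
  rw [(stab_iff hf hF h'.1).2 ⟨i, hi, rfl⟩, mul_inv_eq_iff_eq_mul] at this
  exact (mem_CC hf).2 this

theorem NN_le_CC : AA F ω ⊔ SS F ω ≤ CC F ω := by
  refine sup_le (fun x hx => (mem_CC hf).2 (AA_comm hf hF hx (aQ_mem hf hF 1))) fun x hx => ?_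
  obtain ⟨i, hi, rfl⟩ := (mem_SS hf hF).1 hx
  exact stab_mem_CC hf hF i hi

theorem tabC_gens : ∀ g < tabC.m, qEl F ω (tabC.gen g) ∈ CC F ω := by
  have h := check_tabC_gens
  simp only [Bool.and_eq_true] at h
  intro g hg
  rw [table_sizes.2.2.2.2.2.2.2.2.2.2.2] at hg
  rcases Nat.lt_or_ge g 4 with h4 | h4
  · rw [beq_eq (of_all h.1.1 h4)]
    exact NN_le_CC hf hF (le_sup_left (b := SS F ω) (aQ_mem hf hF _))
  rcases Nat.lt_or_ge g 6 with h6 | h6
  · obtain ⟨j, hj, rfl⟩ : ∃ j < 2, g = 4 + j := ⟨g - 4, by omega, by omega⟩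
    rw [beq_eq (of_all h.1.2 hj)]
    exact NN_le_CC hf hF (le_sup_right (a := AA F ω)
      (Tab.gen_mem hf j (table_sizes.2.2.2.2.2.2.2.2.2.1.symm ▸ hj)))
  · obtain rfl : g = 6 := by omega
    exact gen_comm hf (okGood_of_ok check_tabC) h.2

/-- The centraliser of the central involution: its order, and its elements. -/
theorem cent_spec : Nat.card (CC F ω) = 1920 ∧
    ∀ x, x ∈ CC F ω ↔ ∃ r < 10, ∃ b < 192, qEl F ω (nEl b) * qEl F ω (tabC.el r) = x := by
  have h := check_tabC_gens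
  simp only [Bool.and_eq_true] at h
  have hle : AA F ω ⊔ SS F ω ≤ tabC.grp F ω := by
    refine sup_le ((Subgroup.closure_le _).2 ?_) ((Subgroup.closure_le _).2 ?_)
    · rintro _ ⟨g, hg, rfl⟩
      rw [Set.mem_Iio, table_sizes.2.1] at hg
      show qEl F ω (tabA.gen g) ∈ _
      rw [beq_eq (of_all check_aGen hg), ← beq_eq (of_all h.1.1 hg)]
      exact Tab.gen_mem hf g (by rw [table_sizes.2.2.2.2.2.2.2.2.2.2.2]; omega)
    · rintro _ ⟨g, hg, rfl⟩
      rw [Set.mem_Iio, table_sizes.2.2.2.2.2.2.2.2.2.1] at hg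
      show qEl F ω (tabS.gen g) ∈ _
      rw [← beq_eq (of_all h.1.2 hg)]
      exact Tab.gen_mem hf (4 + g) (by rw [table_sizes.2.2.2.2.2.2.2.2.2.2.2]; omega)
  have gN : ∀ b < 192, Good F ω (nEl b) := fun b _ => (good_mul hf (good_aEl hf _) (good_kCode hf _)).1
  obtain ⟨-, h2, h3⟩ := Tab.spec hf hF gN (fun _ => mem_NN hf hF) hle check_tabC
  rw [table_sizes.2.2.2.2.2.2.2.2.2.2.1] at h2 h3
  rw [card_NN hf hF] at h3
  have hCle : tabC.grp F ω ≤ CC F ω := (Subgroup.closure_le _).2 (by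
    rintro _ ⟨g, hg, rfl⟩; exact tabC_gens hf hF g hg)
  have hb : Nat.card (CC F ω) ≤ 3600 := card_cent_le hf hF
  have hd := Subgroup.card_dvd_of_le hCle
  rw [h3] at hd
  have hc : Nat.card (CC F ω) = 1920 := by
    obtain ⟨c, hc⟩ := hd
    have : 0 < Nat.card (CC F ω) := Nat.card_pos
    obtain rfl : c = 1 := by omega
    omega
  have heq : tabC.grp F ω = CC F ω :=
    Subgroup.eq_of_le_of_card_ge hCle (by rw [hc, h3])
  exact ⟨hc, fun x => by rw [← heq]; exact h2 x⟩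

/-- An element normalising the subgroup of order 16 lies in the group of order 2880. -/
theorem normalizer_le {x : QQ F ω} (hx : ∀ a < 16, x * aQ F ω a * x⁻¹ ∈ AA F ω) :
    x ∈ MM F ω := by
  obtain ⟨b, hb, eb⟩ := (mem_AA hf hF).1 (hx 1 (by norm_num))
  have hb0 : b ≠ 0 := by
    rintro rfl
    rw [aQ_zero hf, eq_comm, mul_inv_eq_one] at eb
    exact tQ_ne_one hf hF (mul_left_cancel (eb.trans (mul_one x).symm))
  have hz := check_z
  simp only [Bool.and_eq_true] at hz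
  have h' := of_all hz.2 hb
  simp only [Bool.or_eq_true, List.any_eq_true, List.mem_range] at h'
  obtain ⟨k, hk, e⟩ := h'.resolve_left fun e => hb0 (beq_eq e)
  set c := (kQ F ω k)⁻¹ * x with hc
  have hkc : kQ F ω k * aQ F ω 1 * (kQ F ω k)⁻¹ = x * aQ F ω 1 * x⁻¹ := by
    rw [conj_act hf hk (by norm_num), beq_eq e, eb]
  have hcC : c ∈ CC F ω := by
    rw [mem_CC hf, hc, tQ_eq hf]
    have := congrArg (fun y => (kQ F ω k)⁻¹ * y * x) hkc
    simpa [mul_assoc] using this.symm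
  obtain ⟨r, hr, n, hn, e'⟩ := ((cent_spec hf hF).2 c).1 hcC
  have hnM : qEl F ω (nEl n) ∈ MM F ω :=
    (sup_le_sup_left (SS_le hf hF) _) ((mem_NN hf hF).2 ⟨n, hn, rfl⟩)
  have hnorm : MM F ω ≤ Subgroup.normalizer (AA F ω : Set (QQ F ω)) :=
    sup_le Subgroup.le_normalizer (KK_normalizes hf hF)
  by_cases hr0 : r = 0
  · subst hr0
    rw [el_zero_of_ok check_tabC, (good_one hf).2, mul_one] at e'
    rw [show x = kQ F ω k * c by rw [hc, mul_inv_cancel_left], ← e']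
    exact mul_mem (le_sup_right (a := AA F ω) (kQ_mem hf hF k)) hnM
  exfalso
  have hm := of_all check_moves hr
  simp only [Bool.or_eq_true, Bool.and_eq_true, Nat.blt_eq] at hm
  obtain ⟨hj, hm'⟩ := hm.resolve_left fun e => hr0 (beq_eq e)
  unfold moves at hm'
  set j := cosetWit.getD r 0 with hjdef
  have hr' : qEl F ω (tabC.el r) =
      (qEl F ω (nEl n))⁻¹ * (kQ F ω k)⁻¹ * x := by rw [mul_assoc, ← hc, ← e', inv_mul_cancel_left]
  have hy : qEl F ω (tabC.el r) * aQ F ω (2 ^ j) * (qEl F ω (tabC.el r))⁻¹ ∈ AA F ω := by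
    have h1 : (qEl F ω (nEl n))⁻¹ * (kQ F ω k)⁻¹ ∈ MM F ω :=
      mul_mem (inv_mem hnM) (inv_mem (le_sup_right (a := AA F ω) (kQ_mem hf hF k)))
    have h2 := (Subgroup.mem_normalizer_iff.1 (hnorm h1) _).1
      (hx (2 ^ j) (Nat.pow_lt_pow_right (m := j) (n := 4) one_lt_two hj))
    rw [hr']
    simpa [mul_assoc] using h2
  obtain ⟨a, ha, ea⟩ := (mem_AA hf hF).1 hy
  have h3 := of_all hm' ha
  have gr : Good F ω (tabC.el r) := (Tab.good hf (okGood_of_ok check_tabC) r).1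
  rw [same_of_qEl hf hF (good_mul hf gr (good_aEl hf _)).1 (good_mul hf (good_aEl hf a) gr).1 ?_]
    at h3
  · cases h3
  · rw [qEl_mul' hf gr (good_aEl hf _), qEl_mul' hf (good_aEl hf a) gr,
      ← mul_inv_eq_iff_eq_mul]
    exact ea.symm

/-- The subgroup of order 16 is self-centralising. -/
theorem centralizer_le {x : QQ F ω} (hx : ∀ a < 16, x * aQ F ω a = aQ F ω a * x) :
    x ∈ AA F ω := by
  obtain ⟨a, ha, k, hk, rfl⟩ := (mem_MM hf hF).1 (normalizer_le hf hF fun b hb => by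
    rw [hx b hb, mul_inv_cancel_right]; exact aQ_mem hf hF b)
  obtain rfl : k = 0 := act_faithful hf hF hk fun j hj => by
    have h2 : 2 ^ j < 16 := Nat.pow_lt_pow_right (m := j) (n := 4) one_lt_two hj
    refine aQ_inj hf hF (act_lt _ _) h2 ?_
    rw [← conj_act hf hk h2, mul_inv_eq_iff_eq_mul]
    have := hx _ h2
    rw [mul_assoc, ← mul_assoc (aQ F ω (2 ^ j)), aQ_comm hf (2 ^ j) a, mul_assoc] at this
    exact mul_left_cancel this
  rw [kQ_zero hf, mul_one]
  exact aQ_mem hf hF a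

end CfsgLib.Janko3
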