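import Cfsg.Agent.Lib.Janko3.Data

/-!
Kernel evaluation of the tables for the triple cover of the third Janko group.
-/

set_option autoImplicit false
set_option maxRecDepth 100000
set_option maxHeartbeats 0
-- one kernel evaluation at a time
set_option Elab.async false

namespace CfsgLib.Janko3

open Cfsg.Spor

/-- A generator of the line stabiliser. -/
def hGen (i : ℕ) : ℕ := hGens.getD i 0

/-- The generator `D` used for the double cosets. -/
def gen1 : ℕ := gD.getD 3 0

/-- A diagonal element as a vector. -/
def kv (k : ℕ) : ℕ := kTab.getD k 0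

/-- A diagonal element. -/
def kEl (k : ℕ) : ℕ := diag (kv k)

/-- A coset representative. -/
def uEl (s : ℕ) : ℕ := uTab.getD s 0

/-- The inverse of a coset representative. -/
def tEl (s : ℕ) : ℕ := tTab.getD s 0

/-- A double coset representative. -/
def rEl (j : ℕ) : ℕ := repTab.getD j 0

/-- An element of the line stabiliser. -/
def hEl (k s : ℕ) : ℕ := mul (kEl k) (uEl s)

/-- Left part of a packed decomposition. -/
def dcLeft (e : ℕ) : ℕ := hEl (e % 81) (e / 81 % 80)

/-- Index of the double coset of a packed decomposition. -/
def dcMid (e : ℕ) : ℕ := e / 6480 % 28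

/-- Right part of a packed decomposition. -/
def dcRight (e : ℕ) : ℕ := hEl (e / 181440 % 81) (e / 14696640 % 80)

/-- Value of a packed decomposition. -/
def dcVal (e : ℕ) : ℕ := mul (dcLeft e) (mul (rEl (dcMid e)) (dcRight e))

/-- The image of the first line, moved by a coset representative and a double coset representative. -/
def orbPt (i s : ℕ) : ℕ := norm (col (mul (uEl s) (rEl i)))

/-- The images of a representative under the diagonal group. -/
def orbImgs (r : ℕ) : List ℕ := kSmall.map fun k => norm (vscale (kv k) r)

/-- An orbit representative. -/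
def orb (x : ℕ) : ℕ := orbTab.getD x 0

theorem check_inv : ((List.range 80).all fun s =>
    Nat.beq (mul (tEl s) (uEl s)) one && Nat.beq (mul (uEl s) (tEl s)) one) = true := by
  decide +kernel

theorem check_inv_k : ((List.range 81).all fun k => Nat.beq (mul (kEl k) (star (kEl k))) one &&
    Nat.blt (kv k) 262144) = true := by
  decide +kernel

theorem check_inv_rep : ((List.range 28).all fun j => Nat.beq (mul (rEl j) (star (rEl j))) one) =
    true := by
  decide +kernel

theorem check_inv_h : ((List.range 6).all fun g => Nat.beq (mul (hGen g) (star (hGen g))) one &&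
    Nat.beq (norm (col (hGen g))) 1) = true := by
  decide +kernel

theorem check_base : (Nat.beq (uEl 0) one && Nat.beq (kEl 0) one && Nat.beq (rEl 0) one &&
    Nat.beq (rEl 1) gen1 && Nat.beq (mul gen1 (star gen1)) one) = true := by
  decide +kernel

theorem check_kMul : ((List.range 81).all fun k => (List.range 4).all fun g =>
    Nat.blt (kMulTab.getD (4 * k + g) 0) 81 &&
    Nat.beq (mul (kEl k) (hGen g)) (kEl (kMulTab.getD (4 * k + g) 0))) = true := by
  decide +kernel

theorem check_uStep : ((List.range 80).all fun s => (List.range 6).all fun g =>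
    Nat.beq (mul (uEl s) (hGen g)) (hEl (uStepTab.getD (6 * s + g) 0 % 81)
      (uStepTab.getD (6 * s + g) 0 / 81)) &&
    Nat.blt (uStepTab.getD (6 * s + g) 0 / 81) 80) = true := by
  decide +kernel

theorem check_dNorm : ((List.range 81).all fun k => Nat.blt (dNorm.getD k 0) 81 &&
    Nat.beq (mul gen1 (kEl k)) (mul (kEl (dNorm.getD k 0)) gen1)) = true := by
  decide +kernel

theorem check_parent : ((List.range 27).all fun j =>
    Nat.blt (parentTab.getD j 0 % 28) (j + 1) && Nat.blt (parentTab.getD j 0 / 28) 80 &&
    Nat.beq (rEl (j + 1)) (mul gen1 (mul (uEl (parentTab.getD j 0 / 28))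
      (rEl (parentTab.getD j 0 % 28))))) = true := by
  decide +kernel

theorem check_gen : ((List.range 9).all fun z =>
    Nat.beq (gA.getD z 0) (dcVal (genTab.getD z 0)) &&
    Nat.beq (gE.getD z 0) (dcVal (genTab.getD (9 + z) 0)) &&
    Nat.beq (gD.getD z 0) (dcVal (genTab.getD (18 + z) 0)) &&
    (Nat.beq z 0 || Nat.beq (gB.getD z 0) (dcVal (genTab.getD (27 + z) 0))) &&
    (Nat.beq z 0 || Nat.beq (gC.getD z 0) (dcVal (genTab.getD (36 + z) 0)))) = true := by
  decide +kernel

theorem check_line : ((List.range 27).all fun j => !Nat.beq (norm (col (rEl (j + 1)))) 1) =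
    true := by
  decide +kernel

theorem check_second : ((List.range 80).all fun s => normed (norm (col (tEl s >>> 6))) &&
    (List.range 80).all fun t =>
      Nat.beq s t || !Nat.beq (norm (col (tEl s >>> 6))) (norm (col (tEl t >>> 6)))) = true := by
  decide +kernel

theorem check_k_distinct : ((List.range 81).all fun k => (List.range 81).all fun l =>
    Nat.beq k l || !Nat.beq (kv k) (kv l)) = true := by
  decide +kernel

theorem check_k_small : (((List.range 81).all fun k => kSmall.any fun l =>
    Nat.beq (norm (kv k)) (norm (kv l))) && (kSmall.all fun l => Nat.blt l 81) &&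
    Nat.beq ((List.range 81).countP fun k => Nat.beq (norm (kv k)) 87381) 3) = true := by
  decide +kernel

theorem check_orb_sorted : (Nat.beq orbTab.length 918 &&
    (orbTab.zip (orbTab.drop 1)).all fun p => Nat.blt p.1 p.2) = true := by
  decide +kernel

theorem check_orb_min_part0 : ((orbTab.take 459).all fun r => normed r &&
    (orbImgs r).all fun v => normed v && Nat.ble r v) = true := by
  decide +kernel

theorem check_orb_min_part1 : ((orbTab.drop 459).all fun r => normed r &&
    (orbImgs r).all fun v => normed v && Nat.ble r v) = true := by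
  decide +kernel

theorem check_orb_min : (orbTab.all fun r => normed r &&
    (orbImgs r).all fun v => normed v && Nat.ble r v) = true := by
  rw [← List.take_append_drop 459 orbTab, List.all_append, check_orb_min_part0, check_orb_min_part1]
  rfl

theorem check_orb_count_part0 :
    Nat.beq (((orbTab.take 459).map fun r => (orbImgs r).dedup.length).sum) 10881 = true := by
  decide +kernel

theorem check_orb_count_part1 :
    Nat.beq (((orbTab.drop 459).map fun r => (orbImgs r).dedup.length).sum) 12375 = true := by
  decide +kernel

theorem check_orb_count : Nat.beq ((orbTab.map fun r => (orbImgs r).dedup.length).sum) 23256 =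
    true := by
  rw [← List.take_append_drop 459 orbTab, List.map_append, List.sum_append,
    Nat.eq_of_beq_eq_true check_orb_count_part0, Nat.eq_of_beq_eq_true check_orb_count_part1]
  exact Nat.beq_refl _

theorem check_reach_part0 : ((List.range' 0 459).all fun x =>
    Nat.blt (reachTab.getD x 0 / 2240) 81 && Nat.beq (orb x)
      (norm (vscale (kv (reachTab.getD x 0 / 2240))
        (orbPt (reachTab.getD x 0 % 28) (reachTab.getD x 0 / 28 % 80))))) = true := by
  decide +kernel

theorem check_reach_part1 : ((List.range' 459 459).all fun x =>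
    Nat.blt (reachTab.getD x 0 / 2240) 81 && Nat.beq (orb x)
      (norm (vscale (kv (reachTab.getD x 0 / 2240))
        (orbPt (reachTab.getD x 0 % 28) (reachTab.getD x 0 / 28 % 80))))) = true := by
  decide +kernel

theorem check_reach : ((List.range 918).all fun x =>
    Nat.blt (reachTab.getD x 0 / 2240) 81 && Nat.beq (orb x)
      (norm (vscale (kv (reachTab.getD x 0 / 2240))
        (orbPt (reachTab.getD x 0 % 28) (reachTab.getD x 0 / 28 % 80))))) = true := by
  rw [show List.range 918 = List.range' 0 459 ++ List.range' 459 459 from by decide +kernel,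
    List.all_append, check_reach_part0, check_reach_part1]
  rfl

theorem check_moved_part0 : ((List.range' 0 459).all fun x =>
      Nat.beq (orb x) 1 || !((orbImgs (orb x)).all fun v => Nat.beq v (orb x)) ||
        movedTab.any fun m => Nat.beq (m % 1000) x) = true := by
  decide +kernel

theorem check_moved_part1 : ((List.range' 459 459).all fun x =>
      Nat.beq (orb x) 1 || !((orbImgs (orb x)).all fun v => Nat.beq v (orb x)) ||
        movedTab.any fun m => Nat.beq (m % 1000) x) = true := by
  decide +kernel

theorem check_moved_part2 : (movedTab.all fun m => Nat.blt (m / 1000) 6 &&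
      !Nat.beq (norm (col (mul (hGen (m / 1000)) (pack fun i => (orb (m % 1000) >>> (2 * i)) &&& 3))))
        (orb (m % 1000))) = true := by
  decide +kernel

theorem check_moved : (((List.range 918).all fun x =>
      Nat.beq (orb x) 1 || !((orbImgs (orb x)).all fun v => Nat.beq v (orb x)) ||
        movedTab.any fun m => Nat.beq (m % 1000) x) &&
    movedTab.all fun m => Nat.blt (m / 1000) 6 &&
      !Nat.beq (norm (col (mul (hGen (m / 1000)) (pack fun i => (orb (m % 1000) >>> (2 * i)) &&& 3))))
        (orb (m % 1000))) = true := by
  rw [show List.range 918 = List.range' 0 459 ++ List.range' 459 459 from by decide +kernel, List.all_append, check_moved_part0, check_moved_part1, check_moved_part2]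
  rfl

theorem check_special : ((List.range 9).all fun i => orbTab.any fun r => Nat.beq r (1 <<< (2 * i))) &&
    (orbTab.any fun r => (List.range 9).all fun i => !Nat.beq ((r >>> (2 * i)) &&& 3) 0) = true := by
  decide +kernel

theorem check_chain : ((List.range 26).all fun x =>
    let e := chainTab.getD x 0
    let t := e / 2240
    Nat.beq (mul (rEl (e % 28)) (mul (uEl (e / 28 % 80)) (rEl (e % 28)))) (dcVal t)) = true := by
  decide +kernel

/-- A conjugate of `E`. -/
def conjE (i s : ℕ) : ℕ :=
  mul (mul (uEl s) (rEl i)) (mul (hGen 2) (star (mul (uEl s) (rEl i))))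

/-- A product of two conjugates. -/
def pairEl (x : ℕ) : ℕ :=
  let e := pairTab.getD x 0
  mul (conjE (e % 28) (e / 28 % 80))
    (mul (kEl (e / 5017600)) (mul (conjE (e / 2240 % 28) (e / 62720 % 80)) (star (kEl (e / 5017600)))))

/-- The letters of the words for `B` and `C`. -/
def letter (t : ℕ) : ℕ := [hGen 0, hGen 1, hGen 2, hGen 3, pairEl 0, pairEl 1].getD t 0

/-- The value of a word. -/
def word (w : List ℕ) : ℕ := w.foldr (fun t M => mul (letter t) M) one

/-- A scalar. -/
def scal (c : ℕ) : ℕ := diag (cond (Nat.beq c 1) 87381 (cond (Nat.beq c 2) 174762 262143))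

/-- A power of `E`, at most two. -/
def powE (p : ℕ) : ℕ := cond (Nat.beq p 0) one (cond (Nat.beq p 1) (hGen 2) (mul (hGen 2) (hGen 2)))

theorem check_words : (Nat.beq (word wordB) (hGen 4) && Nat.beq (word wordC) (hGen 5)) = true := by
  decide +kernel

theorem check_diag_words : (([0, 1, 3].zip diagWordTab).all fun p =>
    Nat.beq (hGen p.1) (mul (scal (p.2 / 6720)) (mul (conjE (p.2 % 28) (p.2 / 28 % 80))
      (powE (p.2 / 2240 % 3))))) = true := by
  decide +kernel

theorem check_escape : Nat.beq (conjE (escapeTab.getD 0 0) (escapeTab.getD 1 0))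
    (dcVal (escapeTab.getD 2 0)) = true := by
  decide +kernel

theorem check_norm : (((List.range 6).all fun g => Nat.beq
      (mul (hGen g) (mul (hGen 2) (star (hGen g))))
      (mul (scal (normTab.getD g 0 % 4)) (powE (normTab.getD g 0 / 4)))) &&
    Nat.beq (mul (hGen 2) (mul (hGen 2) (hGen 2))) one &&
    Nat.beq (normTab.getD 4 0 / 4) 2) = true := by
  decide +kernel

theorem check_kParent : ((List.range 80).all fun k => Nat.blt (kParent.getD k 0 % 81) (k + 1) &&
    Nat.blt (kParent.getD k 0 / 81) 4 &&
    Nat.beq (kEl (k + 1)) (mul (kEl (kParent.getD k 0 % 81)) (hGen (kParent.getD k 0 / 81)))) =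
    true := by
  decide +kernel

theorem check_uParent : ((List.range 79).all fun s => Nat.blt (uParent.getD s 0 % 80) (s + 1) &&
    Nat.blt (uParent.getD s 0 / 80) 6 &&
    Nat.beq (uEl (s + 1)) (mul (uEl (uParent.getD s 0 % 80)) (star (hGen (uParent.getD s 0 / 80))))) =
    true := by
  decide +kernel

theorem pairwise_of_zip : ∀ L : List ℕ,
    ((L.zip (L.drop 1)).all fun p => Nat.blt p.1 p.2) = true → L.Pairwise (· < ·)
  | [], _ => List.Pairwise.nil
  | [a], _ => List.pairwise_singleton _ a
  | a :: b :: L, h => by
    rw [List.drop_succ_cons, List.drop_zero, List.zip_cons_cons, List.all_cons, Bool.and_eq_true] at h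
    have ih := pairwise_of_zip (b :: L) h.2
    refine List.pairwise_cons.2 ⟨fun x hx => ?_, ih⟩
    have hab : a < b := Nat.blt_eq.mp h.1
    rcases List.mem_cons.1 hx with rfl | hx
    · exact hab
    · exact hab.trans ((List.pairwise_cons.1 ih).1 x hx)

theorem check_orb_nodup : Nat.beq orbTab.dedup.length 918 = true := by
  have h := check_orb_sorted
  rw [Bool.and_eq_true] at h
  have hn : orbTab.Nodup := (pairwise_of_zip orbTab h.2).imp fun hab => Nat.ne_of_lt hab
  rw [List.dedup_eq_self.2 hn]
  exact h.1

theorem check_misc : (((List.range 27).all fun j => normed (norm (col (rEl (j + 1))))) &&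
    (List.range 26).all fun x =>
      let e := chainTab.getD x 0
      let m := dcMid (e / 2240)
      Nat.beq m 1 || (List.range x).any fun y => Nat.beq m (chainTab.getD y 0 % 28)) &&
    ((List.range 26).all fun j => (List.range 26).any fun x => Nat.beq (chainTab.getD x 0 % 28) (j + 2)) &&
    ([1, 2, 3].all fun c => (List.range 81).any fun k => Nat.beq (scal c) (kEl k)) &&
    !Nat.beq (dcMid (escapeTab.getD 2 0)) 0 = true := by
  decide +kernel

end CfsgLib.Janko3
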