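import Cfsg.Agent.Lib.Janko3.Checks

/-!
Kernel evaluation: closure of the double cosets and of the orbit.
-/

set_option autoImplicit false
set_option maxRecDepth 100000
set_option maxHeartbeats 0
-- one kernel evaluation at a time
set_option Elab.async false

namespace CfsgLib.Janko3

theorem check_decomp_part0 : ((List.range' 0 7).all fun i => (List.range 80).all fun s =>
    Nat.beq (mul gen1 (mul (uEl s) (rEl i))) (dcVal ((decTab.getD i []).getD s 0))) = true := by
  decide +kernel

theorem check_decomp_part1 : ((List.range' 7 7).all fun i => (List.range 80).all fun s =>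
    Nat.beq (mul gen1 (mul (uEl s) (rEl i))) (dcVal ((decTab.getD i []).getD s 0))) = true := by
  decide +kernel

theorem check_decomp_part2 : ((List.range' 14 7).all fun i => (List.range 80).all fun s =>
    Nat.beq (mul gen1 (mul (uEl s) (rEl i))) (dcVal ((decTab.getD i []).getD s 0))) = true := by
  decide +kernel

theorem check_decomp_part3 : ((List.range' 21 7).all fun i => (List.range 80).all fun s =>
    Nat.beq (mul gen1 (mul (uEl s) (rEl i))) (dcVal ((decTab.getD i []).getD s 0))) = true := by
  decide +kernel

theorem check_decomp : ((List.range 28).all fun i => (List.range 80).all fun s =>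
    Nat.beq (mul gen1 (mul (uEl s) (rEl i))) (dcVal ((decTab.getD i []).getD s 0))) = true := by
  rw [show List.range 28 = List.range' 0 7 ++ List.range' 7 7 ++ List.range' 14 7 ++ List.range' 21 7 from rfl]
  simp only [List.all_append, Bool.and_eq_true]
  exact ⟨⟨⟨check_decomp_part0, check_decomp_part1⟩, check_decomp_part2⟩, check_decomp_part3⟩

theorem check_cover_part0 : ((List.range' 0 14).all fun i => (List.range 80).all fun s =>
    let e := (coverTab.getD i []).getD s 0
    Nat.blt (e % 27) 27 && Nat.blt (e / 27) 918 &&
      Nat.beq (orbPt i s) (norm (vscale (kv (kSmall.getD (e % 27) 0)) (orb (e / 27))))) = true := by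
  decide +kernel

theorem check_cover_part1 : ((List.range' 14 14).all fun i => (List.range 80).all fun s =>
    let e := (coverTab.getD i []).getD s 0
    Nat.blt (e % 27) 27 && Nat.blt (e / 27) 918 &&
      Nat.beq (orbPt i s) (norm (vscale (kv (kSmall.getD (e % 27) 0)) (orb (e / 27))))) = true := by
  decide +kernel

theorem check_cover : ((List.range 28).all fun i => (List.range 80).all fun s =>
    let e := (coverTab.getD i []).getD s 0
    Nat.blt (e % 27) 27 && Nat.blt (e / 27) 918 &&
      Nat.beq (orbPt i s) (norm (vscale (kv (kSmall.getD (e % 27) 0)) (orb (e / 27))))) = true := by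
  rw [show List.range 28 = List.range' 0 14 ++ List.range' 14 14 from rfl, List.all_append, check_cover_part0, check_cover_part1]
  rfl

end CfsgLib.Janko3
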