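import Cfsg.Prelude.Def_Spor_J3

/-!
Bit codes for `9 × 9` matrices and vectors over a field with four elements, indexed by `F9`.

An entry `a + b ω` is the pair of bits `(a, b)`; a row is an 18-bit number and a matrix a 162-bit
number.
-/

set_option autoImplicit false

namespace CfsgLib.Janko3

open Cfsg.Spor Matrix

/-- Position of an index. -/
def ix (z : F9) : ℕ := 3 * z.1.val + z.2.val

theorem ix_lt (z : F9) : ix z < 9 := by revert z; decide

theorem ix_injective : Function.Injective ix := by decide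

/-- Row `i` of a matrix code. -/
def row (M i : ℕ) : ℕ := (M >>> (18 * i)) &&& 262143

/-- Multiply a row by `ω`. -/
def wRow (r : ℕ) : ℕ :=
  ((r >>> 1) &&& 87381) ^^^ (((r &&& 87381) ^^^ ((r >>> 1) &&& 87381)) <<< 1)

/-- A bit. -/
def bit (a k : ℕ) : Bool := Nat.beq ((a >>> k) &&& 1) 1

/-- Row `r` if `b`, else zero. -/
def sel (b : Bool) (r : ℕ) : ℕ := cond b r 0

/-- The contribution of entry `j` of the row `a`. -/
def term (a N j : ℕ) : ℕ :=
  sel (bit a (2 * j)) (row N j) ^^^ sel (bit a (2 * j + 1)) (wRow (row N j))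

/-- Product of a row and a matrix. -/
def rowMul (a N : ℕ) : ℕ :=
  (term a N 0 ^^^ term a N 1 ^^^ term a N 2 ^^^ term a N 3 ^^^ term a N 4 ^^^ term a N 5 ^^^
    term a N 6 ^^^ term a N 7 ^^^ term a N 8) &&& 262143

/-- Nine rows as a matrix. -/
def pack (r : ℕ → ℕ) : ℕ :=
  r 0 ||| (r 1 <<< 18) ||| (r 2 <<< 36) ||| (r 3 <<< 54) ||| (r 4 <<< 72) ||| (r 5 <<< 90) |||
    (r 6 <<< 108) ||| (r 7 <<< 126) ||| (r 8 <<< 144)

/-- Product of two matrices. -/
def mul (M N : ℕ) : ℕ := pack fun i => rowMul (row M i) N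

/-- A row of the conjugate transpose. -/
def starRow (M j : ℕ) : ℕ :=
  let e := fun i => cond (bit M (18 * i + 2 * j) != bit M (18 * i + 2 * j + 1)) (1 <<< (2 * i)) 0 |||
    cond (bit M (18 * i + 2 * j + 1)) (1 <<< (2 * i + 1)) 0
  e 0 ||| e 1 ||| e 2 ||| e 3 ||| e 4 ||| e 5 ||| e 6 ||| e 7 ||| e 8

/-- The conjugate transpose: the inverse of a unitary matrix. -/
def star (M : ℕ) : ℕ := pack fun j => starRow M j

/-- The matrix with the entries `v` on the diagonal. -/
def diag (v : ℕ) : ℕ := pack fun i => v &&& (3 <<< (2 * i)) &&& 262143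

/-- The identity. -/
def one : ℕ := diag 87381

/-- The first column. -/
def col (M : ℕ) : ℕ :=
  let e := fun i => ((M >>> (18 * i)) &&& 3) <<< (2 * i)
  e 0 ||| e 1 ||| e 2 ||| e 3 ||| e 4 ||| e 5 ||| e 6 ||| e 7 ||| e 8

/-- Scale entrywise: the diagonal `k` applied to the vector `v`. -/
def vscale (k v : ℕ) : ℕ :=
  let e := fun i => sel (bit k (2 * i)) (v &&& (3 <<< (2 * i))) ^^^
    sel (bit k (2 * i + 1)) (wRow (v &&& (3 <<< (2 * i))))
  (e 0 ^^^ e 1 ^^^ e 2 ^^^ e 3 ^^^ e 4 ^^^ e 5 ^^^ e 6 ^^^ e 7 ^^^ e 8) &&& 262143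

/-- Scale so that the first nonzero entry is one. -/
def normAux (v : ℕ) : ℕ → ℕ → ℕ
  | 0, _ => 0
  | f + 1, i => cond (Nat.beq ((v >>> (2 * i)) &&& 3) 0) (normAux v f (i + 1))
      (cond (Nat.beq ((v >>> (2 * i)) &&& 3) 1) (v &&& 262143)
        (cond (Nat.beq ((v >>> (2 * i)) &&& 3) 3) (wRow (v &&& 262143))
          (wRow (wRow (v &&& 262143)))))

/-- Scale so that the first nonzero entry is one. -/
def norm (v : ℕ) : ℕ := normAux v 9 0

section

variable (F : Type*) [Field F] (ω : F)

/-- The field element of a pair of bits. -/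
def el (a b : Bool) : F := cond a 1 0 + cond b ω 0

/-- Entry `i` of a vector code. -/
def ent (v i : ℕ) : F := el F ω (v.testBit (2 * i)) (v.testBit (2 * i + 1))

/-- The vector of a code. -/
def vdec (v : ℕ) : F9 → F := fun z => ent F ω v (ix z)

/-- The matrix of a code. -/
def dec (M : ℕ) : Matrix F9 F9 F := Matrix.of fun z w => ent F ω (row M (ix z)) (ix w)

end

theorem bit_eq (a k : ℕ) : bit a k = a.testBit k := by
  rw [bit, Nat.testBit_eq_decide_div_mod_eq, Nat.shiftRight_eq_div_pow, Nat.and_one_is_mod]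
  rcases Nat.mod_two_eq_zero_or_one (a / 2 ^ k) with h | h <;> rw [h] <;> rfl

theorem testBit_full {k : ℕ} (hk : k < 18) : Nat.testBit 262143 k = true := by
  revert k; decide

theorem testBit_evens {k : ℕ} (hk : k < 18) : Nat.testBit 87381 k = (k % 2 == 0) := by
  revert k; decide

theorem testBit_row {M i k : ℕ} (hk : k < 18) : (row M i).testBit k = M.testBit (18 * i + k) := by
  rw [row, Nat.testBit_and, testBit_full hk, Bool.and_true, Nat.testBit_shiftRight]

theorem testBit_row_high {M i k : ℕ} (hk : 18 ≤ k) : (row M i).testBit k = false :=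
  Nat.testBit_lt_two_pow (lt_of_lt_of_le (Nat.and_le_right.trans_lt (by norm_num))
    (Nat.pow_le_pow_right two_pos hk))

theorem testBit_wRow_even {r j : ℕ} (hj : j < 9) :
    (wRow r).testBit (2 * j) = r.testBit (2 * j + 1) := by
  have h1 : Nat.testBit 87381 (2 * j) = true := by rw [testBit_evens (by omega)]; simp
  rw [wRow, Nat.testBit_xor, Nat.testBit_shiftLeft, Nat.testBit_and, Nat.testBit_shiftRight, h1,
    Bool.and_true, Nat.add_comm 1]
  rcases j with _ | j
  · simp
  · rw [show 2 * (j + 1) - 1 = 2 * j + 1 by omega]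
    have h2 : Nat.testBit 87381 (2 * j + 1) = false := by rw [testBit_evens (by omega)]; simp
    simp [Nat.testBit_xor, Nat.testBit_and, h2]

theorem testBit_wRow_odd {r j : ℕ} (hj : j < 9) :
    (wRow r).testBit (2 * j + 1) = (r.testBit (2 * j) ^^ r.testBit (2 * j + 1)) := by
  have h1 : Nat.testBit 87381 (2 * j) = true := by rw [testBit_evens (by omega)]; simp
  have h2 : Nat.testBit 87381 (2 * j + 1) = false := by rw [testBit_evens (by omega)]; simp
  rw [wRow, Nat.testBit_xor, Nat.testBit_shiftLeft, Nat.testBit_and, h2, Bool.and_false,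
    Bool.false_xor, show 2 * j + 1 - 1 = 2 * j by omega, Nat.testBit_xor, Nat.testBit_and,
    Nat.testBit_and, Nat.testBit_shiftRight, h1, Nat.add_comm 1]
  simp

section

variable {F : Type*} [Field F] {ω : F} (h2 : (2 : F) = 0) (hω : ω ^ 2 + ω + 1 = 0)

include h2 in
theorem el_xor (a b c d : Bool) :
    el F ω (a ^^ c) (b ^^ d) = el F ω a b + el F ω c d := by
  cases a <;> cases b <;> cases c <;> cases d <;> simp [el] <;>
    first
      | ring1
      | linear_combination h2
      | linear_combination (-1 : F) * h2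
      | linear_combination ω * h2
      | linear_combination (-ω) * h2
      | linear_combination (1 + ω) * h2
      | linear_combination (-(1 + ω)) * h2

include h2 hω in
theorem el_mul_omega (a b : Bool) : el F ω b (a ^^ b) = ω * el F ω a b := by
  cases a <;> cases b <;> simp [el] <;>
    first
      | ring1
      | linear_combination h2 - hω
      | linear_combination (1 + ω) * h2 - hω
      | linear_combination -hω + (ω + 1) * h2
      | linear_combination hω
      | linear_combination -hω

include h2 in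
theorem ent_xor (u v i : ℕ) : ent F ω (u ^^^ v) i = ent F ω u i + ent F ω v i := by
  rw [ent, Nat.testBit_xor, Nat.testBit_xor, el_xor h2]; rfl

theorem ent_zero (i : ℕ) : ent F ω 0 i = 0 := by simp [ent, el]

include h2 hω in
theorem ent_wRow {r i : ℕ} (hi : i < 9) : ent F ω (wRow r) i = ω * ent F ω r i := by
  rw [ent, testBit_wRow_even hi, testBit_wRow_odd hi, el_mul_omega h2 hω]; rfl

theorem ent_mask {r i : ℕ} (hi : i < 9) : ent F ω (r &&& 262143) i = ent F ω r i := by
  rw [ent, Nat.testBit_and, Nat.testBit_and, testBit_full (by omega), testBit_full (by omega)]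
  simp [ent]

include h2 hω in
theorem ent_scaled (x r i : ℕ) (j : ℕ) (hi : i < 9) :
    ent F ω (sel (bit x (2 * j)) r ^^^ sel (bit x (2 * j + 1)) (wRow r)) i =
      ent F ω x j * ent F ω r i := by
  rw [ent_xor h2, bit_eq, bit_eq]
  have e : ent F ω x j = el F ω (x.testBit (2 * j)) (x.testBit (2 * j + 1)) := rfl
  rw [e]
  cases x.testBit (2 * j) <;> cases x.testBit (2 * j + 1) <;>
    simp [sel, el, ent_zero, ent_wRow h2 hω hi] <;> ring1

theorem testBit_pack (r : ℕ → ℕ) (hr : ∀ i k, 18 ≤ k → (r i).testBit k = false) {i k : ℕ}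
    (hi : i < 9) (hk : k < 18) : (pack r).testBit (18 * i + k) = (r i).testBit k := by
  simp only [pack, Nat.testBit_or, Nat.testBit_shiftLeft]
  interval_cases i <;> norm_num <;>
    simp (disch := omega) [hr, decide_eq_false]

theorem row_pack (r : ℕ → ℕ) (hr : ∀ i k, 18 ≤ k → (r i).testBit k = false) {i : ℕ} (hi : i < 9) :
    row (pack r) i = r i := by
  refine Nat.eq_of_testBit_eq fun k => ?_
  by_cases hk : k < 18
  · rw [testBit_row hk, testBit_pack r hr hi hk]
  · rw [testBit_row_high (by omega), hr i k (by omega)]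

theorem mask_high (a : ℕ) {k : ℕ} (hk : 18 ≤ k) : (a &&& 262143).testBit k = false :=
  Nat.testBit_lt_two_pow (lt_of_lt_of_le (Nat.and_le_right.trans_lt (by norm_num))
    (Nat.pow_le_pow_right two_pos hk))

theorem sum_ix (f : ℕ → F) : ∑ z : F9, f (ix z) =
    f 0 + f 1 + f 2 + f 3 + f 4 + f 5 + f 6 + f 7 + f 8 := by
  rw [Fintype.sum_prod_type]
  show ∑ x : Fin 3, ∑ y : Fin 3, f (3 * x.val + y.val) = _
  simp only [Fin.sum_univ_three]
  simp [add_assoc]

include h2 hω in
/-- **Soundness of the product.** -/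
theorem dec_mul (M N : ℕ) : dec F ω (mul M N) = dec F ω M * dec F ω N := by
  ext z w
  rw [Matrix.mul_apply]
  simp only [dec, Matrix.of_apply]
  have hi := ix_lt z
  have hj := ix_lt w
  rw [mul, row_pack (fun i => rowMul (row M i) N) (fun i k hk => mask_high _ hk) hi,
    sum_ix fun l => ent F ω (row M (ix z)) l * ent F ω (row N l) (ix w)]
  simp only [rowMul, ent_mask hj, ent_xor h2, term, ← ent_scaled h2 hω _ _ _ _ hj]

include h2 hω in
theorem vdec_vscale (k v : ℕ) (z : F9) :
    vdec F ω (vscale k v) z = vdec F ω k z * vdec F ω v z := by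
  have hj := ix_lt z
  simp only [vdec, vscale, ent_mask hj]
  have key : ∀ i, i < 9 → ent F ω (v &&& (3 <<< (2 * i))) (ix z) =
      if i = ix z then ent F ω v (ix z) else 0 := by
    intro i hi
    have h3 : ∀ i < 9, ∀ j < 9, Nat.testBit (3 <<< (2 * i)) (2 * j) = decide (i = j) ∧
        Nat.testBit (3 <<< (2 * i)) (2 * j + 1) = decide (i = j) := by decide
    rw [ent, Nat.testBit_and, Nat.testBit_and, (h3 i hi _ hj).1, (h3 i hi _ hj).2]
    split_ifs with h <;> simp [h, ent, el]
  have e : ∀ i, i < 9 → ent F ω (sel (bit k (2 * i)) (v &&& (3 <<< (2 * i))) ^^^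
      sel (bit k (2 * i + 1)) (wRow (v &&& (3 <<< (2 * i))))) (ix z) =
      if i = ix z then ent F ω k (ix z) * ent F ω v (ix z) else 0 := by
    intro i hi
    rw [ent_scaled h2 hω _ _ _ _ hj, key i hi]
    split_ifs with h
    · rw [h]
    · rw [mul_zero]
  rw [ent_xor h2, ent_xor h2, ent_xor h2, ent_xor h2, ent_xor h2, ent_xor h2, ent_xor h2,
    ent_xor h2, e 0 (by norm_num), e 1 (by norm_num), e 2 (by norm_num), e 3 (by norm_num),
    e 4 (by norm_num), e 5 (by norm_num), e 6 (by norm_num), e 7 (by norm_num), e 8 (by norm_num)]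
  generalize ix z = j at hj ⊢
  interval_cases j <;> simp

include h2 hω in
theorem el_injective {a b c d : Bool} (h : el F ω a b = el F ω c d) : a = c ∧ b = d := by
  have hω0 : ω ≠ 0 := fun e => by simp [e] at hω
  have h1 : ω ≠ 1 := fun e => one_ne_zero (α := F) (by rw [e] at hω; linear_combination hω - h2)
  revert h
  cases a <;> cases b <;> cases c <;> cases d <;> simp [el] <;>
    first
      | exact hω0
      | exact hω0.symm
      | exact h1
      | exact h1.symm
      | exact fun e => h1 (by linear_combination e + h2)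
      | exact fun e => h1 (by linear_combination -e + h2)
      | exact fun e => h1 (by linear_combination e)
      | exact fun e => h1 (by linear_combination -e)
      | exact fun e => hω0 (by linear_combination e)
      | exact fun e => hω0 (by linear_combination -e)
      | exact fun e => hω0 (by linear_combination e + ω * h2)
      | exact fun e => hω0 (by linear_combination -e + ω * h2)
      | exact fun e => h1 (by linear_combination e - h2)
      | exact fun e => h1 (by linear_combination -e - h2)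

include h2 hω in
theorem code_injective {u v : ℕ} (hu : u < 262144) (hv : v < 262144)
    (h : vdec F ω u = vdec F ω v) : u = v := by
  refine Nat.eq_of_testBit_eq fun k => ?_
  by_cases hk : k < 18
  · have hs : ∀ i < 9, ∃ z : F9, ix z = i := by decide
    obtain ⟨z, hz⟩ := hs (k / 2) (by omega)
    have h1 := congrFun h z
    simp only [vdec, hz] at h1
    obtain ⟨e1, e2⟩ := el_injective h2 hω h1
    rcases Nat.mod_two_eq_zero_or_one k with e | e
    · rwa [show 2 * (k / 2) = k by omega] at e1
    · rwa [show 2 * (k / 2) + 1 = k by omega] at e2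
  · have hb : (2 : ℕ) ^ 18 ≤ 2 ^ k := Nat.pow_le_pow_right two_pos (by omega)
    rw [Nat.testBit_lt_two_pow (by omega), Nat.testBit_lt_two_pow (by omega)]

theorem row_diag (v : ℕ) {i : ℕ} (hi : i < 9) :
    row (diag v) i = v &&& (3 <<< (2 * i)) &&& 262143 :=
  row_pack (fun i => v &&& (3 <<< (2 * i)) &&& 262143) (fun _ k hk => mask_high _ hk) hi

theorem dec_diag (v : ℕ) : dec F ω (diag v) = Matrix.diagonal (vdec F ω v) := by
  ext z w
  have hw := ix_lt w
  simp only [dec, Matrix.of_apply]
  rw [row_diag v (ix_lt z), ent_mask hw]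
  have h3 : ∀ i < 9, ∀ j < 9, Nat.testBit (3 <<< (2 * i)) (2 * j) = decide (i = j) ∧
      Nat.testBit (3 <<< (2 * i)) (2 * j + 1) = decide (i = j) := by decide
  rw [ent, Nat.testBit_and, Nat.testBit_and, (h3 _ (ix_lt z) _ hw).1, (h3 _ (ix_lt z) _ hw).2,
    Matrix.diagonal_apply]
  by_cases h : z = w
  · subst h; simp [vdec, ent]
  · simp [h, ix_injective.ne h, el]

theorem dec_one : dec F ω one = 1 := by
  rw [one, dec_diag, ← Matrix.diagonal_one]
  congr 1
  funext z
  have h1 : ∀ j < 9, Nat.testBit 87381 (2 * j) = true ∧ Nat.testBit 87381 (2 * j + 1) = false := by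
    decide
  simp [vdec, ent, el, h1 _ (ix_lt z)]

/-- The first nonzero entry is one. -/
def normedAux (v : ℕ) : ℕ → ℕ → Bool
  | 0, _ => false
  | f + 1, i => cond (Nat.beq ((v >>> (2 * i)) &&& 3) 0) (normedAux v f (i + 1))
      (Nat.beq ((v >>> (2 * i)) &&& 3) 1)

/-- A normalised vector code. -/
def normed (v : ℕ) : Bool := normedAux v 9 0 && Nat.blt v 262144

theorem pair_eq (v i : ℕ) : ((v >>> (2 * i)) &&& 3) =
    (cond (v.testBit (2 * i)) 1 0) + (cond (v.testBit (2 * i + 1)) 2 0) := by
  rw [show (3 : ℕ) = 2 ^ 2 - 1 from rfl, Nat.and_two_pow_sub_one_eq_mod,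
    Nat.shiftRight_eq_div_pow, Nat.testBit_eq_decide_div_mod_eq, Nat.testBit_eq_decide_div_mod_eq,
    pow_succ 2 (2 * i), ← Nat.div_div_eq_div_mul]
  generalize v / 2 ^ (2 * i) = x
  rcases Nat.mod_two_eq_zero_or_one x with e | e <;>
    rcases Nat.mod_two_eq_zero_or_one (x / 2) with f | f <;> simp [e, f] <;> omega

theorem normedAux_spec (v : ℕ) : ∀ f i, normedAux v f i = true →
    ∃ j, i ≤ j ∧ j < i + f ∧ ent F ω v j = 1 ∧ ∀ l, i ≤ l → l < j → ent F ω v l = 0 := by
  intro f
  induction f with
  | zero => intro i h; simp [normedAux] at h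
  | succ f ih =>
    intro i h
    rw [normedAux, pair_eq] at h
    cases ha : v.testBit (2 * i) <;> cases hb : v.testBit (2 * i + 1) <;> rw [ha, hb] at h
    · obtain ⟨j, h1, h3, h4, h5⟩ := ih (i + 1) (by simpa using h)
      refine ⟨j, by omega, by omega, h4, fun l hl hl' => ?_⟩
      rcases eq_or_lt_of_le hl with rfl | hl
      · simp [ent, el, ha, hb]
      · exact h5 l hl hl'
    · simp at h
    · exact ⟨i, le_rfl, by omega, by simp [ent, el, ha, hb], fun l h1 h3 => absurd h3 (by omega)⟩
    · simp at h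

include h2 hω in
/-- Distinct normalised codes give distinct lines. -/
theorem normed_line_injective {u v : ℕ} (hu : normed u = true) (hv : normed v = true) {c : F}
    (h : vdec F ω u = c • vdec F ω v) : u = v := by
  simp only [normed, Bool.and_eq_true, Nat.blt_eq] at hu hv
  obtain ⟨i, -, hi, hi1, hi0⟩ := normedAux_spec (F := F) (ω := ω) u 9 0 hu.1
  obtain ⟨j, -, hj, hj1, hj0⟩ := normedAux_spec (F := F) (ω := ω) v 9 0 hv.1
  have hs : ∀ i < 9, ∃ z : F9, ix z = i := by decide
  have e : ∀ l < 9, ent F ω u l = c * ent F ω v l := fun l hl => by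
    obtain ⟨z, rfl⟩ := hs l hl
    exact congrFun h z
  have hc : c = 1 := by
    rcases lt_trichotomy i j with hlt | rfl | hlt
    · have := e i (by omega)
      rw [hi1, hj0 i (Nat.zero_le _) hlt, mul_zero] at this
      exact absurd this one_ne_zero
    · have := e i (by omega)
      rw [hi1, hj1, mul_one] at this
      exact this.symm
    · have := e j (by omega)
      rw [hj1, hi0 j (Nat.zero_le _) hlt, mul_one] at this
      have h1 := e i (by omega)
      rw [hi1, ← this, zero_mul] at h1
      exact absurd h1 one_ne_zero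
  exact code_injective h2 hω hu.2 hv.2 (by rw [h, hc, one_smul])

theorem normAux_spec (h2 : (2 : F) = 0) (hω : ω ^ 2 + ω + 1 = 0) (v : ℕ) : ∀ f i,
    normAux v f i = 0 ∨ ∃ c : F, c ≠ 0 ∧ vdec F ω (normAux v f i) = c • vdec F ω v := by
  have hω0 : ω ≠ 0 := fun e => by simp [e] at hω
  intro f
  induction f with
  | zero => intro i; exact Or.inl rfl
  | succ f ih =>
    intro i
    rw [normAux]
    rcases Bool.eq_false_or_eq_true (Nat.beq ((v >>> (2 * i)) &&& 3) 0) with e | e <;> rw [e]
    · exact ih (i + 1)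
    · refine Or.inr ?_
      simp only [cond_false]
      rcases Bool.eq_false_or_eq_true (Nat.beq ((v >>> (2 * i)) &&& 3) 1) with e | e <;> rw [e]
      · exact ⟨1, one_ne_zero, funext fun z => by simp [vdec, ent_mask (ix_lt z)]⟩
      simp only [cond_false]
      rcases Bool.eq_false_or_eq_true (Nat.beq ((v >>> (2 * i)) &&& 3) 3) with e | e <;> rw [e]
      · exact ⟨ω, hω0, funext fun z => by
          simp [vdec, ent_wRow h2 hω (ix_lt z), ent_mask (ix_lt z)]⟩
      · exact ⟨ω * ω, mul_ne_zero hω0 hω0, funext fun z => by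
          simp [vdec, ent_wRow h2 hω (ix_lt z), ent_mask (ix_lt z), mul_assoc]⟩

include h2 hω in
/-- Normalisation keeps the line. -/
theorem span_norm {v : ℕ} (h : norm v ≠ 0) :
    Submodule.span F {vdec F ω (norm v)} = Submodule.span F {vdec F ω v} := by
  obtain ⟨c, hc, e⟩ := (normAux_spec h2 hω v 9 0).resolve_left h
  rw [show norm v = normAux v 9 0 from rfl, e]
  exact Submodule.span_singleton_smul_eq (IsUnit.mk0 c hc) _

theorem vdec_col (M : ℕ) : vdec F ω (col M) = fun z => dec F ω M z 0 := by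
  funext z
  simp only [vdec, col, dec, Matrix.of_apply]
  have hz := ix_lt z
  have h0 : ix (0 : F9) = 0 := rfl
  rw [h0]
  simp only [ent, testBit_row (show 2 * 0 < 18 by norm_num),
    testBit_row (show 2 * 0 + 1 < 18 by norm_num)]
  have h3 : ∀ x k, ((M >>> x) &&& 3).testBit k = (decide (k < 2) && M.testBit (x + k)) := by
    intro x k
    rw [show (3 : ℕ) = 2 ^ 2 - 1 from rfl, Nat.testBit_and, Nat.testBit_two_pow_sub_one,
      Nat.testBit_shiftRight, Bool.and_comm]
  generalize ix z = j at hz ⊢
  interval_cases j <;> simp [Nat.testBit_or, Nat.testBit_shiftLeft, h3, -Nat.shiftRight_zero]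

end

end CfsgLib.Janko3
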