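import Mathlib

/-!
A subgroup given by a table of cosets of a known subgroup.
-/

set_option autoImplicit false

namespace CfsgLib.Janko3

/-- Representatives `φ i`, `i < n`, of right cosets of `B` closed under the generators `gen`,
with a left inverse `bk` of the step table: they are distinct and exhaust the generated group. -/
theorem coset_table {G : Type*} [Group G] [Finite G] (B : Subgroup G) {n m : ℕ} (φ gen : ℕ → G)
    (st bk : ℕ → ℕ → ℕ) (par : ℕ → ℕ × ℕ) (hn : 0 < n)
    (hst : ∀ i < n, ∀ g < m, st i g < n ∧ φ i * gen g * (φ (st i g))⁻¹ ∈ B)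
    (hbk : ∀ i < n, ∀ g < m, bk i g < n ∧ st (bk i g) g = i)
    (hpar : ∀ i < n, i ≠ 0 → (par i).1 < i ∧ (par i).2 < m ∧ st (par i).1 (par i).2 = i)
    (hone : φ 0 = 1) (hne : ∀ i < n, φ i ∈ B → i = 0)
    (hB : B ≤ Subgroup.closure (gen '' Set.Iio m)) :
    (∀ i < n, φ i ∈ Subgroup.closure (gen '' Set.Iio m)) ∧
    (∀ i < n, ∀ j < n, φ i * (φ j)⁻¹ ∈ B → i = j) ∧
    (∀ x, x ∈ Subgroup.closure (gen '' Set.Iio m) ↔ ∃ i < n, x * (φ i)⁻¹ ∈ B) ∧
    Nat.card (Subgroup.closure (gen '' Set.Iio m)) = n * Nat.card B := by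
  set K := Subgroup.closure (gen '' Set.Iio m) with hK
  have hgen : ∀ g < m, gen g ∈ K := fun g hg => Subgroup.subset_closure ⟨g, hg, rfl⟩
  have hmem : ∀ i < n, φ i ∈ K := by
    intro i
    induction i using Nat.strong_induction_on with
    | _ i ih =>
      intro hi
      rcases eq_or_ne i 0 with rfl | h0
      · rw [hone]; exact one_mem _
      obtain ⟨hp, hg, e⟩ := hpar i hi h0
      have h := (hst (par i).1 (by omega) _ hg).2
      rw [e] at h
      have h2 := mul_mem (inv_mem (hB h)) (mul_mem (ih _ hp (by omega)) (hgen _ hg))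
      simpa [mul_assoc] using h2
  have hinj : ∀ i < n, ∀ j < n, φ i * (φ j)⁻¹ ∈ B → i = j := by
    intro i
    induction i using Nat.strong_induction_on with
    | _ i ih =>
      intro hi j hj h
      rcases eq_or_ne i 0 with rfl | h0
      · rw [hone, one_mul, inv_mem_iff] at h
        exact (hne j hj h).symm
      obtain ⟨hp, hg, e⟩ := hpar i hi h0
      obtain ⟨hb, eb⟩ := hbk j hj _ hg
      have h1 := (hst _ (show (par i).1 < n by omega) _ hg).2
      have h2 := (hst _ hb _ hg).2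
      rw [e] at h1
      rw [eb] at h2
      have h3 : φ (par i).1 * (φ (bk j (par i).2))⁻¹ ∈ B := by
        have := mul_mem (mul_mem h1 h) (inv_mem h2)
        simpa [mul_assoc] using this
      have := ih _ hp (by omega) _ hb h3
      rw [← e, this, eb]
  have hstep : ∀ x ∈ K, ∀ i < n, ∃ j < n, φ i * x * (φ j)⁻¹ ∈ B := by
    intro x hx
    rw [hK, ← Subgroup.mem_toSubmonoid, Subgroup.closure_toSubmonoid_of_finite] at hx
    induction hx using Submonoid.closure_induction with
    | mem x hx =>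
      obtain ⟨g, hg, rfl⟩ := hx
      exact fun i hi => ⟨st i g, hst i hi g hg⟩
    | one => exact fun i hi => ⟨i, hi, by simp [one_mem]⟩
    | mul x y _ _ ihx ihy =>
      intro i hi
      obtain ⟨j, hj, hxj⟩ := ihx i hi
      obtain ⟨k, hk, hyk⟩ := ihy j hj
      refine ⟨k, hk, ?_⟩
      simpa [mul_assoc] using mul_mem hxj hyk
  have hiff : ∀ x, x ∈ K ↔ ∃ i < n, x * (φ i)⁻¹ ∈ B := by
    intro x
    constructor
    · intro hx
      simpa [hone] using hstep x hx 0 hn
    · rintro ⟨i, hi, h⟩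
      simpa using mul_mem (hB h) (hmem i hi)
  refine ⟨hmem, hinj, hiff, ?_⟩
  have hbij : Function.Bijective (fun p : Fin n × B => (⟨(p.2 : G) * φ p.1,
      mul_mem (hB p.2.2) (hmem _ p.1.2)⟩ : K)) := by
    constructor
    · rintro ⟨i, b⟩ ⟨j, c⟩ h
      have h' : (b : G) * φ i = c * φ j := congrArg Subtype.val h
      have hij : φ i * (φ j)⁻¹ = (b : G)⁻¹ * c := by
        rw [mul_inv_eq_iff_eq_mul, mul_assoc, ← h', inv_mul_cancel_left]
      obtain rfl : i = j := Fin.ext (hinj _ i.2 _ j.2 (hij ▸ mul_mem (inv_mem b.2) c.2))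
      obtain rfl : b = c := Subtype.ext (mul_right_cancel h')
      rfl
    · rintro ⟨x, hx⟩
      obtain ⟨i, hi, h⟩ := (hiff x).1 hx
      exact ⟨⟨⟨i, hi⟩, ⟨_, h⟩⟩, Subtype.ext (by simp)⟩
  rw [← Nat.card_eq_of_bijective _ hbij, Nat.card_prod, Nat.card_eq_fintype_card, Fintype.card_fin]

end CfsgLib.Janko3
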