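import Cfsg.Agent.Lib.Janko3.Basic

/-!
The group generated by the matrices of the definitions: double cosets, stabiliser and orbit.
-/

set_option autoImplicit false
set_option linter.unusedSectionVars false

namespace CfsgLib.Janko3

open Cfsg.Spor Matrix Subgroup

variable {F : Type*} [Field F] {ω : F} (hf : Field4 F ω)
include hf

theorem gl_hEl {k s : ℕ} (hk : k < 81) (hs : s < 80) :
    IsUnit (dec F ω (hEl k s)) ∧ gl F ω (hEl k s) = gl F ω (kEl k) * gl F ω (uEl s) :=
  gl_mul hf (unit_kEl hf hk) (unit_uEl hf hs)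

theorem dc_left (e : ℕ) : IsUnit (dec F ω (dcLeft e)) ∧
    gl F ω (dcLeft e) = gl F ω (kEl (e % 81)) * gl F ω (uEl (e / 81 % 80)) :=
  gl_hEl hf (Nat.mod_lt _ (by norm_num)) (Nat.mod_lt _ (by norm_num))

theorem dc_right (e : ℕ) : IsUnit (dec F ω (dcRight e)) ∧
    gl F ω (dcRight e) = gl F ω (kEl (e / 181440 % 81)) * gl F ω (uEl (e / 14696640 % 80)) :=
  gl_hEl hf (Nat.mod_lt _ (by norm_num)) (Nat.mod_lt _ (by norm_num))

theorem dc_val (e : ℕ) : IsUnit (dec F ω (dcVal e)) ∧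
    gl F ω (dcVal e) = gl F ω (dcLeft e) * gl F ω (rEl (dcMid e)) * gl F ω (dcRight e) := by
  have hm : dcMid e < 28 := Nat.mod_lt _ (by norm_num)
  obtain ⟨u1, e1⟩ := gl_mul hf (unit_rEl hf hm) (dc_right hf e).1
  obtain ⟨u2, e2⟩ := gl_mul hf (dc_left hf e).1 u1
  exact ⟨u2, by rw [show dcVal e = mul (dcLeft e) (mul (rEl (dcMid e)) (dcRight e)) from rfl, e2, e1,
    mul_assoc]⟩

theorem hGen_mem {g : ℕ} (hg : g < 6) : gl F ω (hGen g) ∈ HH F ω := subset_closure ⟨g, hg, rfl⟩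

theorem kEl_mem {k : ℕ} (hk : k < 81) : gl F ω (kEl k) ∈ HH F ω := by
  induction k using Nat.strong_induction_on with
  | _ k ih =>
    rcases k with _ | k
    · rw [(base hf).2.1]; exact one_mem _
    have h := of_all check_kParent (show k < 80 by omega)
    simp only [Bool.and_eq_true, Nat.blt_eq] at h
    obtain ⟨⟨h1, h3⟩, h4⟩ := h
    rw [beq_eq h4, (gl_mul hf (unit_kEl hf (by omega)) (unit_hGen hf (by omega))).2]
    exact mul_mem (ih _ h1 (by omega)) (hGen_mem hf (by omega))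

theorem uEl_mem {s : ℕ} (hs : s < 80) : gl F ω (uEl s) ∈ HH F ω := by
  induction s using Nat.strong_induction_on with
  | _ s ih =>
    rcases s with _ | s
    · rw [(base hf).1]; exact one_mem _
    have h := of_all check_uParent (show s < 79 by omega)
    simp only [Bool.and_eq_true, Nat.blt_eq] at h
    obtain ⟨⟨h1, h3⟩, h4⟩ := h
    have hi := of_all check_inv_h h3
    simp only [Bool.and_eq_true] at hi
    obtain ⟨hu, he⟩ := unit_star hf (beq_eq hi.1)
    rw [beq_eq h4, (gl_mul hf (unit_uEl hf (by omega)) hu).2, he]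
    exact mul_mem (ih _ h1 (by omega)) (inv_mem (hGen_mem hf h3))

theorem dcLeft_mem (e : ℕ) : gl F ω (dcLeft e) ∈ HH F ω := by
  rw [(dc_left hf e).2]
  exact mul_mem (kEl_mem hf (Nat.mod_lt _ (by norm_num))) (uEl_mem hf (Nat.mod_lt _ (by norm_num)))

theorem dcRight_mem (e : ℕ) : gl F ω (dcRight e) ∈ HH F ω := by
  rw [(dc_right hf e).2]
  exact mul_mem (kEl_mem hf (Nat.mod_lt _ (by norm_num))) (uEl_mem hf (Nat.mod_lt _ (by norm_num)))

/-- Right multiplication keeps the diagonal set. -/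
theorem k_step {k g : ℕ} (hk : k < 81) (hg : g < 4) :
    ∃ k' < 81, gl F ω (kEl k) * gl F ω (hGen g) = gl F ω (kEl k') := by
  have h := of_all (of_all check_kMul hk) hg
  simp only [Bool.and_eq_true, Nat.blt_eq] at h
  exact ⟨_, h.1, by rw [← (gl_mul hf (unit_kEl hf hk) (unit_hGen hf (by omega))).2, beq_eq h.2]⟩

/-- The diagonal set is closed under products. -/
theorem k_mul {k l : ℕ} (hk : k < 81) (hl : l < 81) :
    ∃ m < 81, gl F ω (kEl k) * gl F ω (kEl l) = gl F ω (kEl m) := by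
  induction l using Nat.strong_induction_on with
  | _ l ih =>
    rcases l with _ | l
    · exact ⟨k, hk, by rw [(base hf).2.1, mul_one]⟩
    have h := of_all check_kParent (show l < 80 by omega)
    simp only [Bool.and_eq_true, Nat.blt_eq] at h
    obtain ⟨⟨h1, h3⟩, h4⟩ := h
    obtain ⟨m, hm, e⟩ := ih _ h1 (by omega)
    rw [beq_eq h4, (gl_mul hf (unit_kEl hf (by omega)) (unit_hGen hf (by omega))).2, ← mul_assoc, e]
    exact k_step hf hm h3

/-- The line stabiliser as a set. -/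
theorem mem_HH [Finite F] {x : GL F9 F} (hx : x ∈ HH F ω) :
    ∃ k < 81, ∃ s < 80, x = gl F ω (kEl k) * gl F ω (uEl s) := by
  have key : ∀ x ∈ Submonoid.closure {x | ∃ g < 6, x = gl F ω (hGen g)},
      ∀ k < 81, ∀ s < 80, ∃ k' < 81, ∃ s' < 80,
        gl F ω (kEl k) * gl F ω (uEl s) * x = gl F ω (kEl k') * gl F ω (uEl s') := by
    intro x hx
    induction hx using Submonoid.closure_induction with
    | mem x hx =>
      obtain ⟨g, hg, rfl⟩ := hx
      intro k hk s hs
      have h := of_all (of_all check_uStep hs) hg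
      simp only [Bool.and_eq_true, Nat.blt_eq] at h
      set t := uStepTab.getD (6 * s + g) 0
      have hk' : t % 81 < 81 := Nat.mod_lt _ (by norm_num)
      obtain ⟨m, hm, e⟩ := k_mul hf hk hk'
      refine ⟨m, hm, t / 81, h.2, ?_⟩
      rw [mul_assoc, ← (gl_mul hf (unit_uEl hf hs) (unit_hGen hf hg)).2, beq_eq h.1,
        (gl_hEl hf hk' h.2).2, ← mul_assoc, e]
    | one => intro k hk s hs; exact ⟨k, hk, s, hs, mul_one _⟩
    | mul x y _ _ ihx ihy =>
      intro k hk s hs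
      obtain ⟨k', hk', s', hs', e⟩ := ihx k hk s hs
      rw [← mul_assoc, e]
      exact ihy k' hk' s' hs'
  have hx' : x ∈ (HH F ω).toSubmonoid := hx
  rw [HH, Subgroup.closure_toSubmonoid_of_finite] at hx'
  obtain ⟨k, hk, s, hs, e⟩ := key x hx' 0 (by norm_num) 0 (by norm_num)
  rw [(base hf).2.1, (base hf).1, one_mul, one_mul] at e
  exact ⟨k, hk, s, hs, e⟩

theorem HH_le_GG : HH F ω ≤ GG F ω := fun _ h => subset_closure (Or.inl h)

theorem gen1_mem : gl F ω gen1 ∈ GG F ω := subset_closure (Or.inr rfl)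

theorem rEl_mem {j : ℕ} (hj : j < 28) : gl F ω (rEl j) ∈ GG F ω := by
  induction j using Nat.strong_induction_on with
  | _ j ih =>
    rcases j with _ | j
    · rw [(base hf).2.2.1]; exact one_mem _
    have h := of_all check_parent (show j < 27 by omega)
    simp only [Bool.and_eq_true, Nat.blt_eq] at h
    obtain ⟨⟨h1, h3⟩, h4⟩ := h
    obtain ⟨u1, e1⟩ := gl_mul hf (unit_uEl hf h3) (unit_rEl hf (show parentTab.getD j 0 % 28 < 28 by omega))
    rw [beq_eq h4, (gl_mul hf (base hf).2.2.2.2 u1).2, e1]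
    exact mul_mem (gen1_mem hf) (mul_mem (HH_le_GG hf (uEl_mem hf h3)) (ih _ h1 (by omega)))

/-- The group is the union of the double cosets. -/
theorem mem_GG [Finite F] {x : GL F9 F} (hx : x ∈ GG F ω) :
    ∃ h ∈ HH F ω, ∃ j < 28, ∃ h' ∈ HH F ω, x = h * gl F ω (rEl j) * h' := by
  have key : ∀ x ∈ Submonoid.closure ((HH F ω : Set (GL F9 F)) ∪ {gl F ω gen1}),
      ∀ h ∈ HH F ω, ∀ j < 28, ∀ h' ∈ HH F ω, ∃ a ∈ HH F ω, ∃ i < 28, ∃ a' ∈ HH F ω,
        x * (h * gl F ω (rEl j) * h') = a * gl F ω (rEl i) * a' := by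
    intro x hx
    induction hx using Submonoid.closure_induction with
    | mem x hx =>
      intro h hh j hj h' hh'
      rcases hx with hx | hx
      · exact ⟨x * h, mul_mem hx hh, j, hj, h', hh', by simp only [mul_assoc]⟩
      rw [Set.mem_singleton_iff] at hx
      subst hx
      obtain ⟨k, hk, s, hs, rfl⟩ := mem_HH hf hh
      have hd := of_all check_dNorm hk
      simp only [Bool.and_eq_true, Nat.blt_eq] at hd
      obtain ⟨hd1, hd2⟩ := hd
      have hD := (base hf).2.2.2.2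
      have e1 : gl F ω gen1 * gl F ω (kEl k) = gl F ω (kEl (dNorm.getD k 0)) * gl F ω gen1 := by
        rw [← (gl_mul hf hD (unit_kEl hf hk)).2, beq_eq hd2, (gl_mul hf (unit_kEl hf hd1) hD).2]
      have hs' := beq_eq (of_all (of_all check_decomp hj) hs)
      set t := (decTab.getD j []).getD s 0
      obtain ⟨u1, e2⟩ := gl_mul hf (unit_uEl hf hs) (unit_rEl hf hj)
      have e3 : gl F ω gen1 * (gl F ω (uEl s) * gl F ω (rEl j)) =
          gl F ω (dcLeft t) * gl F ω (rEl (dcMid t)) * gl F ω (dcRight t) := by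
        rw [← e2, ← (gl_mul hf hD u1).2, hs', (dc_val hf t).2]
      refine ⟨gl F ω (kEl (dNorm.getD k 0)) * gl F ω (dcLeft t),
        mul_mem (kEl_mem hf hd1) (dcLeft_mem hf t), dcMid t, Nat.mod_lt _ (by norm_num),
        gl F ω (dcRight t) * h', mul_mem (dcRight_mem hf t) hh', ?_⟩
      calc gl F ω gen1 * (gl F ω (kEl k) * gl F ω (uEl s) * gl F ω (rEl j) * h')
          = (gl F ω gen1 * gl F ω (kEl k)) * (gl F ω (uEl s) * gl F ω (rEl j)) * h' := by
            simp only [mul_assoc]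
        _ = gl F ω (kEl (dNorm.getD k 0)) * (gl F ω gen1 * (gl F ω (uEl s) * gl F ω (rEl j))) * h' := by
            rw [e1]; simp only [mul_assoc]
        _ = _ := by rw [e3]; simp only [mul_assoc]
    | one => intro h hh j hj h' hh'; exact ⟨h, hh, j, hj, h', hh', one_mul _⟩
    | mul x y _ _ ihx ihy =>
      intro h hh j hj h' hh'
      obtain ⟨a, ha, i, hi, a', ha', e⟩ := ihy h hh j hj h' hh'
      rw [mul_assoc, e]
      exact ihx a ha i hi a' ha'
  have hx' : x ∈ (GG F ω).toSubmonoid := hx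
  rw [GG, Subgroup.closure_toSubmonoid_of_finite] at hx'
  obtain ⟨a, ha, i, hi, a', ha', e⟩ := key x hx' 1 (one_mem _) 0 (by norm_num) 1 (one_mem _)
  rw [(base hf).2.2.1, one_mul, mul_one, mul_one] at e
  exact ⟨a, ha, i, hi, a', ha', e⟩

theorem dcVal_mem (e : ℕ) : gl F ω (dcVal e) ∈ GG F ω := by
  rw [(dc_val hf e).2]
  exact mul_mem (mul_mem (HH_le_GG hf (dcLeft_mem hf e)) (rEl_mem hf (Nat.mod_lt _ (by norm_num))))
    (HH_le_GG hf (dcRight_mem hf e))

theorem eq_gl {x : GL F9 F} {c : ℕ} (hu : IsUnit (dec F ω c)) (h : (x : Matrix F9 F9 F) = dec F ω c) :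
    x = gl F ω c := Units.ext (h.trans (gl_coe hf hu).symm)

/-- The group of the definitions. -/
theorem threeJ3_eq : threeJ3 F ω = GG F ω := by
  refine le_antisymm ((closure_le _).2 ?_) ((closure_le _).2 ?_)
  · intro x hx
    have key : ∀ c e : ℕ, (x : Matrix F9 F9 F) = dec F ω c → c = dcVal e → x ∈ GG F ω :=
      fun c e h he => by
        subst he
        rw [eq_gl hf (dc_val hf e).1 h]
        exact dcVal_mem hf e
    have hg : ∀ Z : F9, _ := fun Z => of_all check_gen (ix_lt Z)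
    simp only [Bool.and_eq_true, Bool.or_eq_true] at hg
    rcases hx with (((⟨Z, h⟩ | ⟨Z, h⟩) | ⟨Z, h⟩) | ⟨Z, hZ, h⟩) | ⟨Z, hZ, h⟩
    · exact key _ _ (h.symm.trans (dec_gA hf.two hf.omega Z).symm) (beq_eq (hg Z).1.1.1.1)
    · exact key _ _ (h.symm.trans (dec_gE hf.two hf.omega Z).symm) (beq_eq (hg Z).1.1.1.2)
    · exact key _ _ (h.symm.trans (dec_gD hf.two hf.omega Z).symm) (beq_eq (hg Z).1.1.2)
    · have hz : ¬ Nat.beq (ix Z) 0 = true := fun e => hZ (ix_injective (beq_eq e))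
      exact key _ _ (h.trans (dec_gB Z hZ).symm) (beq_eq ((hg Z).1.2.resolve_left hz))
    · have hz : ¬ Nat.beq (ix Z) 0 = true := fun e => hZ (ix_injective (beq_eq e))
      exact key _ _ (h.trans (dec_gC Z hZ).symm) (beq_eq ((hg Z).2.resolve_left hz))
  · have key : ∀ c : ℕ, IsUnit (dec F ω c) → dec F ω c ∈ j3Gens F ω → gl F ω c ∈ threeJ3 F ω :=
      fun c hu h => subset_closure (by rw [Set.mem_setOf_eq, gl_coe hf hu]; exact h)
    rintro x (hx | hx)
    · refine (show HH F ω ≤ threeJ3 F ω from (closure_le _).2 ?_) hx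
      rintro y ⟨g, hg, rfl⟩
      refine key _ (unit_hGen hf hg) ?_
      have hgen : hGen 0 = gA.getD (ix ((1, 0) : F9)) 0 ∧ hGen 1 = gA.getD (ix ((0, 1) : F9)) 0 ∧
          hGen 2 = gE.getD (ix ((0, 0) : F9)) 0 ∧ hGen 3 = gE.getD (ix ((1, 0) : F9)) 0 ∧
          hGen 4 = gB.getD (ix ((1, 1) : F9)) 0 ∧ hGen 5 = gC.getD (ix ((1, 0) : F9)) 0 := by
        decide +kernel
      obtain ⟨a, b, c, d, e, f⟩ := hgen
      interval_cases g
      · exact Or.inl (Or.inl (Or.inl (Or.inl ⟨_, by rw [a, dec_gA hf.two hf.omega]⟩)))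
      · exact Or.inl (Or.inl (Or.inl (Or.inl ⟨_, by rw [b, dec_gA hf.two hf.omega]⟩)))
      · exact Or.inl (Or.inl (Or.inl (Or.inr ⟨_, by rw [c, dec_gE hf.two hf.omega]⟩)))
      · exact Or.inl (Or.inl (Or.inl (Or.inr ⟨_, by rw [d, dec_gE hf.two hf.omega]⟩)))
      · exact Or.inl (Or.inr ⟨((1, 1) : F9), by decide, by rw [e, dec_gB _ (by decide)]⟩)
      · exact Or.inr ⟨((1, 0) : F9), by decide, by rw [f, dec_gC _ (by decide)]⟩
    · rw [Set.mem_singleton_iff] at hx
      subst hx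
      refine key _ (base hf).2.2.2.2 (Or.inl (Or.inl (Or.inr ⟨((1, 0) : F9), ?_⟩)))
      rw [← dec_gD hf.two hf.omega]
      rfl

end CfsgLib.Janko3
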