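import Cfsg.Agent.Lib.Janko3.CentChecks

/-!
Kernel evaluation for the involutions and the elementary abelian subgroups of order 16 of the Sylow
subgroup.
-/

set_option autoImplicit false
set_option maxRecDepth 100000
set_option maxHeartbeats 0
set_option Elab.async false

namespace CfsgLib.Janko3

/-- Whether an index lies in one of the two elementary abelian subgroups of order 16. -/
def inUnion (d : ℕ) : Bool :=
  aSyl.any (fun e => Nat.beq e d) || aSylTwo.any (fun e => Nat.beq e d)

/-- An element of square one commuting with another one. -/
def sqComm (d e : ℕ) : Bool :=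
  same (mul (sylEl e) (sylEl e)) one && same (mul (sylEl d) (sylEl e)) (mul (sylEl e) (sylEl d))

theorem check_aSyl : ((List.range 16).all fun a =>
    Nat.blt (aSyl.getD a 0) 128 && same (aEl a) (sylEl (aSyl.getD a 0)) &&
    Nat.blt (aSylTwo.getD a 0) 128 &&
    same (mul (sylEl 2) (aEl a)) (mul (sylEl (aSylTwo.getD a 0)) (sylEl 2))) = true := by
  decide +kernel

theorem check_e16 : ((List.range 128).all fun d => inUnion d ||
    !same (mul (sylEl d) (sylEl d)) one ||
    Nat.blt (((List.range 128).filter (sqComm d)).length) 16) = true := by
  decide +kernel

theorem check_invol : (((List.range 128).all fun d => Nat.beq d 0 ||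
      !same (mul (sylEl d) (sylEl d)) one || involIdx.any (fun e => Nat.beq e d)) &&
    Nat.beq involIdx.length involConj.length &&
    (List.range involIdx.length).all fun i =>
      Nat.beq (involConj.getD i 0) (dcVal (involConjDec.getD i 0)) &&
      same (mul (involConj.getD i 0) (sylEl (involIdx.getD i 0)))
        (mul tEl₂ (involConj.getD i 0))) = true := by
  decide +kernel

end CfsgLib.Janko3
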