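import Cfsg.Agent.Lib.Janko3.Centralizer
import Cfsg.Agent.Lib.Janko3.InvolChecks

/-!
Sylow 2-subgroups, involutions, and elementary abelian subgroups of order 16.
-/

set_option autoImplicit false
set_option linter.unusedSectionVars false

namespace CfsgLib.Janko3

open Cfsg Cfsg.Spor Matrix Subgroup CfsgLib.Fusion

variable {F : Type*} [Field F] {ω : F} (hf : Field4 F ω)
include hf

theorem good_syl {d : ℕ} (hd : d < 128) : Good F ω (sylEl d) := by
  have h := of_all check_syl_scal hd
  simp only [Bool.and_eq_true, Nat.blt_eq] at h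
  exact ⟨mem_syl hf hd, h.1⟩

variable [Fintype F] (hF : Fintype.card F = 4)
include hF

/-- The listed Sylow subgroup. -/
theorem syl_spec : ∃ S : Sylow 2 (QQ F ω), ∀ x, x ∈ (S : Subgroup (QQ F ω)) ↔
    ∃ d < 128, qEl F ω (sylEl d) = x := by
  haveI : Fact (Nat.Prime 2) := ⟨Nat.prime_two⟩
  have H := syl_facts hf hF
  have hcard : Nat.card (TableSylow.sylow H) = 128 := by rw [TableSylow.sylow_card H]; rfl
  have hidx : ¬ 2 ∣ (TableSylow.sylow H).index := by
    have hm := Subgroup.card_mul_index (TableSylow.sylow H)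
    rw [hcard, card_QQ hf hF] at hm
    omega
  refine ⟨(IsPGroup.of_card (n := 7) hcard).toSylow hidx, fun x => ?_⟩
  show x ∈ TableSylow.sylow H ↔ _
  constructor
  · rintro ⟨d, hd, -, e⟩
    exact ⟨d, hd, e⟩
  · rintro ⟨d, hd, e⟩
    exact ⟨d, hd, one_dvd _, e⟩

/-- Every involution is conjugate to the central one. -/
theorem conj_tQ {x : QQ F ω} (hx : orderOf x = 2) :
    ∃ g : QQ F ω, g * x * g⁻¹ = tQ F ω := by
  haveI : Fact (Nat.Prime 2) := ⟨Nat.prime_two⟩
  obtain ⟨S, hS⟩ := syl_spec hf hF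
  have hp : IsPGroup 2 (Subgroup.zpowers x) :=
    IsPGroup.of_card (n := 1) (by rw [Nat.card_zpowers, hx, pow_one])
  obtain ⟨P, hP⟩ := hp.exists_le_sylow
  obtain ⟨g, hg⟩ := MulAction.exists_smul_eq (QQ F ω) P S
  have hm : g * x * g⁻¹ ∈ (S : Subgroup (QQ F ω)) := by
    rw [← hg]
    exact ⟨x, hP (Subgroup.mem_zpowers x), by simp [MulAut.conj_apply]⟩
  obtain ⟨d, hd, e⟩ := (hS _).1 hm
  have hd0 : d ≠ 0 := by
    rintro rfl
    rw [(syl_gen_checks hf).2.2.2, (good_one hf).2, eq_comm, conj_eq_one_iff] at e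
    rw [e, orderOf_one] at hx
    omega
  have hsq : qEl F ω (sylEl d) * qEl F ω (sylEl d) = 1 := by
    have h2 : x * x = 1 := by
      rw [← pow_two, ← hx]; exact pow_orderOf_eq_one x
    rw [e, show g * x * g⁻¹ * (g * x * g⁻¹) = g * (x * x) * g⁻¹ by group, h2, mul_one,
      mul_inv_cancel]
  have h := check_invol
  simp only [Bool.and_eq_true] at h
  have h' := of_all h.1.1 hd
  rw [same_of_qEl hf hF (good_mul hf (good_syl hf hd) (good_syl hf hd)).1 (good_one hf).1
    (by rw [qEl_mul' hf (good_syl hf hd) (good_syl hf hd), hsq, (good_one hf).2])] at h'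
  simp only [Bool.not_true, Bool.or_false, Bool.or_eq_true, List.any_eq_true] at h'
  obtain ⟨d', hd', e'⟩ := h'.resolve_left fun e => hd0 (beq_eq e)
  obtain rfl := beq_eq e'
  obtain ⟨i, hi, rfl⟩ := List.getElem_of_mem hd'
  have h'' := of_all h.2 hi
  simp only [Bool.and_eq_true, List.getD_eq_getElem _ _ hi] at h''
  set w := involConj.getD i 0
  have gw : Good F ω w := by rw [beq_eq h''.1]; exact good_dc hf _
  have gt : Good F ω tEl₂ := good_aEl hf 1
  refine ⟨qEl F ω w * g, ?_⟩
  rw [show qEl F ω w * g * x * (qEl F ω w * g)⁻¹ = qEl F ω w * (g * x * g⁻¹) * (qEl F ω w)⁻¹ by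
    group, ← e, mul_inv_eq_iff_eq_mul, ← qEl_mul' hf gw (good_syl hf hd), tQ,
    ← qEl_mul' hf gt gw]
  exact qEl_same hf (good_mul hf gt gw).1 h''.2

/-- Every elementary abelian subgroup of order 16 is conjugate to the standard one. -/
theorem conj_AA {E : Subgroup (QQ F ω)} (hc : Nat.card E = 16)
    (hcomm : ∀ x ∈ E, ∀ y ∈ E, x * y = y * x) (hexp : ∀ x ∈ E, x * x = 1) :
    ∃ g : QQ F ω, E.map (MulAut.conj g).toMonoidHom = AA F ω := by
  haveI : Fact (Nat.Prime 2) := ⟨Nat.prime_two⟩
  classical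
  obtain ⟨S, hS⟩ := syl_spec hf hF
  obtain ⟨P, hP⟩ := (IsPGroup.of_card (p := 2) (n := 4) (G := E) hc).exists_le_sylow
  obtain ⟨g, hg⟩ := MulAction.exists_smul_eq (QQ F ω) P S
  set E' := E.map (MulAut.conj g).toMonoidHom with hE'
  have hc' : Nat.card E' = 16 := by
    rw [hE', Subgroup.card_map_of_injective (MulAut.conj g).injective, hc]
  have hle : E' ≤ (S : Subgroup (QQ F ω)) := by
    rintro _ ⟨x, hx, rfl⟩
    rw [← hg]
    exact ⟨x, hP hx, by simp [MulAut.conj_apply]⟩
  set s := qEl F ω (sylEl 2) with hs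
  have hA' := check_aSyl
  have hAeq : ∀ a < 16, aQ F ω a = qEl F ω (sylEl (aSyl.getD a 0)) ∧
      s * aQ F ω a * s⁻¹ = qEl F ω (sylEl (aSylTwo.getD a 0)) := by
    intro a ha
    have h := of_all hA' ha
    simp only [Bool.and_eq_true, Nat.blt_eq] at h
    obtain ⟨⟨⟨h1, h2⟩, h3⟩, h4⟩ := h
    refine ⟨qEl_same hf (good_syl hf h1) h2, ?_⟩
    have g2 := good_syl hf (F := F) (ω := ω) (show 2 < 128 by norm_num)
    rw [mul_inv_eq_iff_eq_mul, hs, aQ, ← qEl_mul' hf g2 (good_aEl hf a),
      ← qEl_mul' hf (good_syl hf h3) g2]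
    exact qEl_same hf (good_mul hf (good_syl hf h3) g2).1 h4
  set A' := (AA F ω).map (MulAut.conj s).toMonoidHom with hAdef
  have hunion : ∀ x ∈ E', x ∈ AA F ω ∨ x ∈ A' := by
    intro x hx
    obtain ⟨d, hd, rfl⟩ := (hS x).1 (hle hx)
    have hsq : ∀ y ∈ E', y * y = 1 := by
      rintro _ ⟨y, hy, rfl⟩
      rw [← map_mul, hexp y hy, map_one]
    have hcm : ∀ y ∈ E', qEl F ω (sylEl d) * y = y * qEl F ω (sylEl d) := by
      intro y hy
      obtain ⟨u, hu, eu⟩ := hx
      obtain ⟨v, hv, rfl⟩ := hy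
      rw [← eu, ← map_mul, ← map_mul, hcomm u hu v hv]
    have h := of_all check_e16 hd
    simp only [Bool.or_eq_true, Bool.not_eq_true', Nat.blt_eq] at h
    rcases h with (h | h) | h
    · simp only [inUnion, Bool.or_eq_true, List.any_eq_true] at h
      rcases h with ⟨e, he, he'⟩ | ⟨e, he, he'⟩
      all_goals
        obtain ⟨a, ha, rfl⟩ := List.getElem_of_mem he
        obtain rfl := beq_eq he'
      · left
        have ha' : a < 16 := by simpa [show aSyl.length = 16 by rfl] using ha
        rw [← List.getD_eq_getElem _ 0 ha, ← (hAeq a ha').1]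
        exact aQ_mem hf hF a
      · right
        have ha' : a < 16 := by simpa [show aSylTwo.length = 16 by rfl] using ha
        rw [← List.getD_eq_getElem _ 0 ha, ← (hAeq a ha').2]
        exact ⟨_, aQ_mem hf hF a, rfl⟩
    · rw [same_of_qEl hf hF (good_mul hf (good_syl hf hd) (good_syl hf hd)).1 (good_one hf).1
        (by rw [qEl_mul' hf (good_syl hf hd) (good_syl hf hd), hsq _ hx, (good_one hf).2])] at h
      cases h
    · exfalso
      have key : ∀ y : E', ∃ e ∈ ((List.range 128).filter (sqComm d)).toFinset,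
          qEl F ω (sylEl e) = y := by
        rintro ⟨y, hy⟩
        obtain ⟨e, he, rfl⟩ := (hS y).1 (hle hy)
        refine ⟨e, ?_, rfl⟩
        simp only [List.mem_toFinset, List.mem_filter, List.mem_range, sqComm, Bool.and_eq_true]
        refine ⟨he, same_of_qEl hf hF (good_mul hf (good_syl hf he) (good_syl hf he)).1
          (good_one hf).1 (by rw [qEl_mul' hf (good_syl hf he) (good_syl hf he), hsq _ hy,
            (good_one hf).2]), same_of_qEl hf hF (good_mul hf (good_syl hf hd) (good_syl hf he)).1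
          (good_mul hf (good_syl hf he) (good_syl hf hd)).1 ?_⟩
        rw [qEl_mul' hf (good_syl hf hd) (good_syl hf he),
          qEl_mul' hf (good_syl hf he) (good_syl hf hd)]
        exact hcm _ hy
      choose e he he' using key
      have hinj : Function.Injective (fun y : E' =>
          (⟨e y, he y⟩ : ((List.range 128).filter (sqComm d)).toFinset)) := fun y z hyz =>
        Subtype.ext (by rw [← he' y, ← he' z, show e y = e z from congrArg Subtype.val hyz])
      have hb := Nat.card_le_card_of_injective _ hinj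
      rw [hc', Nat.card_eq_fintype_card, Fintype.card_coe] at hb
      have := List.toFinset_card_le ((List.range 128).filter (sqComm d))
      omega
  have hA'c : Nat.card A' = 16 := by
    rw [hAdef, Subgroup.card_map_of_injective (MulAut.conj s).injective, card_AA hf hF]
  rcases em (E' ≤ AA F ω) with h | h
  · exact ⟨g, Subgroup.eq_of_le_of_card_ge h (by rw [hc', card_AA hf hF])⟩
  obtain ⟨x, hx, hxA⟩ := SetLike.not_le_iff_exists.1 h
  have hxA' := (hunion x hx).resolve_left hxA
  have hle' : E' ≤ A' := by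
    intro y hy
    rcases hunion y hy with h1 | h1
    · rcases hunion (x * y) (mul_mem hx hy) with h2 | h2
      · exact absurd (by simpa using mul_mem h2 (inv_mem h1)) hxA
      · simpa using mul_mem (inv_mem hxA') h2
    · exact h1
  have heq := Subgroup.eq_of_le_of_card_ge hle' (by rw [hc', hA'c])
  refine ⟨s⁻¹ * g, ?_⟩
  rw [map_mul, show ((MulAut.conj s⁻¹ * MulAut.conj g : MulAut (QQ F ω))).toMonoidHom =
      (MulAut.conj s⁻¹).toMonoidHom.comp (MulAut.conj g).toMonoidHom from rfl,
    ← Subgroup.map_map, ← hE', heq, hAdef, Subgroup.map_map]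
  have : (MulAut.conj s⁻¹).toMonoidHom.comp (MulAut.conj s).toMonoidHom = MonoidHom.id _ := by
    ext y; simp [mul_assoc]
  rw [this, Subgroup.map_id]

end CfsgLib.Janko3
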