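import Cfsg.Agent.Lib.Janko3.IsoDefs

/-!
Kernel evaluation: the representatives are distinct.
-/

set_option autoImplicit false
set_option maxRecDepth 100000
set_option maxHeartbeats 0
set_option Elab.async false

namespace CfsgLib.Janko3

theorem check_iso_distinct0 : (((List.range 1683).drop (0 * 141)).take 141).all (fun x => (List.range x).all fun y =>
    !Nat.beq (isoRep x) (isoRep y)) = true := by
  decide +kernel

theorem check_iso_distinct1 : (((List.range 1683).drop (1 * 141)).take 141).all (fun x => (List.range x).all fun y =>
    !Nat.beq (isoRep x) (isoRep y)) = true := by
  decide +kernel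

theorem check_iso_distinct2 : (((List.range 1683).drop (2 * 141)).take 141).all (fun x => (List.range x).all fun y =>
    !Nat.beq (isoRep x) (isoRep y)) = true := by
  decide +kernel

theorem check_iso_distinct3 : (((List.range 1683).drop (3 * 141)).take 141).all (fun x => (List.range x).all fun y =>
    !Nat.beq (isoRep x) (isoRep y)) = true := by
  decide +kernel

theorem check_iso_distinct4 : (((List.range 1683).drop (4 * 141)).take 141).all (fun x => (List.range x).all fun y =>
    !Nat.beq (isoRep x) (isoRep y)) = true := by
  decide +kernel

theorem check_iso_distinct5 : (((List.range 1683).drop (5 * 141)).take 141).all (fun x => (List.range x).all fun y =>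
    !Nat.beq (isoRep x) (isoRep y)) = true := by
  decide +kernel

theorem check_iso_distinct6 : (((List.range 1683).drop (6 * 141)).take 141).all (fun x => (List.range x).all fun y =>
    !Nat.beq (isoRep x) (isoRep y)) = true := by
  decide +kernel

theorem check_iso_distinct7 : (((List.range 1683).drop (7 * 141)).take 141).all (fun x => (List.range x).all fun y =>
    !Nat.beq (isoRep x) (isoRep y)) = true := by
  decide +kernel

theorem check_iso_distinct8 : (((List.range 1683).drop (8 * 141)).take 141).all (fun x => (List.range x).all fun y =>
    !Nat.beq (isoRep x) (isoRep y)) = true := by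
  decide +kernel

theorem check_iso_distinct9 : (((List.range 1683).drop (9 * 141)).take 141).all (fun x => (List.range x).all fun y =>
    !Nat.beq (isoRep x) (isoRep y)) = true := by
  decide +kernel

theorem check_iso_distinct10 : (((List.range 1683).drop (10 * 141)).take 141).all (fun x => (List.range x).all fun y =>
    !Nat.beq (isoRep x) (isoRep y)) = true := by
  decide +kernel

theorem check_iso_distinct11 : (((List.range 1683).drop (11 * 141)).take 141).all (fun x => (List.range x).all fun y =>
    !Nat.beq (isoRep x) (isoRep y)) = true := by
  decide +kernel

end CfsgLib.Janko3
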