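import Cfsg.Agent.Lib.Janko3.IsoDefs

/-!
Kernel evaluation: the number of lines.
-/

set_option autoImplicit false
set_option maxRecDepth 100000
set_option maxHeartbeats 0
set_option Elab.async false

namespace CfsgLib.Janko3

theorem check_iso_count0 : ((((List.range 1683).map fun x => (orbImgs (isoRep x)).dedup.length).drop (0 * 153)).take 153).sum = 3357 := by
  decide +kernel

theorem check_iso_count1 : ((((List.range 1683).map fun x => (orbImgs (isoRep x)).dedup.length).drop (1 * 153)).take 153).sum = 3771 := by
  decide +kernel

theorem check_iso_count2 : ((((List.range 1683).map fun x => (orbImgs (isoRep x)).dedup.length).drop (2 * 153)).take 153).sum = 4131 := by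
  decide +kernel

theorem check_iso_count3 : ((((List.range 1683).map fun x => (orbImgs (isoRep x)).dedup.length).drop (3 * 153)).take 153).sum = 4131 := by
  decide +kernel

theorem check_iso_count4 : ((((List.range 1683).map fun x => (orbImgs (isoRep x)).dedup.length).drop (4 * 153)).take 153).sum = 4077 := by
  decide +kernel

theorem check_iso_count5 : ((((List.range 1683).map fun x => (orbImgs (isoRep x)).dedup.length).drop (5 * 153)).take 153).sum = 3951 := by
  decide +kernel

theorem check_iso_count6 : ((((List.range 1683).map fun x => (orbImgs (isoRep x)).dedup.length).drop (6 * 153)).take 153).sum = 4131 := by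
  decide +kernel

theorem check_iso_count7 : ((((List.range 1683).map fun x => (orbImgs (isoRep x)).dedup.length).drop (7 * 153)).take 153).sum = 4113 := by
  decide +kernel

theorem check_iso_count8 : ((((List.range 1683).map fun x => (orbImgs (isoRep x)).dedup.length).drop (8 * 153)).take 153).sum = 4131 := by
  decide +kernel

theorem check_iso_count9 : ((((List.range 1683).map fun x => (orbImgs (isoRep x)).dedup.length).drop (9 * 153)).take 153).sum = 4059 := by
  decide +kernel

theorem check_iso_count10 : ((((List.range 1683).map fun x => (orbImgs (isoRep x)).dedup.length).drop (10 * 153)).take 153).sum = 3753 := by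
  decide +kernel

end CfsgLib.Janko3
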