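import Cfsg.Agent.Lib.Janko3.IsoChecksA
import Cfsg.Agent.Lib.Janko3.IsoChecksB
import Cfsg.Agent.Lib.Janko3.IsoChecksC
import Cfsg.Agent.Lib.KnownA.Chunks

/-!
Kernel evaluation for the orbit of isotropic lines.
-/

set_option autoImplicit false
set_option maxRecDepth 100000
set_option maxHeartbeats 0

namespace CfsgLib.Janko3

theorem check_iso_img : ((List.range 1683).all fun x => normed (isoRep x) &&
    (orbImgs (isoRep x)).all fun v => normed v && Nat.ble (isoRep x) v &&
      Nat.beq (weight v % 2) 0) = true := by
  refine KnownA.Chunks.all_of_chunks 188 9 (by decide +kernel) fun i hi => ?_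
  match i, hi with
  | 0, _ => exact check_iso_img0
  | 1, _ => exact check_iso_img1
  | 2, _ => exact check_iso_img2
  | 3, _ => exact check_iso_img3
  | 4, _ => exact check_iso_img4
  | 5, _ => exact check_iso_img5
  | 6, _ => exact check_iso_img6
  | 7, _ => exact check_iso_img7
  | 8, _ => exact check_iso_img8
  | _ + 9, h => omega

theorem check_iso_distinct : ((List.range 1683).all fun x => (List.range x).all fun y =>
    !Nat.beq (isoRep x) (isoRep y)) = true := by
  refine KnownA.Chunks.all_of_chunks 141 12 (by decide +kernel) fun i hi => ?_
  match i, hi with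
  | 0, _ => exact check_iso_distinct0
  | 1, _ => exact check_iso_distinct1
  | 2, _ => exact check_iso_distinct2
  | 3, _ => exact check_iso_distinct3
  | 4, _ => exact check_iso_distinct4
  | 5, _ => exact check_iso_distinct5
  | 6, _ => exact check_iso_distinct6
  | 7, _ => exact check_iso_distinct7
  | 8, _ => exact check_iso_distinct8
  | 9, _ => exact check_iso_distinct9
  | 10, _ => exact check_iso_distinct10
  | 11, _ => exact check_iso_distinct11
  | _ + 12, h => omega

theorem check_iso_count : Nat.beq (((List.range 1683).map fun x => (orbImgs (isoRep x)).dedup.length).sum) 43605 = true := by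
  rw [KnownA.Chunks.sum_of_chunks 153 [3357, 3771, 4131, 4131, 4077, 3951, 4131, 4113, 4131, 4059, 3753] (by decide +kernel) (fun i hi => ?_)]
  · decide +kernel
  match i, hi with
  | 0, _ => exact check_iso_count0
  | 1, _ => exact check_iso_count1
  | 2, _ => exact check_iso_count2
  | 3, _ => exact check_iso_count3
  | 4, _ => exact check_iso_count4
  | 5, _ => exact check_iso_count5
  | 6, _ => exact check_iso_count6
  | 7, _ => exact check_iso_count7
  | 8, _ => exact check_iso_count8
  | 9, _ => exact check_iso_count9
  | 10, _ => exact check_iso_count10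
  | _ + 11, h => simp at h

theorem check_iso_step : ((List.range 1682).all fun x => Nat.blt (isoStep (x + 1) / 6561 / 7) (x + 1) &&
    normed (isoSrc (x + 1)) && normed (isoMid (x + 1)) &&
    Nat.beq (isoRep (x + 1)) (norm (vscale (kv (isoStep (x + 1) % 81)) (isoMid (x + 1))))) = true := by
  decide +kernel

end CfsgLib.Janko3
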