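import Cfsg.Agent.Lib.Janko3.Center
import Cfsg.Agent.Lib.Janko3.IsoChecks

/-!
The isotropic lines form one orbit.
-/

set_option autoImplicit false
set_option linter.unusedSectionVars false

namespace CfsgLib.Janko3

open Cfsg.Spor Matrix Subgroup

theorem mem_kSmall_lt {l : ℕ} (h : l ∈ kSmall) : l < 81 := kSmall_lt h

theorem isoRep_normed {x : ℕ} (hx : x < 1683) : normed (isoRep x) = true := by
  have h := of_all check_iso_img hx
  simp only [Bool.and_eq_true] at h
  exact h.1

theorem iso_img {x v : ℕ} (hx : x < 1683) (hv : v ∈ orbImgs (isoRep x)) :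
    normed v = true ∧ isoRep x ≤ v ∧ weight v % 2 = 0 := by
  have h := of_all check_iso_img hx
  simp only [Bool.and_eq_true] at h
  have h' := List.all_eq_true.1 h.2 v hv
  simp only [Bool.and_eq_true, Nat.ble_eq] at h'
  exact ⟨h'.1.1, h'.1.2, beq_eq h'.2⟩

/-- The codes of the listed lines. -/
@[irreducible] def isoCodes : Finset ℕ := (Finset.range 1683).biUnion fun x => (orbImgs (isoRep x)).toFinset

variable {F : Type*} [Field F] {ω : F} (hf : Field4 F ω)
include hf

/-- A multiple by the diagonal group lies among the images. -/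
theorem img_imgs {r k : ℕ} (hr : ∀ v ∈ orbImgs r, normed v = true) (hk : k < 81) :
    ∃ v ∈ orbImgs r, img (gl F ω (kEl k)) (pt F ω r) = pt F ω v := by
  have h0 := check_k_small
  simp only [Bool.and_eq_true] at h0
  have h1 := of_all h0.1.1 hk
  rw [List.any_eq_true] at h1
  obtain ⟨l, hl, e⟩ := h1
  have hmem : norm (vscale (kv l) r) ∈ orbImgs r := List.mem_map.2 ⟨l, hl, rfl⟩
  refine ⟨_, hmem, ?_⟩
  rw [pt_norm hf (norm_ne_zero hf (hr _ hmem))]
  have hn : ∀ k < 81, normed (norm (kv k)) = true := by decide +kernel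
  have hvk : ∀ k < 81, norm (kv k) ≠ 0 := fun k hk => norm_ne_zero hf (hn k hk)
  have h3 : pt F ω (kv k) = pt F ω (kv l) := by
    rw [← pt_norm hf (hvk k hk), beq_eq e, pt_norm hf (hvk l (kSmall_lt hl))]
  obtain ⟨c, hc⟩ := Submodule.mem_span_singleton.1
    (show vdec F ω (kv k) ∈ pt F ω (kv l) from h3 ▸ Submodule.mem_span_singleton_self _)
  have hc0 : c ≠ 0 := by
    rintro rfl
    rw [zero_smul] at hc
    obtain ⟨d, -, hd⟩ := (normAux_spec (F := F) hf.two hf.omega (kv k) 9 0).resolve_left (hvk k hk)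
    rw [← hc, smul_zero] at hd
    exact vdec_zero_of_lt hf (hn k hk) hd
  rw [img_gl_diag hf hk, pt, pt]
  have : vdec F ω (vscale (kv k) r) = c • vdec F ω (vscale (kv l) r) := by
    funext z
    rw [Pi.smul_apply, vdec_vscale hf.two hf.omega, vdec_vscale hf.two hf.omega, ← hc,
      Pi.smul_apply, smul_eq_mul, smul_eq_mul, mul_assoc]
  rw [this]
  exact Submodule.span_singleton_smul_eq (IsUnit.mk0 c hc0) _

/-- Each representative is reached. -/
theorem rep_reached [Finite F] {x : ℕ} (hx : x < 1683) :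
    ∃ g ∈ GG F ω, pt F ω (isoRep x) = img g (pt F ω (isoRep 0)) := by
  induction x using Nat.strong_induction_on with
  | _ x ih =>
    rcases x with _ | x
    · exact ⟨1, one_mem _, (img_one _).symm⟩
    have h := of_all check_iso_step (show x < 1682 by omega)
    simp only [Bool.and_eq_true, Nat.blt_eq] at h
    obtain ⟨⟨⟨hy, h1⟩, h2⟩, h3⟩ := h
    set t := isoStep (x + 1) with ht
    have hk : t % 81 < 81 := Nat.mod_lt _ (by norm_num)
    have hk2 : t / 81 % 81 < 81 := Nat.mod_lt _ (by norm_num)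
    have hg6 : t / 6561 % 7 < 7 := Nat.mod_lt _ (by norm_num)
    have hgen : IsUnit (dec F ω (allGen (t / 6561 % 7))) ∧ gl F ω (allGen (t / 6561 % 7)) ∈ GG F ω := by
      rw [allGen]
      rcases Nat.lt_or_ge (t / 6561 % 7) 6 with h | h
      · rw [show Nat.blt (t / 6561 % 7) 6 = true from Nat.ble_eq_true_of_le h]
        exact ⟨unit_hGen hf h, HH_le_GG hf (hGen_mem hf h)⟩
      · have hb : Nat.blt (t / 6561 % 7) 6 = false := by
          cases hh : Nat.blt (t / 6561 % 7) 6
          · rfl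
          · exact absurd (Nat.le_of_ble_eq_true hh) (by omega)
        rw [hb]
        exact ⟨(base hf).2.2.2.2, gen1_mem hf⟩
    obtain ⟨g, hg, e⟩ := ih _ hy (by omega)
    refine ⟨gl F ω (kEl (t % 81)) * (gl F ω (allGen (t / 6561 % 7)) * (gl F ω (kEl (t / 81 % 81)) * g)),
      mul_mem (HH_le_GG hf (kEl_mem hf hk)) (mul_mem hgen.2
        (mul_mem (HH_le_GG hf (kEl_mem hf hk2)) hg)), ?_⟩
    have hn : norm (vscale (kv (t % 81)) (isoMid (x + 1))) ≠ 0 :=
      norm_ne_zero hf (beq_eq h3 ▸ isoRep_normed hx)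
    rw [← img_img, ← img_img, ← img_img, ← e, beq_eq h3, pt_norm hf hn, ← img_gl_diag hf hk,
      img_gl_diag hf hk2, ← pt_norm hf (v := vscale (kv (t / 81 % 81)) _) (norm_ne_zero hf h1),
      img_pt hf hgen.1]
    congr 1
    exact pt_norm hf (norm_ne_zero hf h2)

/-- Each listed line is reached. -/
theorem code_reached [Finite F] {p : ℕ} (hp : p ∈ isoCodes) :
    normed p = true ∧ ∃ g ∈ GG F ω, pt F ω p = img g (pt F ω (isoRep 0)) := by
  unfold isoCodes at *
  rw [Finset.mem_biUnion] at hp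
  obtain ⟨x, hx, hp⟩ := hp
  rw [Finset.mem_range] at hx
  rw [List.mem_toFinset] at hp
  refine ⟨(iso_img hx hp).1, ?_⟩
  obtain ⟨l, hl, e⟩ := List.mem_map.1 hp
  obtain ⟨g, hg, eg⟩ := rep_reached hf hx
  refine ⟨gl F ω (kEl l) * g, mul_mem (HH_le_GG hf (kEl_mem hf (kSmall_lt hl))) hg, ?_⟩
  rw [← img_img, ← eg, img_gl_diag hf (kSmall_lt hl), ← e,
    pt_norm hf (norm_ne_zero hf (e.symm ▸ (iso_img hx hp).1))]

theorem card_isoCodes [Finite F] : isoCodes.card = 43605 := by
  unfold isoCodes at *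
  rw [Finset.card_biUnion]
  · have h := Nat.eq_of_beq_eq_true check_iso_count
    have e : ∀ x, (orbImgs (isoRep x)).toFinset.card = (orbImgs (isoRep x)).dedup.length :=
      fun x => List.card_toFinset _
    simp only [e]
    rw [← List.toFinset_range, List.sum_toFinset _ List.nodup_range]
    exact h
  · intro x hx y hy hne
    rw [Finset.mem_coe, Finset.mem_range] at hx hy
    rw [Function.onFun, Finset.disjoint_left]
    intro v hv hv'
    rw [List.mem_toFinset] at hv hv'
    have key : ∀ x y, x < 1683 → y < 1683 → v ∈ orbImgs (isoRep x) → v ∈ orbImgs (isoRep y) →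
        isoRep x ≤ isoRep y := by
      intro x y hx hy hv hv'
      obtain ⟨l, hl, el⟩ := List.mem_map.1 hv
      obtain ⟨l', hl', el'⟩ := List.mem_map.1 hv'
      have e : img (gl F ω (kEl l)) (pt F ω (isoRep x)) =
          img (gl F ω (kEl l')) (pt F ω (isoRep y)) := by
        rw [img_gl_diag hf (kSmall_lt hl), img_gl_diag hf (kSmall_lt hl'),
          ← pt_norm hf (norm_ne_zero hf (el.symm ▸ (iso_img hx hv).1)),
          ← pt_norm hf (v := vscale (kv l') (isoRep y))
            (norm_ne_zero hf (el'.symm ▸ (iso_img hy hv').1)), el, el']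
      obtain ⟨li, hli, eli⟩ := k_inv hf (kSmall_lt hl')
      obtain ⟨m, hm, em⟩ := k_mul hf hli (kSmall_lt hl)
      obtain ⟨w, hw, ew⟩ := img_imgs hf (fun v hv => (iso_img hx hv).1) hm
      have : pt F ω (isoRep y) = pt F ω w := by
        rw [← ew, ← em, ← img_img, e, img_img, ← eli, inv_mul_cancel, img_one]
      rw [pt_injective hf (isoRep_normed hy) (iso_img hx hw).1 this]
      exact (iso_img hx hw).2.1
    have heq := le_antisymm (key x y hx hy hv hv') (key y x hy hx hv' hv)
    rcases Nat.lt_or_gt_of_ne hne with h | h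
    · have := of_all (of_all check_iso_distinct hy) h
      rw [heq, Nat.beq_refl] at this
      exact absurd this (by decide)
    · have := of_all (of_all check_iso_distinct hx) h
      rw [heq, Nat.beq_refl] at this
      exact absurd this (by decide)

theorem sum_cube (v : ℕ) : ∑ z : F9, (vdec F ω v z) ^ 3 = (weight v : F) := by
  have h0 : ω ≠ 0 := fun e => by simpa [e] using hf.omega
  have h3 : ω ^ 3 = 1 := by linear_combination (ω - 1) * hf.omega
  have hc : ∀ i, ent F ω v i ^ 3 = ((cond (Nat.beq ((v >>> (2 * i)) &&& 3) 0) 0 1 : ℕ) : F) := by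
    intro i
    rw [pair_eq, ent]
    have h1 : (1 + ω : F) ^ 3 = 1 := by
      linear_combination (ω + 2) * hf.omega - hf.two
    cases v.testBit (2 * i) <;> cases v.testBit (2 * i + 1) <;> simp [el, h3, h1, show Nat.beq 0 0 = true from rfl, show Nat.beq 1 0 = false from rfl,
      show Nat.beq 2 0 = false from rfl, show Nat.beq 3 0 = false from rfl]
  show ∑ z : F9, ent F ω v (ix z) ^ 3 = _
  rw [sum_ix (fun i => ent F ω v i ^ 3)]
  simp only [hc, weight, List.range_succ, List.range_zero]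
  simp [add_assoc]

omit hf in
/-- The number of vectors with a given sum of cubes. -/
theorem count_cubes [Fintype F] [DecidableEq F] (hF : Fintype.card F = 4) (n : ℕ) (b : F) :
    (Finset.univ.filter fun f : Fin (n + 1) → F => ∑ i, f i ^ 3 = b).card =
      (Finset.univ.filter fun f : Fin n → F => ∑ i, f i ^ 3 = b).card +
        3 * (Finset.univ.filter fun f : Fin n → F => ∑ i, f i ^ 3 = b - 1).card := by
  rw [Finset.card_filter, ← (Fin.consEquiv fun _ => F).sum_comp, Fintype.sum_prod_type]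
  simp only [Fin.consEquiv_apply, Fin.sum_univ_succ, Fin.cons_zero, Fin.cons_succ]
  rw [Fintype.sum_eq_add_sum_compl (0 : F)]
  congr 1
  · simp only [ne_eq, OfNat.ofNat_ne_zero, not_false_iff, zero_pow, zero_add, Finset.card_filter]
  · rw [Finset.sum_const_nat (m := (Finset.univ.filter fun f : Fin n → F => ∑ i, f i ^ 3 = b - 1).card)]
    · rw [Finset.card_compl, hF, Finset.card_singleton]
    · intro x hx
      rw [Finset.mem_compl, Finset.mem_singleton] at hx
      have h3 : x ^ 3 = 1 := by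
        have := FiniteField.pow_card_sub_one_eq_one x hx
        rwa [hF] at this
      rw [Finset.card_filter]
      simp only [h3, eq_sub_iff_add_eq']

/-- The number of nonzero isotropic vectors. -/
theorem count_isotropic [Fintype F] [DecidableEq F] (hF : Fintype.card F = 4) :
    (Finset.univ.filter fun v : F9 → F => v ≠ 0 ∧ ∑ z, v z ^ 3 = 0).card = 130815 := by
  have h1 : (1 : F) ≠ 0 := one_ne_zero
  have hm : (1 : F) - 1 = 0 ∧ (0 : F) - 1 = 1 := ⟨sub_self _, by linear_combination -hf.two⟩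
  have h9 : (Finset.univ.filter fun f : Fin 9 → F => ∑ i, f i ^ 3 = 0).card = 130816 := by
    have b0 : (Finset.univ.filter fun f : Fin 0 → F => ∑ i, f i ^ 3 = 0).card = 1 := by simp
    have b1 : (Finset.univ.filter fun f : Fin 0 → F => ∑ i, f i ^ 3 = 1).card = 0 := by simp
    simp only [count_cubes hF, hm, b0, b1]
  let e : Fin 9 ≃ F9 := (Fintype.equivFinOfCardEq (show Fintype.card F9 = 9 by rfl)).symm
  have hc : (Finset.univ.filter fun v : F9 → F => ∑ z, v z ^ 3 = 0).card = 130816 := by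
    rw [← h9]
    refine Finset.card_equiv (e.arrowCongr (Equiv.refl F)).symm fun v => ?_
    simp only [Finset.mem_filter, Finset.mem_univ, true_and]
    rw [← e.sum_comp (fun z => v z ^ 3)]
    rfl
  have hsplit : (Finset.univ.filter fun v : F9 → F => v ≠ 0 ∧ ∑ z, v z ^ 3 = 0) =
      (Finset.univ.filter fun v : F9 → F => ∑ z, v z ^ 3 = 0).erase 0 := by
    ext v; simp [and_comm]
  rw [hsplit, Finset.card_erase_of_mem (by simp), hc]

/-- Every isotropic vector is a multiple of a listed one. -/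
theorem iso_code [Fintype F] (hF : Fintype.card F = 4) {v : F9 → F} (hv : v ≠ 0)
    (h : ∑ z, v z ^ 3 = 0) : ∃ p ∈ isoCodes, ∃ c : F, c ≠ 0 ∧ v = c • vdec F ω p := by
  classical
  have hn : ∀ p ∈ isoCodes, normed p = true := fun p hp => (code_reached hf hp).1
  let V : Finset (F9 → F) := (Finset.univ ×ˢ isoCodes).image fun q : Fˣ × ℕ => (q.1 : F) • vdec F ω q.2
  have hV : V.card = 130815 := by
    rw [Finset.card_image_of_injOn, Finset.card_product, card_isoCodes hf, Finset.card_univ,
      Fintype.card_units, hF]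
    rintro ⟨a, p⟩ hp ⟨b, q⟩ hq e
    rw [Finset.mem_coe, Finset.mem_product] at hp hq
    replace e : (a : F) • vdec F ω p = (b : F) • vdec F ω q := e
    have h1 : vdec F ω p = ((a : F)⁻¹ * b) • vdec F ω q := by
      rw [mul_smul, ← e, inv_smul_smul₀ a.ne_zero]
    obtain rfl := normed_line_injective hf.two hf.omega (hn p hp.2) (hn q hq.2) h1
    have h5 := vdec_zero_of_lt (F := F) hf (hn p hp.2)
    simp [Units.ext (smul_left_injective F h5 e)]
  have hsub : V ⊆ Finset.univ.filter fun v : F9 → F => v ≠ 0 ∧ ∑ z, v z ^ 3 = 0 := by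
    intro w hw
    obtain ⟨⟨a, p⟩, hp, rfl⟩ := Finset.mem_image.1 hw
    rw [Finset.mem_product] at hp
    refine Finset.mem_filter.2 ⟨Finset.mem_univ _, smul_ne_zero a.ne_zero (vdec_zero_of_lt hf (hn p hp.2)), ?_⟩
    simp only [Pi.smul_apply, smul_eq_mul, mul_pow, ← Finset.mul_sum, sum_cube hf]
    have hp2 := hp.2
    unfold isoCodes at hp2
    rw [Finset.mem_biUnion] at hp2
    obtain ⟨x, hx, hpx⟩ := hp2
    have hw := (iso_img (Finset.mem_range.1 hx) (List.mem_toFinset.1 hpx)).2.2
    obtain ⟨m, hm⟩ := Nat.dvd_of_mod_eq_zero hw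
    rw [hm, Nat.cast_mul, Nat.cast_two, hf.two, zero_mul, mul_zero]
  have heq := Finset.eq_of_subset_of_card_le hsub (by rw [hV, count_isotropic hf hF])
  have : v ∈ V := by rw [heq]; simp [hv, h]
  obtain ⟨⟨a, p⟩, hp, e⟩ := Finset.mem_image.1 this
  exact ⟨p, (Finset.mem_product.1 hp).2, a, a.ne_zero, e.symm⟩

/-- The isotropic lines form one orbit. -/
theorem iso_transitive [Fintype F] (hF : Fintype.card F = 4) {v w : F9 → F} (hv : v ≠ 0) (hw : w ≠ 0)
    (h : ∑ z, v z ^ 3 = 0) (h' : ∑ z, w z ^ 3 = 0) :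
    ∃ g ∈ GG F ω, ∃ c : F, c ≠ 0 ∧ (g : Matrix F9 F9 F) *ᵥ v = c • w := by
  obtain ⟨p, hp, a, ha, rfl⟩ := iso_code hf hF hv h
  obtain ⟨q, hq, b, hb, rfl⟩ := iso_code hf hF hw h'
  obtain ⟨hpn, g1, hg1, e1⟩ := code_reached hf hp
  obtain ⟨-, g2, hg2, e2⟩ := code_reached hf hq
  have e : img (g2 * g1⁻¹) (pt F ω p) = pt F ω q := by
    rw [e1, img_img, mul_assoc, inv_mul_cancel, mul_one, ← e2]
  set g := g2 * g1⁻¹
  have hm : (g : Matrix F9 F9 F) *ᵥ vdec F ω p ∈ pt F ω q := by
    rw [← e]
    exact Submodule.mem_map_of_mem (f := Matrix.mulVecLin (g : Matrix F9 F9 F))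
      (Submodule.mem_span_singleton_self _)
  obtain ⟨d, hd⟩ := Submodule.mem_span_singleton.1 hm
  have hd0 : d ≠ 0 := by
    rintro rfl
    rw [zero_smul] at hd
    have := congrArg (((g⁻¹ : GL F9 F) : Matrix F9 F9 F) *ᵥ ·) hd
    simp only [Matrix.mulVec_zero, Matrix.mulVec_mulVec] at this
    rw [← Units.val_mul, inv_mul_cancel, Units.val_one, Matrix.one_mulVec] at this
    exact vdec_zero_of_lt hf hpn this.symm
  refine ⟨g, mul_mem hg2 (inv_mem hg1), a * d / b, div_ne_zero (mul_ne_zero ha hd0) hb, ?_⟩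
  rw [Matrix.mulVec_smul, ← hd, smul_smul, smul_smul, div_mul_cancel₀ _ hb]

end CfsgLib.Janko3
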