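import Cfsg.Agent.Lib.Janko3.IsoDefs

/-!
Kernel evaluation: images of the representatives.
-/

set_option autoImplicit false
set_option maxRecDepth 100000
set_option maxHeartbeats 0
set_option Elab.async false

namespace CfsgLib.Janko3

theorem check_iso_img0 : (((List.range 1683).drop (0 * 188)).take 188).all (fun x => normed (isoRep x) &&
    (orbImgs (isoRep x)).all fun v => normed v && Nat.ble (isoRep x) v &&
      Nat.beq (weight v % 2) 0) = true := by
  decide +kernel

theorem check_iso_img1 : (((List.range 1683).drop (1 * 188)).take 188).all (fun x => normed (isoRep x) &&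
    (orbImgs (isoRep x)).all fun v => normed v && Nat.ble (isoRep x) v &&
      Nat.beq (weight v % 2) 0) = true := by
  decide +kernel

theorem check_iso_img2 : (((List.range 1683).drop (2 * 188)).take 188).all (fun x => normed (isoRep x) &&
    (orbImgs (isoRep x)).all fun v => normed v && Nat.ble (isoRep x) v &&
      Nat.beq (weight v % 2) 0) = true := by
  decide +kernel

theorem check_iso_img3 : (((List.range 1683).drop (3 * 188)).take 188).all (fun x => normed (isoRep x) &&
    (orbImgs (isoRep x)).all fun v => normed v && Nat.ble (isoRep x) v &&
      Nat.beq (weight v % 2) 0) = true := by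
  decide +kernel

theorem check_iso_img4 : (((List.range 1683).drop (4 * 188)).take 188).all (fun x => normed (isoRep x) &&
    (orbImgs (isoRep x)).all fun v => normed v && Nat.ble (isoRep x) v &&
      Nat.beq (weight v % 2) 0) = true := by
  decide +kernel

theorem check_iso_img5 : (((List.range 1683).drop (5 * 188)).take 188).all (fun x => normed (isoRep x) &&
    (orbImgs (isoRep x)).all fun v => normed v && Nat.ble (isoRep x) v &&
      Nat.beq (weight v % 2) 0) = true := by
  decide +kernel

theorem check_iso_img6 : (((List.range 1683).drop (6 * 188)).take 188).all (fun x => normed (isoRep x) &&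
    (orbImgs (isoRep x)).all fun v => normed v && Nat.ble (isoRep x) v &&
      Nat.beq (weight v % 2) 0) = true := by
  decide +kernel

theorem check_iso_img7 : (((List.range 1683).drop (7 * 188)).take 188).all (fun x => normed (isoRep x) &&
    (orbImgs (isoRep x)).all fun v => normed v && Nat.ble (isoRep x) v &&
      Nat.beq (weight v % 2) 0) = true := by
  decide +kernel

theorem check_iso_img8 : (((List.range 1683).drop (8 * 188)).take 188).all (fun x => normed (isoRep x) &&
    (orbImgs (isoRep x)).all fun v => normed v && Nat.ble (isoRep x) v &&
      Nat.beq (weight v % 2) 0) = true := by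
  decide +kernel

end CfsgLib.Janko3
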