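import Cfsg.Agent.Lib.Janko3.Checks
import Cfsg.Agent.Lib.Janko3.IsoData

/-!
The definitions used in the checks on the orbit of isotropic lines.
-/

set_option autoImplicit false
set_option maxRecDepth 100000
set_option maxHeartbeats 0

namespace CfsgLib.Janko3

/-- A representative of an isotropic orbit of the diagonal group, by index. -/
def isoRep (x : ℕ) : ℕ := (isoTab.getD (x / 60) []).getD (x % 60) 0

/-- The step reaching a representative. -/
def isoStep (x : ℕ) : ℕ := (isoStepTab.getD (x / 60) []).getD (x % 60) 0

/-- Number of nonzero entries. -/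
def weight (v : ℕ) : ℕ :=
  ((List.range 9).map fun i => cond (Nat.beq ((v >>> (2 * i)) &&& 3) 0) 0 1).sum

/-- The vector code as a matrix with that first column. -/
def colMat (v : ℕ) : ℕ := pack fun i => (v >>> (2 * i)) &&& 3

/-- A generator of the whole group, by index. -/
def allGen (g : ℕ) : ℕ := cond (Nat.blt g 6) (hGen g) gen1

/-- The source of a step. -/
def isoSrc (x : ℕ) : ℕ := norm (vscale (kv (isoStep x / 81 % 81)) (isoRep (isoStep x / 6561 / 7)))

/-- The value of a step. -/
def isoMid (x : ℕ) : ℕ := norm (col (mul (allGen (isoStep x / 6561 % 7)) (colMat (isoSrc x))))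

end CfsgLib.Janko3
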