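import Cfsg.Agent.Lib.Janko3.LSixteenData
import Cfsg.Agent.Lib.Janko3.CentChecks

/-!
Kernel evaluation for a subgroup of order 8160 of the third Janko group.
-/

set_option autoImplicit false
set_option maxRecDepth 100000
set_option maxHeartbeats 0
set_option Elab.async false

namespace CfsgLib.Janko3

/-- An element of the subgroup of order 480. -/
def bEl (b : ℕ) : ℕ := mul (aEl (b % 16)) (tabT.el (b / 16))

theorem check_tabT : tabT.ok 16 aEl = true := by decide +kernel

theorem check_tabL : tabL.ok 480 bEl = true := by decide +kernel

theorem check_sizesL : (Nat.beq tabT.n 30 && Nat.beq tabT.m 6 && Nat.beq tabL.n 17 &&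
    Nat.beq tabL.m 7 && ((List.range 4).all fun j => Nat.beq (tabT.gen j) (aEl (2 ^ j))) &&
    ((List.range 6).all fun j => Nat.beq (tabL.gen j) (tabT.gen j))) = true := by
  decide +kernel

end CfsgLib.Janko3
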