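import Cfsg.Agent.Lib.Janko3.Centralizer
import Cfsg.Agent.Lib.Janko3.Simple
import Cfsg.Agent.Lib.Janko3.LSixteenChecks

/-!
A subgroup of order 8160 and the action on its 6156 cosets.
-/

set_option autoImplicit false
set_option linter.unusedSectionVars false

namespace CfsgLib.Janko3

open Cfsg Cfsg.Spor Matrix Subgroup

variable {F : Type*} [Field F] {ω : F} (hf : Field4 F ω) [Fintype F] (hF : Fintype.card F = 4)
include hf hF

/-- There is a subgroup of order 8160. -/
theorem exists_order_8160 : ∃ L : Subgroup (QQ F ω), Nat.card L = 8160 := by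
  have hs := check_sizesL
  simp only [Bool.and_eq_true] at hs
  obtain ⟨⟨⟨⟨⟨hTn, hTm⟩, hLn⟩, hLm⟩, hTA⟩, hLT⟩ := hs
  have hAT : AA F ω ≤ tabT.grp F ω := (Subgroup.closure_le _).2 (by
    rintro _ ⟨g, hg, rfl⟩
    rw [Set.mem_Iio, table_sizes.2.1] at hg
    show qEl F ω (tabA.gen g) ∈ _
    rw [beq_eq (of_all check_aGen hg), ← beq_eq (of_all hTA hg)]
    exact Tab.gen_mem hf g (by rw [beq_eq hTm]; omega))
  obtain ⟨-, h2, h3⟩ := Tab.spec hf hF (fun b _ => good_aEl hf b) (fun x => mem_AA hf hF) hAT check_tabT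
  rw [beq_eq hTn] at h2 h3
  rw [card_AA hf hF] at h3
  have gT := fun i => Tab.good hf (okGood_of_ok check_tabT) i (F := F) (ω := ω)
  have hbc : ∀ b < 480, Good F ω (bEl b) := fun b _ => (good_mul hf (good_aEl hf _) (gT _).1).1
  have hB : ∀ x, x ∈ tabT.grp F ω ↔ ∃ b < 480, qEl F ω (bEl b) = x := by
    intro x
    rw [h2 x]
    constructor
    · rintro ⟨i, hi, a, ha, e⟩
      refine ⟨a + 16 * i, by omega, ?_⟩
      rw [bEl, show (a + 16 * i) % 16 = a by omega, show (a + 16 * i) / 16 = i by omega,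
        qEl_mul' hf (good_aEl hf a) (gT i).1, e]
    · rintro ⟨b, hb, e⟩
      exact ⟨b / 16, by omega, b % 16, Nat.mod_lt _ (by norm_num),
        by rw [← qEl_mul' hf (good_aEl hf _) (gT _).1]; exact e⟩
  have hTL : tabT.grp F ω ≤ tabL.grp F ω := (Subgroup.closure_le _).2 (by
    rintro _ ⟨g, hg, rfl⟩
    rw [Set.mem_Iio, beq_eq hTm] at hg
    show qEl F ω (tabT.gen g) ∈ _
    rw [← beq_eq (of_all hLT hg)]
    exact Tab.gen_mem hf g (by rw [beq_eq hLm]; omega))
  obtain ⟨-, -, h6⟩ := Tab.spec hf hF hbc hB hTL check_tabL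
  rw [beq_eq hLn, h3] at h6
  exact ⟨_, h6⟩

/-- The third Janko group as a transitive group on 6156 points. -/
theorem exists_perm_6156 : ∃ H : Subgroup (Equiv.Perm (Fin 6156)), Cfsg.IsJ3 H ∧
    MulAction.IsPretransitive H (Fin 6156) ∧
    Nat.card (MulAction.stabilizer H (0 : Fin 6156)) = 8160 := by
  classical
  obtain ⟨L, hL⟩ := exists_order_8160 hf hF
  haveI : IsSimpleGroup (QQ F ω) := simple_quotient hf hF
  have hG := card_QQ hf hF
  have hi : L.index = 6156 := by
    have := Subgroup.card_mul_index L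
    rw [hL, hG] at this
    omega
  let e₀ : QQ F ω ⧸ L ≃ Fin 6156 := (Finite.equivFinOfCardEq hi)
  let e : QQ F ω ⧸ L ≃ Fin 6156 := e₀.trans (Equiv.swap (e₀ (QuotientGroup.mk 1)) 0)
  have he0 : e (QuotientGroup.mk 1) = 0 := by simp [e]
  let f : QQ F ω →* Equiv.Perm (Fin 6156) :=
    (e.permCongrHom).toMonoidHom.comp (MulAction.toPermHom (QQ F ω) (QQ F ω ⧸ L))
  have hfap : ∀ (x : QQ F ω) (p : QQ F ω ⧸ L), f x (e p) = e (x • p) := fun x p => by
    simp [f, Equiv.permCongrHom, Equiv.permCongr_apply]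
  have hinj : Function.Injective f := by
    rw [← MonoidHom.ker_eq_bot_iff]
    refine (Subgroup.Normal.eq_bot_or_eq_top inferInstance).resolve_right fun h => ?_
    have hall : ∀ x : QQ F ω, x ∈ L := by
      intro x
      have hx : f x = 1 := MonoidHom.mem_ker.1 (h ▸ Subgroup.mem_top x)
      have := hfap x (QuotientGroup.mk 1)
      rw [hx, Equiv.Perm.one_apply, EmbeddingLike.apply_eq_iff_eq, MulAction.Quotient.smul_mk,
        smul_eq_mul, mul_one, QuotientGroup.eq, inv_one, one_mul] at this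
      exact this
    rw [show L = ⊤ from eq_top_iff.2 fun x _ => hall x, Subgroup.index_top] at hi
    omega
  let eH := MonoidHom.ofInjective hinj
  have htr : MulAction.IsPretransitive f.range (Fin 6156) := ⟨fun i j => by
    obtain ⟨x, hx⟩ := MulAction.exists_smul_eq (QQ F ω) (e.symm i) (e.symm j)
    refine ⟨⟨f x, x, rfl⟩, ?_⟩
    show f x i = j
    have := hfap x (e.symm i)
    rwa [Equiv.apply_symm_apply, hx, Equiv.apply_symm_apply] at this⟩
  refine ⟨f.range, ⟨?_, ?_⟩, htr, ?_⟩
  · haveI : Nontrivial f.range := eH.symm.toEquiv.nontrivial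
    exact IsSimpleGroup.isSimpleGroup_of_surjective eH.toMonoidHom eH.surjective
  · rw [← Nat.card_congr eH.toEquiv, hG]
  · haveI := htr
    have h := Subgroup.card_mul_index (MulAction.stabilizer f.range (0 : Fin 6156))
    rw [MulAction.index_stabilizer_of_transitive, Nat.card_eq_fintype_card (α := Fin 6156),
      Fintype.card_fin, ← Nat.card_congr eH.toEquiv, hG] at h
    omega

end CfsgLib.Janko3
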