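import Cfsg.Agent.Lib.Janko3.Group

/-!
The orbit of the first line, its stabiliser, and the order of the group.
-/

set_option autoImplicit false
set_option linter.unusedSectionVars false

namespace CfsgLib.Janko3

open Cfsg.Spor Matrix Subgroup

variable {F : Type*} [Field F]

/-- The image of a line. -/
noncomputable def img (g : GL F9 F) (L : Submodule F (F9 → F)) : Submodule F (F9 → F) :=
  L.map (Matrix.mulVecLin (g : Matrix F9 F9 F))

theorem img_line (g h : GL F9 F) : img g (line F h) = line F (g * h) := (line_mul g h).symm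

theorem img_img (g h : GL F9 F) (L : Submodule F (F9 → F)) : img g (img h L) = img (g * h) L := by
  rw [img, img, img, ← Submodule.map_comp, ← Matrix.mulVecLin_mul]; rfl

theorem img_one (L : Submodule F (F9 → F)) : img (1 : GL F9 F) L = L := by
  rw [img, Units.val_one, Matrix.mulVecLin_one, Submodule.map_id]

variable (F) in
/-- The stabiliser of the first line. -/
def lineStab : Subgroup (GL F9 F) where
  carrier := {g | line F g = line F 1}
  one_mem' := rfl
  mul_mem' {a b} ha hb := by
    show line F (a * b) = line F 1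
    rw [line_left_congr (g := a) (show line F b = line F 1 from hb), mul_one]
    exact ha
  inv_mem' {a} ha := by
    show line F a⁻¹ = line F 1
    have := line_left_congr (g := a⁻¹) (show line F a = line F 1 from ha)
    rw [inv_mul_cancel, mul_one] at this
    exact this.symm

variable {ω : F} (hf : Field4 F ω)
include hf

theorem line_one : line F (1 : GL F9 F) = pt F ω 1 := by
  rw [← gl_one hf, line_gl hf (unit_one hf), show col one = 1 by decide +kernel]

theorem HH_le_stab : HH F ω ≤ lineStab F := by
  refine (closure_le _).2 ?_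
  rintro _ ⟨g, hg, rfl⟩
  show line F (gl F ω (hGen g)) = line F 1
  have h := of_all check_inv_h hg
  simp only [Bool.and_eq_true] at h
  have h1 := beq_eq h.2
  rw [line_one hf, line_gl hf (unit_hGen hf hg), ← pt_norm hf (v := col (hGen g)) (by rw [h1]; norm_num), h1]

theorem img_gl_diag {k : ℕ} (hk : k < 81) (v : ℕ) :
    img (gl F ω (kEl k)) (pt F ω v) = pt F ω (vscale (kv k) v) := by
  rw [img, pt, pt, Submodule.map_span, Set.image_singleton, Matrix.mulVecLin_apply,
    gl_coe hf (unit_kEl hf hk), kEl, dec_diag]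
  congr 2
  funext z
  rw [Matrix.mulVec_diagonal, vdec_vscale hf.two hf.omega]

omit hf in
theorem normed_one : normed 1 = true := by decide

omit hf in
theorem kSmall_lt {l : ℕ} (h : l ∈ kSmall) : l < 81 := by
  have h0 := check_k_small
  simp only [Bool.and_eq_true] at h0
  exact Nat.le_of_ble_eq_true (List.all_eq_true.1 h0.1.2 l h)

omit hf in
theorem normed_imgs {r v : ℕ} (hr : r ∈ orbTab) (hv : v ∈ orbImgs r) :
    normed v = true ∧ r ≤ v := by
  have h := List.all_eq_true.1 check_orb_min r hr
  simp only [Bool.and_eq_true] at h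
  have h' := List.all_eq_true.1 h.2 v hv
  simp only [Bool.and_eq_true, Nat.ble_eq] at h'
  exact h'

omit hf in
theorem orb_mem {x : ℕ} (hx : x < 918) : orb x ∈ orbTab := by
  have h := check_orb_sorted
  simp only [Bool.and_eq_true] at h
  have hlen := beq_eq h.1
  rw [orb, List.getD_eq_getElem _ _ (by omega)]
  exact List.getElem_mem _

omit hf in
theorem orb_index {r : ℕ} (hr : r ∈ orbTab) : ∃ x < 918, orb x = r := by
  have h := check_orb_sorted
  simp only [Bool.and_eq_true] at h
  obtain ⟨x, hx, e⟩ := List.getElem_of_mem hr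
  exact ⟨x, (beq_eq h.1) ▸ hx, by rw [orb, List.getD_eq_getElem _ _ hx, e]⟩

/-- A multiple by the diagonal group lies among the listed images. -/
theorem img_mem_imgs {r k : ℕ} (hr : r ∈ orbTab) (hk : k < 81) :
    ∃ v ∈ orbImgs r, img (gl F ω (kEl k)) (pt F ω r) = pt F ω v := by
  have h0 := check_k_small
  simp only [Bool.and_eq_true] at h0
  have h1 := of_all h0.1.1 hk
  rw [List.any_eq_true] at h1
  obtain ⟨l, hl, e⟩ := h1
  have e' := beq_eq e
  have hl' := kSmall_lt hl
  refine ⟨norm (vscale (kv l) r), List.mem_map.2 ⟨l, hl, rfl⟩, ?_⟩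
  rw [pt_norm hf (norm_ne_zero hf (normed_imgs hr (List.mem_map.2 ⟨l, hl, rfl⟩)).1)]
  have hnz : ∀ k < 81, norm (kv k) ≠ 0 := by decide +kernel
  have h3 : pt F ω (kv k) = pt F ω (kv l) := by
    rw [← pt_norm hf (hnz k hk), e', pt_norm hf (hnz l hl')]
  have hkm : vdec F ω (kv k) ∈ pt F ω (kv l) := h3 ▸ Submodule.mem_span_singleton_self _
  obtain ⟨c, hc⟩ := Submodule.mem_span_singleton.1 hkm
  have hc0 : c ≠ 0 := by
    rintro rfl
    rw [zero_smul] at hc
    have hm : vdec F ω (kv l) ∈ pt F ω (kv k) := h3 ▸ Submodule.mem_span_singleton_self _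
    obtain ⟨d, hd⟩ := Submodule.mem_span_singleton.1 hm
    rw [← hc, smul_zero] at hd
    obtain ⟨d', hd'⟩ := (normAux_spec (F := F) hf.two hf.omega (kv l) 9 0).resolve_left (hnz l hl')
    rw [← hd, smul_zero] at hd'
    have hz := check_k_small
    have hn : ∀ k < 81, normed (norm (kv k)) = true := by decide +kernel
    exact vdec_zero_of_lt hf (hn l hl') hd'.2
  rw [img_gl_diag hf hk, pt, pt]
  have : vdec F ω (vscale (kv k) r) = c • vdec F ω (vscale (kv l) r) := by
    funext z
    rw [Pi.smul_apply, vdec_vscale hf.two hf.omega, vdec_vscale hf.two hf.omega, ← hc,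
      Pi.smul_apply, smul_eq_mul, smul_eq_mul, mul_assoc]
  rw [this]
  exact Submodule.span_singleton_smul_eq (IsUnit.mk0 c hc0) _

/-- The diagonal set is closed under inverses. -/
theorem k_inv [Finite F] {k : ℕ} (hk : k < 81) :
    ∃ l < 81, (gl F ω (kEl k))⁻¹ = gl F ω (kEl l) := by
  have key : ∀ n : ℕ, ∃ l < 81, gl F ω (kEl k) ^ n = gl F ω (kEl l) := by
    intro n
    induction n with
    | zero => exact ⟨0, by norm_num, by rw [pow_zero, (base hf).2.1]⟩
    | succ n ih =>
      obtain ⟨l, hl, e⟩ := ih
      obtain ⟨m, hm, e'⟩ := k_mul hf hl hk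
      exact ⟨m, hm, by rw [pow_succ, e, e']⟩
  obtain ⟨l, hl, e⟩ := key (orderOf (gl F ω (kEl k)) - 1)
  refine ⟨l, hl, ?_⟩
  rw [← e, inv_eq_iff_mul_eq_one, ← pow_succ', Nat.sub_add_cancel (orderOf_pos _),
    pow_orderOf_eq_one]

omit hf in
variable (F ω) in
/-- The orbit of the first line. -/
noncomputable def orbit : Set (Submodule F (F9 → F)) := line F '' (GG F ω : Set (GL F9 F))

/-- The listed codes of the orbit. -/
theorem orbit_eq [Finite F] :
    orbit F ω = pt F ω '' {v | ∃ r ∈ orbTab, v ∈ orbImgs r} := by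
  ext L
  constructor
  · rintro ⟨g, hg, rfl⟩
    obtain ⟨h, hh, j, hj, h', hh', rfl⟩ := mem_GG hf hg
    obtain ⟨k, hk, s, hs, rfl⟩ := mem_HH hf hh
    rw [mul_assoc _ (gl F ω (rEl j)) h', line_left_congr
      (line_left_congr (show line F h' = line F 1 from HH_le_stab hf hh')), mul_one, mul_assoc,
      ← img_line]
    obtain ⟨u1, e1⟩ := gl_mul hf (unit_uEl hf hs) (unit_rEl hf hj)
    have hc := of_all (of_all check_cover hj) hs
    simp only [Bool.and_eq_true, Nat.blt_eq] at hc
    obtain ⟨⟨he1, he2⟩, he3⟩ := hc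
    set e := (coverTab.getD j []).getD s 0
    have hlen : kSmall.length = 27 := by decide
    have hl : kSmall.getD (e % 27) 0 ∈ kSmall := by
      rw [List.getD_eq_getElem _ _ (by omega)]
      exact List.getElem_mem _
    have hv : orbPt j s ∈ orbImgs (orb (e / 27)) := by
      rw [beq_eq he3]; exact List.mem_map.2 ⟨_, hl, rfl⟩
    have hn := norm_ne_zero hf (normed_imgs (orb_mem he2) hv).1
    rw [← e1, line_gl hf u1, ← pt_norm hf hn, show norm (col (mul (uEl s) (rEl j))) = orbPt j s from rfl,
      beq_eq he3]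
    have hn' : norm (vscale (kv (kSmall.getD (e % 27) 0)) (orb (e / 27))) ≠ 0 :=
      norm_ne_zero hf (normed_imgs (orb_mem he2) (List.mem_map.2 ⟨_, hl, rfl⟩)).1
    rw [pt_norm hf hn', ← img_gl_diag hf (kSmall_lt hl), img_img]
    obtain ⟨m, hm, em⟩ := k_mul hf hk (kSmall_lt hl)
    rw [em]
    obtain ⟨v, hv, ev⟩ := img_mem_imgs hf (orb_mem he2) hm
    exact ⟨v, ⟨_, orb_mem he2, hv⟩, ev.symm⟩
  · rintro ⟨v, ⟨r, hr, hv⟩, rfl⟩
    have hn := norm_ne_zero hf (v := v)
    obtain ⟨x, hx, rfl⟩ := orb_index hr
    obtain ⟨l, hl, rfl⟩ := List.mem_map.1 hv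
    have h := of_all check_reach hx
    simp only [Bool.and_eq_true, Nat.blt_eq] at h
    obtain ⟨hk, he⟩ := h
    set t := reachTab.getD x 0
    have hi : t % 28 < 28 := Nat.mod_lt _ (by norm_num)
    have hs : t / 28 % 80 < 80 := Nat.mod_lt _ (by norm_num)
    obtain ⟨u1, e1⟩ := gl_mul hf (unit_uEl hf hs) (unit_rEl hf hi)
    refine ⟨gl F ω (kEl l) * (gl F ω (kEl (t / 2240)) *
      (gl F ω (uEl (t / 28 % 80)) * gl F ω (rEl (t % 28)))), ?_, ?_⟩
    · exact mul_mem (HH_le_GG hf (kEl_mem hf (kSmall_lt hl))) (mul_mem (HH_le_GG hf (kEl_mem hf hk))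
        (mul_mem (HH_le_GG hf (uEl_mem hf hs)) (rEl_mem hf hi)))
    have hno : ∀ x < 918, normed (orb x) = true := fun x hx => by
      have h := List.all_eq_true.1 check_orb_min _ (orb_mem hx)
      simp only [Bool.and_eq_true] at h
      exact h.1
    have hz : norm (vscale (kv (t / 2240)) (orbPt (t % 28) (t / 28 % 80))) ≠ 0 :=
      norm_ne_zero hf (beq_eq he ▸ hno x hx)
    have hop : orbPt (t % 28) (t / 28 % 80) ≠ 0 := by
      intro h0
      refine hz ?_
      rw [h0]
      have : ∀ k < 81, norm (vscale (kv k) 0) = 0 := by decide +kernel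
      exact this _ hk
    rw [pt_norm hf (norm_ne_zero hf (normed_imgs hr hv).1), ← img_gl_diag hf (kSmall_lt hl),
      ← img_line, beq_eq he, pt_norm hf hz, ← img_gl_diag hf hk, ← img_line, orbPt,
      pt_norm hf hop, ← line_gl hf u1, e1]

/-- The size of the orbit. -/
theorem ncard_orbit [Finite F] : (orbit F ω).ncard = 23256 := by
  rw [orbit_eq hf, Set.InjOn.ncard_image]
  · have hset : {v | ∃ r ∈ orbTab, v ∈ orbImgs r} =
        ↑(orbTab.toFinset.biUnion fun r => (orbImgs r).toFinset) := by
      ext v; simp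
    rw [hset, Set.ncard_coe_finset, Finset.card_biUnion]
    · have hlen := check_orb_sorted
      simp only [Bool.and_eq_true] at hlen
      have hnd : orbTab.Nodup := by
        rw [← (List.dedup_sublist orbTab).eq_of_length
          ((beq_eq check_orb_nodup).trans (beq_eq hlen.1).symm)]
        exact List.nodup_dedup _
      rw [List.sum_toFinset _ hnd]
      have hmap : (orbTab.map fun r => (orbImgs r).toFinset.card) =
          orbTab.map fun r => (orbImgs r).dedup.length :=
        List.map_congr_left fun r _ => List.card_toFinset (orbImgs r)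
      rw [hmap]
      have h23 := Nat.eq_of_beq_eq_true check_orb_count
      exact h23
    · intro r hr r' hr' hne
      rw [Finset.mem_coe, List.mem_toFinset] at hr hr'
      rw [Function.onFun, Finset.disjoint_left]
      intro v hv hv'
      rw [List.mem_toFinset] at hv hv'
      apply hne
      have key : ∀ r r' v, r ∈ orbTab → r' ∈ orbTab → v ∈ orbImgs r → v ∈ orbImgs r' → r ≤ r' := by
        intro r r' v hr hr' hv hv'
        obtain ⟨l, hl, el⟩ := List.mem_map.1 hv
        obtain ⟨l', hl', el'⟩ := List.mem_map.1 hv'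
        have e : img (gl F ω (kEl l)) (pt F ω r) = img (gl F ω (kEl l')) (pt F ω r') := by
          rw [img_gl_diag hf (kSmall_lt hl), img_gl_diag hf (kSmall_lt hl'),
            ← pt_norm hf (norm_ne_zero hf (el.symm ▸ (normed_imgs hr hv).1)),
            ← pt_norm hf (v := vscale (kv l') r')
              (norm_ne_zero hf (el'.symm ▸ (normed_imgs hr' hv').1)), el, el']
        obtain ⟨li, hli, eli⟩ := k_inv hf (kSmall_lt hl')
        obtain ⟨m, hm, em⟩ := k_mul hf hli (kSmall_lt hl)
        obtain ⟨w, hw, ew⟩ := img_mem_imgs hf hr hm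
        have : pt F ω r' = pt F ω w := by
          rw [← ew, ← em, ← img_img, e, img_img, ← eli, inv_mul_cancel, img_one]
        have h := List.all_eq_true.1 check_orb_min r' hr'
        simp only [Bool.and_eq_true] at h
        rw [pt_injective hf h.1 (normed_imgs hr hw).1 this]
        exact (normed_imgs hr hw).2
      exact le_antisymm (key r r' v hr hr' hv hv') (key r' r v hr' hr hv' hv)
  · rintro u ⟨r, hr, hu⟩ v ⟨r', hr', hv⟩ h
    exact pt_injective hf (normed_imgs hr hu).1 (normed_imgs hr' hv).1 h

/-- The stabiliser of the first line in the group. -/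
theorem stab_eq [Finite F] {g : GL F9 F} (hg : g ∈ GG F ω) (hl : line F g = line F 1) :
    g ∈ HH F ω := by
  obtain ⟨h, hh, j, hj, h', hh', rfl⟩ := mem_GG hf hg
  rcases j with _ | j
  · rw [(base hf).2.2.1, mul_one]; exact mul_mem hh hh'
  exfalso
  rw [mul_assoc, line_left_congr (line_left_congr (show line F h' = line F 1 from HH_le_stab hf hh')),
    mul_one] at hl
  have hl' : line F (gl F ω (rEl (j + 1))) = line F 1 :=
    line_left_cancel (g := h) (by
      rw [mul_one, hl, show line F h = line F 1 from HH_le_stab hf hh])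
  have h1 := check_misc
  simp only [Bool.and_eq_true] at h1
  have hn := of_all h1.1.1.1.1 (show j < 27 by omega)
  have h3 := of_all check_line (show j < 27 by omega)
  rw [line_gl hf (unit_rEl hf hj), line_one hf, ← pt_norm hf (norm_ne_zero hf hn)] at hl'
  rw [pt_injective hf hn normed_one hl'] at h3
  exact absurd h3 (by decide)

omit hf in
theorem ent_col_three (M : ℕ) (z : F9) :
    vdec F ω (col (M >>> 6)) z = dec F ω M z ((1, 0) : F9) := by
  simp only [vdec, col, dec, Matrix.of_apply]
  have hz := ix_lt z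
  have h0 : ix ((1, 0) : F9) = 3 := rfl
  rw [h0]
  simp only [ent, testBit_row (show 2 * 3 < 18 by norm_num),
    testBit_row (show 2 * 3 + 1 < 18 by norm_num)]
  have h3 : ∀ x k, (((M >>> 6) >>> x) &&& 3).testBit k = (decide (k < 2) && M.testBit (6 + (x + k))) := by
    intro x k
    rw [show (3 : ℕ) = 2 ^ 2 - 1 from rfl, Nat.testBit_and, Nat.testBit_two_pow_sub_one,
      Nat.testBit_shiftRight, Nat.testBit_shiftRight, Bool.and_comm]
  generalize ix z = j at hz ⊢
  interval_cases j <;> simp [Nat.testBit_or, Nat.testBit_shiftLeft, h3, -Nat.shiftRight_zero]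

/-- The order of the stabiliser. -/
theorem card_HH [Finite F] : Nat.card (HH F ω) = 6480 := by
  classical
  let f : Fin 81 × Fin 80 → HH F ω := fun p =>
    ⟨gl F ω (kEl p.1) * gl F ω (uEl p.2), mul_mem (kEl_mem hf p.1.2) (uEl_mem hf p.2.2)⟩
  have hf' : Function.Bijective f := by
    refine ⟨?_, fun ⟨x, hx⟩ => ?_⟩
    · rintro ⟨⟨k, hk⟩, ⟨s, hs⟩⟩ ⟨⟨k', hk'⟩, ⟨s', hs'⟩⟩ e
      replace e : gl F ω (kEl k) * gl F ω (uEl s) = gl F ω (kEl k') * gl F ω (uEl s') :=
        congrArg Subtype.val e
      have hss : s = s' := by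
        obtain ⟨ki, hki, eki⟩ := k_inv hf hk
        obtain ⟨m, hm, em⟩ := k_mul hf hki hk'
        have e1 : gl F ω (uEl s) = gl F ω (kEl m) * gl F ω (uEl s') := by
          rw [← em, mul_assoc, ← e, ← eki, inv_mul_cancel_left]
        obtain ⟨us, es⟩ := gl_tEl hf hs
        obtain ⟨us', es'⟩ := gl_tEl hf hs'
        have e2 : gl F ω (tEl s') = gl F ω (tEl s) * gl F ω (kEl m) := by
          rw [es, es', e1]; group
        have e3 : dec F ω (tEl s') = dec F ω (tEl s) * Matrix.diagonal (vdec F ω (kv m)) := by
          rw [← dec_diag, ← gl_coe hf us', e2, Units.val_mul, gl_coe hf us, gl_coe hf (unit_kEl hf hm)]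
          rfl
        have h := of_all check_second hs
        have h' := of_all check_second hs'
        simp only [Bool.and_eq_true] at h h'
        have hA := norm_ne_zero hf h.1
        have hB := norm_ne_zero hf h'.1
        have hv : vdec F ω (col (tEl s' >>> 6)) =
            vdec F ω (kv m) ((1, 0) : F9) • vdec F ω (col (tEl s >>> 6)) := by
          funext z
          rw [Pi.smul_apply, ent_col_three, ent_col_three, e3, Matrix.mul_diagonal, smul_eq_mul,
            mul_comm]
        have hc : vdec F ω (kv m) ((1, 0) : F9) ≠ 0 := by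
          intro h0
          rw [h0, zero_smul] at hv
          obtain ⟨d, -, hd⟩ := (normAux_spec (F := F) hf.two hf.omega _ 9 0).resolve_left hB
          rw [hv, smul_zero] at hd
          exact vdec_zero_of_lt hf h'.1 hd
        have hp : pt F ω (col (tEl s' >>> 6)) = pt F ω (col (tEl s >>> 6)) := by
          rw [pt, pt, hv]; exact Submodule.span_singleton_smul_eq (IsUnit.mk0 _ hc) _
        rw [← pt_norm hf hA, ← pt_norm hf hB] at hp
        have hd := of_all h.2 hs'
        simp only [Bool.or_eq_true, Bool.not_eq_true'] at hd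
        rcases hd with hd | hd
        · exact beq_eq hd
        · rw [pt_injective hf h'.1 h.1 hp, Nat.beq_refl] at hd
          exact absurd hd (by decide)
      subst hss
      have e4 : gl F ω (kEl k) = gl F ω (kEl k') := mul_right_cancel e
      have e5 : Matrix.diagonal (vdec F ω (kv k)) = Matrix.diagonal (vdec F ω (kv k')) := by
        rw [← dec_diag, ← dec_diag]
        show dec F ω (kEl k) = dec F ω (kEl k')
        rw [← gl_coe hf (unit_kEl hf hk), e4, gl_coe hf (unit_kEl hf hk')]
      have h1 := of_all check_inv_k hk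
      have h2 := of_all check_inv_k hk'
      simp only [Bool.and_eq_true, Nat.blt_eq] at h1 h2
      have e6 := code_injective hf.two hf.omega h1.2 h2.2 (Matrix.diagonal_injective e5)
      have hd := of_all (of_all check_k_distinct hk) hk'
      simp only [Bool.or_eq_true, Bool.not_eq_true'] at hd
      rcases hd with hd | hd
      · simp [beq_eq hd]
      · rw [e6, Nat.beq_refl] at hd
        exact absurd hd (by decide)
    · obtain ⟨k, hk, s, hs, rfl⟩ := mem_HH hf hx
      exact ⟨(⟨k, hk⟩, ⟨s, hs⟩), rfl⟩
  rw [← Nat.card_congr (Equiv.ofBijective f hf'), Nat.card_prod, Nat.card_fin, Nat.card_fin]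

/-- The order of the group. -/
theorem card_GG [Finite F] : Nat.card (GG F ω) = 150698880 := by
  let H' := (HH F ω).subgroupOf (GG F ω)
  let f : GG F ω ⧸ H' → Submodule F (F9 → F) := Quotient.lift (fun g => line F (g : GL F9 F))
    (fun a b hab => by
      have h : a⁻¹ * b ∈ H' := QuotientGroup.leftRel_apply.1 hab
      have h' : line F ((a : GL F9 F)⁻¹ * b) = line F 1 := HH_le_stab hf h
      have := line_left_congr (g := (a : GL F9 F)) h'
      rw [mul_inv_cancel_left, mul_one] at this
      exact this.symm)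
  have hinj : Function.Injective f := by
    intro a b
    induction a using Quotient.inductionOn with | _ a => ?_
    induction b using Quotient.inductionOn with | _ b => ?_
    intro h
    replace h : line F (a : GL F9 F) = line F (b : GL F9 F) := h
    refine Quotient.sound (QuotientGroup.leftRel_apply.2 (stab_eq hf (a⁻¹ * b).2 ?_))
    have := line_left_congr (g := (a : GL F9 F)⁻¹) h
    rw [inv_mul_cancel] at this
    exact this.symm
  have hrange : Set.range f = orbit F ω := by
    ext L
    constructor
    · rintro ⟨q, rfl⟩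
      induction q using Quotient.inductionOn with | _ a => exact ⟨_, a.2, rfl⟩
    · rintro ⟨g, hg, rfl⟩; exact ⟨QuotientGroup.mk ⟨g, hg⟩, rfl⟩
  have hq : Nat.card (GG F ω ⧸ H') = 23256 := by
    rw [← Nat.card_range_of_injective hinj, hrange, ← ncard_orbit hf]; rfl
  rw [Subgroup.card_eq_card_quotient_mul_card_subgroup H', hq,
    Nat.card_congr (Subgroup.subgroupOfEquivOfLe (HH_le_GG hf)).toEquiv, card_HH hf]

end CfsgLib.Janko3
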