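import Mathlib.Algebra.Field.MinimalAxioms
import Mathlib.LinearAlgebra.Matrix.SpecialLinearGroup
import Mathlib.Data.Fintype.Card

/-!
The field with 16 elements, as bit vectors of length four modulo `x ^ 4 + x + 1`.
-/

set_option autoImplicit false

namespace CfsgLib.Janko3SL

/-- Multiplication by `x`. -/
def xMul (a : ℕ) : ℕ :=
  cond (Nat.blt a 8) (2 * a) ((2 * a) ^^^ 19)

/-- Product of two codes. -/
def fm (a b : ℕ) : ℕ :=
  ((cond (Nat.beq (b % 2) 1) a 0) ^^^ (cond (Nat.beq (b / 2 % 2) 1) (xMul a) 0) ^^^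
    (cond (Nat.beq (b / 4 % 2) 1) (xMul (xMul a)) 0) ^^^
    (cond (Nat.beq (b / 8 % 2) 1) (xMul (xMul (xMul a))) 0)) % 16

/-- Inverses of the codes. -/
def invTab : List ℕ := [0, 1, 9, 14, 13, 11, 7, 6, 15, 2, 12, 5, 10, 4, 3, 8]

/-- The field with 16 elements. -/
structure F16 where
  /-- The code. -/
  v : Fin 16
deriving DecidableEq

/-- The element of a code. -/
def mk16 (a : ℕ) : F16 := ⟨⟨a % 16, Nat.mod_lt _ (by norm_num)⟩⟩

/-- Codes as an equivalence. -/
def equivFin : F16 ≃ Fin 16 := ⟨F16.v, F16.mk, fun _ => rfl, fun _ => rfl⟩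

instance : Fintype F16 := Fintype.ofEquiv _ equivFin.symm

instance : Zero F16 := ⟨mk16 0⟩
instance : One F16 := ⟨mk16 1⟩
instance : Add F16 := ⟨fun a b => mk16 (a.v.val ^^^ b.v.val)⟩
instance : Mul F16 := ⟨fun a b => mk16 (fm a.v.val b.v.val)⟩
instance : Neg F16 := ⟨id⟩
instance : Inv F16 := ⟨fun a => mk16 (invTab.getD a.v.val 0)⟩

theorem ax_add : ∀ a b c : F16, a + b + c = a + (b + c) := by decide +kernel
theorem ax_zero : ∀ a : F16, 0 + a = a := by decide +kernel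
theorem ax_neg : ∀ a : F16, -a + a = 0 := by decide +kernel
theorem ax_mul : ∀ a b c : F16, a * b * c = a * (b * c) := by decide +kernel
theorem ax_comm : ∀ a b : F16, a * b = b * a := by decide +kernel
theorem ax_one : ∀ a : F16, 1 * a = a := by decide +kernel
theorem ax_inv : ∀ a : F16, a ≠ 0 → a * a⁻¹ = 1 := by decide +kernel
theorem ax_inv_zero : (0 : F16)⁻¹ = 0 := by decide +kernel
theorem ax_distrib : ∀ a b c : F16, a * (b + c) = a * b + a * c := by decide +kernel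

instance : Field F16 := Field.ofMinimalAxioms F16 ax_add ax_zero ax_neg ax_mul ax_comm ax_one ax_inv
  ax_inv_zero ax_distrib ⟨0, 1, by decide⟩

theorem card_F16 : Fintype.card F16 = 16 := (Fintype.card_congr equivFin).trans (Fintype.card_fin 16)

theorem mk16_mul (a b : ℕ) : mk16 a * mk16 b = mk16 (fm (a % 16) (b % 16)) := rfl

theorem mk16_add (a b : ℕ) : mk16 a + mk16 b = mk16 ((a % 16) ^^^ (b % 16)) := rfl

theorem mk16_neg (a : F16) : -a = a := rfl

theorem mk16_val (a : F16) : mk16 a.v.val = a := by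
  cases a with
  | mk v => exact congrArg F16.mk (Fin.ext (Nat.mod_eq_of_lt v.isLt))

/-- The matrix of a code. -/
def slM (c : ℕ) : Matrix (Fin 2) (Fin 2) F16 :=
  !![mk16 (c % 16), mk16 (c / 16 % 16); mk16 (c / 256 % 16), mk16 (c / 4096 % 16)]

/-- The code of the product. -/
def slMul (p q : ℕ) : ℕ :=
  let a := p % 16; let b := p / 16 % 16; let c := p / 256 % 16; let d := p / 4096 % 16
  let e := q % 16; let f := q / 16 % 16; let g := q / 256 % 16; let h := q / 4096 % 16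
  (fm a e ^^^ fm b g) % 16 + 16 * ((fm a f ^^^ fm b h) % 16) + 256 * ((fm c e ^^^ fm d g) % 16) +
    4096 * ((fm c f ^^^ fm d h) % 16)

theorem fm_lt (a b : ℕ) : fm a b < 16 := Nat.mod_lt _ (by norm_num)

theorem slM_mul (p q : ℕ) : slM (slMul p q) = slM p * slM q := by
  have key : ∀ a b c d : ℕ, mk16 a * mk16 b + mk16 c * mk16 d =
      mk16 ((fm (a % 16) (b % 16) ^^^ fm (c % 16) (d % 16)) % 16) := fun a b c d => by
    rw [mk16_mul, mk16_mul, mk16_add, Nat.mod_eq_of_lt (fm_lt _ _), Nat.mod_eq_of_lt (fm_lt _ _)]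
    exact congrArg F16.mk (Fin.ext (Nat.mod_mod _ _).symm)
  have hz : ∀ A B C D : ℕ, A < 16 → B < 16 → C < 16 → D < 16 →
      (A + 16 * B + 256 * C + 4096 * D) % 16 = A ∧ (A + 16 * B + 256 * C + 4096 * D) / 16 % 16 = B ∧
        (A + 16 * B + 256 * C + 4096 * D) / 256 % 16 = C ∧
        (A + 16 * B + 256 * C + 4096 * D) / 4096 % 16 = D := by
    intro A B C D _ _ _ _
    refine ⟨?_, ?_, ?_, ?_⟩ <;> omega
  have hl : ∀ x : ℕ, x % 16 < 16 := fun x => Nat.mod_lt _ (by norm_num)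
  obtain ⟨e1, e2, e3, e4⟩ := hz _ _ _ _
    (hl (fm (p % 16) (q % 16) ^^^ fm (p / 16 % 16) (q / 256 % 16)))
    (hl (fm (p % 16) (q / 16 % 16) ^^^ fm (p / 16 % 16) (q / 4096 % 16)))
    (hl (fm (p / 256 % 16) (q % 16) ^^^ fm (p / 4096 % 16) (q / 256 % 16)))
    (hl (fm (p / 256 % 16) (q / 16 % 16) ^^^ fm (p / 4096 % 16) (q / 4096 % 16)))
  simp only [slM, slMul, e1, e2, e3, e4, Matrix.mul_fin_two, key, Nat.mod_mod]

end CfsgLib.Janko3SL
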