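import Cfsg.Agent.Lib.Janko3.Code
import Cfsg.Agent.Lib.Fusion.TableSylow

/-!
Tables for a Sylow 2-subgroup of the third Janko group.
-/

set_option autoImplicit false
set_option maxRecDepth 100000

namespace CfsgLib.Janko3

open CfsgLib.Fusion.TableSylow

/-- The elements of the Sylow subgroup. -/
def sylTab : List ℕ := [
  1461503031128807055631067903726780805968804446209, 1982364629494340526308288395005792229082011015556, 126758970147999945265199069362715549612701667709,
  3600891135700083468440923582831376134028565071836, 1123167408738771668912351263220040311969210703649, 129278816541606199097902928589234441890118589024,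
  5381301742911425225212807393781317943656856408756, 5526696032852634576829987988185559415403751782299, 137506841803273340386845974919594804313500680369,
  328291904417192718925034902788278715351360461325, 1356141574446748731032867125473344715656520381382, 3812769364723728663076395924116973054501128703499,
  3463920866821013136120533231946880741028177150079, 4960830221611078652231548830486840038534979446096, 1752281961483334267658020587430979026701696803756,
  5308835853980178934353196151450781225657590198571, 3556502283063841704865992220511001491212994876827, 5185756734648714125005793015586841604796223431508,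
  1342829511673732776736110647914151505716785435540, 3556210260530003100545676847525865142192815498074, 357282431410956440897002821587527416249255291897,
  3132619950182330464242053079747223201497924768524, 3961571146503377787683607575361360400306741262804, 4013808413763679525413980092743254436461282165272,
  5297131067146300372935174224429431778577467515499, 4075614357567735983113285603284455552143119747929, 1445569232544411239828333686125825733210720605594,
  5057674186354758220166364125274145192710627987000, 5253994655952272006061502275496993634841676455715, 936293000143255503997765477404669986003101457276,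
  1443452113670336274923696899476753452167838025364, 2943757047647945371979688098033435718848615032733, 2193542028167749122816327446561039360387637905829,
  2352701487345132995471490679156247121686775706728, 4439937010480270425013909619584591903584695559739, 5557439421325687963519089123065341586332357186509,
  2685982566595460176891557547839829506492313038345, 1846799344380279343000062619492934351534089637632, 3978288391468336954688724547244056673524306063465,
  4822288963000357889439198412572700838383878876618, 5788147290319804343396857888405794595175890992966, 2547478036427511287519626154091562845048669533956,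
  913271608054703861263903078774346795175899263699, 3474199983666535787585838356415717429554354592511, 1794448770686860995109696329352242723731490335337,
  3530639706244628789672451050975431544765865401784, 3394156161619511566591090271018989130965938362959, 5104269595986366605902326013812637927279372764914,
  653325224833368450131626695106569636974738855301, 1165215950613519454927974389530317578390764644975, 4556510186362285864707543941375635747636129756758,
  51415657980263169314911310431037580271614606868, 767030884570583018767325822150234610814993778864, 5484824728918218659009377138594221964746336942432,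
  728125487210567337502685469431608909675119186518, 4117472669534242898777686363114505572155597343437, 4285642459194807504874775829908261398574291375142,
  1148774141490327078625331098586008021889912455815, 581283164068431946123957849686158446635208017419, 471678164144842726466279669644683620745792017299,
  1956305140752767121572845292649334119871774861140, 1617408158365786718656558296670177918121253182616, 368929547819930256566358534695853328801359361576,
  3235891049850274951621974282653490943106695316160, 226466078886678390544196587512877113504479745140, 1020075255839435195821901104345719849520797187160,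
  1259022980170583669116803773979249524210354139937, 4988945844325662839135534310947677292202915232068, 1095140849252968733532017606065516274011809645169,
  935936725962682858223054557191711018394335327897, 449766142531674874873183588789126959384046609139, 5576530214621858164600428538445598383755860913582,
  4222435067325713786248798267856766482286168628635, 1795635895225486101612431805640037279057584745813, 2267883695458200463113083955077709633236652098555,
  4688964097919019923170542585243227599030931443615, 5598298220091028183662421254103226693780530455238, 1589152842383986457859717538939431760924581227931,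
  1951657848746671268284830876865690831668107720508, 1675839142511677330472692998930124118527525380772, 4487809115191877899169348889002478746595551489126,
  113501509654128124052042739129644803458901728694, 701098026864125615470025684378473458419004316736, 1504969262215476536237124039909447676276626573052,
  1492301600758574296285731883963270499345709528652, 2900524570380936138544084168972229355910706022822, 120700422176385661429414140752112192793172003190,
  2616122587150037867168922609829449294751842545278, 210125353500112382885829020680041190841295077284, 953772183268369288451656077262735328911073479250,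
  1262373385879641271982521520059318472816488097090, 2503875009062804880216979736031018763860170242559, 3340713702613060614632140407940294255886788022290,
  916445252946854914089201522337540608669103622281, 1099843518387046026807980900700524951669047787404, 4304059189974744210506725185210978820225155198764,
  2536438370352052227732814683375258001917571870909, 2091280671202277769850189279143101510258317360345, 4160832952533916888934765793800864018040531839242,
  5537423583955853096507181098817056297925713903672, 1043671942622191612141703467198286872003898433076, 1358462653147542270994314473396502193352049315476,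
  384336913013395703583609063525750761076891807043, 3377764784142812287359967643895750690488736848530, 123011959293483198722307941315686834854291525377,
  2414320030216034630553634848070447107015844130097, 1305030042961791926160891427169659192999115845507, 4143870305211031163139039245686303185066454251014,
  2441509899095266494816607185938318508180356572605, 1479233323249136031729097134596028013133482965022, 4649447419908138376559789053009408207344827524018,
  1288337258326020649680700872504169349059661133840, 121413284008992540959706673193024946287124201749, 3336768308561391770997840031633731687982964259296,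
  3768004283430542732934283593502398229563869271279, 3629096668462829628505436076474340826052461508319, 950231763094178590229840935751842200971615533160,
  1482921527476355858495245376181364397279084301991, 5507032102906111227515540647731988253649705652121, 1094995046495892625960210950900894976038655970246,
  447443548352055353212550099581260255064985379972, 5458320771618187748012518142039281207133595299553, 1998903974885945035204926909649442317066634697662,
  5173629408839822648955605125278604322437963811129, 2352623902014497035352178201264717278453787182344, 23238770294171808944632625364449358671423676928,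
  2050694143960634314141678674609207724982009389661, 5659735243150840879747990348606214790322067187484]

/-- Decompositions of its generators. -/
def sylGenDec : List ℕ := [
  1000512592, 168539651, 555537568, 126658648, 872085012, 1001952272,
  424229666]

/-- Two elements of 2-power order normalizing the subgroup of index 4. -/
def sylYTab : List ℕ := [
  2275483345682563523115604892386919005016759206168, 5681040497173928907665446068420136429458667225378]

/-- Their decompositions. -/
def sylYDec : List ℕ := [
  9282226, 837130811]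

/-- Their action on the subgroup of index 4. -/
def sylYConj : List ℕ := [
  0, 0, 14, 0, 0, 0, 0, 0, 0, 0, 0, 0, 76, 0, 2, 0,
  46, 0, 32, 0, 0, 0, 0, 0, 0, 0, 0, 0, 98, 0, 44, 0,
  82, 0, 28, 0, 0, 0, 0, 0, 0, 0, 0, 0, 94, 0, 80, 0,
  124, 0, 50, 0, 0, 0, 0, 0, 0, 0, 0, 0, 112, 0, 126, 0,
  64, 0, 78, 0, 0, 0, 0, 0, 0, 0, 0, 0, 12, 0, 66, 0,
  110, 0, 96, 0, 0, 0, 0, 0, 0, 0, 0, 0, 34, 0, 108, 0,
  18, 0, 92, 0, 0, 0, 0, 0, 0, 0, 0, 0, 30, 0, 16, 0,
  60, 0, 114, 0, 0, 0, 0, 0, 0, 0, 0, 0, 48, 0, 62, 0,
  0, 0, 126, 0, 0, 0, 0, 0, 0, 0, 0, 0, 48, 0, 14, 0,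
  30, 0, 96, 0, 0, 0, 0, 0, 0, 0, 0, 0, 46, 0, 16, 0,
  18, 0, 108, 0, 0, 0, 0, 0, 0, 0, 0, 0, 98, 0, 92, 0,
  76, 0, 50, 0, 0, 0, 0, 0, 0, 0, 0, 0, 60, 0, 2, 0,
  64, 0, 62, 0, 0, 0, 0, 0, 0, 0, 0, 0, 112, 0, 78, 0,
  94, 0, 32, 0, 0, 0, 0, 0, 0, 0, 0, 0, 110, 0, 80, 0,
  82, 0, 44, 0, 0, 0, 0, 0, 0, 0, 0, 0, 34, 0, 28, 0,
  12, 0, 114, 0, 0, 0, 0, 0, 0, 0, 0, 0, 124, 0, 66, 0]

/-- Conjugating elements. -/
def sylConjTab : List ℕ := [
  3080308625911129864877606215732266080892745034981, 5126786426566669672270761239468603880954631011593, 3215415104151714846099036622346650339496211164667]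

/-- Their decompositions. -/
def sylConjDec : List ℕ := [
  1039788607, 392614064, 165380094]

/-- Products with the generators. -/
def sylNxt : Tree :=
  .node (.node (.node (.node (.node (.node (.node (.node (.node (.node (.leaf 1) (.leaf 65)) (.node (.leaf 33) (.leaf 97))) (.node (.node (.leaf 17) (.leaf 81)) (.node (.leaf 49) (.leaf 113)))) (.node (.node (.node (.leaf 9) (.leaf 73)) (.node (.leaf 41) (.leaf 105))) (.node (.node (.leaf 25) (.leaf 89)) (.node (.leaf 57) (.leaf 121))))) (.node (.node (.node (.node (.leaf 5) (.leaf 69)) (.node (.leaf 37) (.leaf 101))) (.node (.node (.leaf 21) (.leaf 85)) (.node (.leaf 53) (.leaf 117)))) (.node (.node (.node (.leaf 13) (.leaf 77)) (.node (.leaf 45) (.leaf 109))) (.node (.node (.leaf 29) (.leaf 93)) (.node (.leaf 61) (.leaf 125)))))) (.node (.node (.node (.node (.node (.leaf 3) (.leaf 67)) (.node (.leaf 35) (.leaf 99))) (.node (.node (.leaf 19) (.leaf 83)) (.node (.leaf 51) (.leaf 115)))) (.node (.node (.node (.leaf 11) (.leaf 75)) (.node (.leaf 43) (.leaf 107))) (.node (.node (.leaf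 27) (.leaf 91)) (.node (.leaf 59) (.leaf 123))))) (.node (.node (.node (.node (.leaf 7) (.leaf 71)) (.node (.leaf 39) (.leaf 103))) (.node (.node (.leaf 23) (.leaf 87)) (.node (.leaf 55) (.leaf 119)))) (.node (.node (.node (.leaf 15) (.leaf 79)) (.node (.leaf 47) (.leaf 111))) (.node (.node (.leaf 31) (.leaf 95)) (.node (.leaf 63) (.leaf 127))))))) (.node (.node (.node (.node (.node (.node (.leaf 0) (.leaf 64)) (.node (.leaf 32) (.leaf 96))) (.node (.node (.leaf 16) (.leaf 80)) (.node (.leaf 48) (.leaf 112)))) (.node (.node (.node (.leaf 8) (.leaf 72)) (.node (.leaf 40) (.leaf 104))) (.node (.node (.leaf 24) (.leaf 88)) (.node (.leaf 56) (.leaf 120))))) (.node (.node (.node (.node (.leaf 4) (.leaf 68)) (.node (.leaf 36) (.leaf 100))) (.node (.node (.leaf 20) (.leaf 84)) (.node (.leaf 52) (.leaf 116)))) (.node (.node (.node (.leaf 12) (.leaf 76)) (.node (.leaf 44) (.leaf 108))) (.node (.node (.leaf 28) (.leaf 92)) (.node (.leaf 60) (.leaf 124)))))) (.node (.node (.node (.node (.node (.leaf 2) (.leaf 66)) (.node (.leaf 34) (.leaf 98)))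 (.node (.node (.leaf 18) (.leaf 82)) (.node (.leaf 50) (.leaf 114)))) (.node (.node (.node (.leaf 10) (.leaf 74)) (.node (.leaf 42) (.leaf 106))) (.node (.node (.leaf 26) (.leaf 90)) (.node (.leaf 58) (.leaf 122))))) (.node (.node (.node (.node (.leaf 6) (.leaf 70)) (.node (.leaf 38) (.leaf 102))) (.node (.node (.leaf 22) (.leaf 86)) (.node (.leaf 54) (.leaf 118)))) (.node (.node (.node (.leaf 14) (.leaf 78)) (.node (.leaf 46) (.leaf 110))) (.node (.node (.leaf 30) (.leaf 94)) (.node (.leaf 62) (.leaf 126)))))))) (.node (.node (.node (.node (.node (.node (.node (.leaf 16) (.leaf 80)) (.node (.leaf 48) (.leaf 112))) (.node (.node (.leaf 64) (.leaf 0)) (.node (.leaf 96) (.leaf 32)))) (.node (.node (.node (.leaf 24) (.leaf 88)) (.node (.leaf 56) (.leaf 120))) (.node (.node (.leaf 72) (.leaf 8)) (.node (.leaf 104) (.leaf 40))))) (.node (.node (.node (.node (.leaf 84) (.leaf 20)) (.node (.leaf 116) (.leaf 52))) (.node (.node (.leaf 4) (.leaf 68)) (.node (.leaf 36) (.leaf 100)))) (.node (.node (.node (.leaf 92) (.leaf 28)) (.node (.leaf 124)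 (.leaf 60))) (.node (.node (.leaf 12) (.leaf 76)) (.node (.leaf 44) (.leaf 108)))))) (.node (.node (.node (.node (.node (.leaf 82) (.leaf 18)) (.node (.leaf 114) (.leaf 50))) (.node (.node (.leaf 2) (.leaf 66)) (.node (.leaf 34) (.leaf 98)))) (.node (.node (.node (.leaf 90) (.leaf 26)) (.node (.leaf 122) (.leaf 58))) (.node (.node (.leaf 10) (.leaf 74)) (.node (.leaf 42) (.leaf 106))))) (.node (.node (.node (.node (.leaf 22) (.leaf 86)) (.node (.leaf 54) (.leaf 118))) (.node (.node (.leaf 70) (.leaf 6)) (.node (.leaf 102) (.leaf 38)))) (.node (.node (.node (.leaf 30) (.leaf 94)) (.node (.leaf 62) (.leaf 126))) (.node (.node (.leaf 78) (.leaf 14)) (.node (.leaf 110) (.leaf 46))))))) (.node (.node (.node (.node (.node (.node (.leaf 49) (.leaf 113)) (.node (.leaf 17) (.leaf 81))) (.node (.node (.leaf 97) (.leaf 33)) (.node (.leaf 65) (.leaf 1)))) (.node (.node (.node (.leaf 57) (.leaf 121)) (.node (.leaf 25) (.leaf 89))) (.node (.node (.leaf 105) (.leaf 41)) (.node (.leaf 73) (.leaf 9))))) (.node (.node (.node (.node (.leaf 117) (.leaf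 53)) (.node (.leaf 85) (.leaf 21))) (.node (.node (.leaf 37) (.leaf 101)) (.node (.leaf 5) (.leaf 69)))) (.node (.node (.node (.leaf 125) (.leaf 61)) (.node (.leaf 93) (.leaf 29))) (.node (.node (.leaf 45) (.leaf 109)) (.node (.leaf 13) (.leaf 77)))))) (.node (.node (.node (.node (.node (.leaf 51) (.leaf 115)) (.node (.leaf 19) (.leaf 83))) (.node (.node (.leaf 99) (.leaf 35)) (.node (.leaf 67) (.leaf 3)))) (.node (.node (.node (.leaf 59) (.leaf 123)) (.node (.leaf 27) (.leaf 91))) (.node (.node (.leaf 107) (.leaf 43)) (.node (.leaf 75) (.leaf 11))))) (.node (.node (.node (.node (.leaf 119) (.leaf 55)) (.node (.leaf 87) (.leaf 23))) (.node (.node (.leaf 39) (.leaf 103)) (.node (.leaf 7) (.leaf 71)))) (.node (.node (.node (.leaf 127) (.leaf 63)) (.node (.leaf 95) (.leaf 31))) (.node (.node (.leaf 47) (.leaf 111)) (.node (.leaf 15) (.leaf 79))))))))) (.node (.node (.node (.node (.node (.node (.node (.node (.leaf 4) (.leaf 68)) (.node (.leaf 36) (.leaf 100))) (.node (.node (.leaf 20) (.leaf 84)) (.node (.leaf 52) (.leaf 116)))) (.node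 (.node (.node (.leaf 12) (.leaf 76)) (.node (.leaf 44) (.leaf 108))) (.node (.node (.leaf 28) (.leaf 92)) (.node (.leaf 60) (.leaf 124))))) (.node (.node (.node (.node (.leaf 0) (.leaf 64)) (.node (.leaf 32) (.leaf 96))) (.node (.node (.leaf 16) (.leaf 80)) (.node (.leaf 48) (.leaf 112)))) (.node (.node (.node (.leaf 8) (.leaf 72)) (.node (.leaf 40) (.leaf 104))) (.node (.node (.leaf 24) (.leaf 88)) (.node (.leaf 56) (.leaf 120)))))) (.node (.node (.node (.node (.node (.leaf 22) (.leaf 86)) (.node (.leaf 54) (.leaf 118))) (.node (.node (.leaf 70) (.leaf 6)) (.node (.leaf 102) (.leaf 38)))) (.node (.node (.node (.leaf 30) (.leaf 94)) (.node (.leaf 62) (.leaf 126))) (.node (.node (.leaf 78) (.leaf 14)) (.node (.leaf 110) (.leaf 46))))) (.node (.node (.node (.node (.leaf 82) (.leaf 18)) (.node (.leaf 114) (.leaf 50))) (.node (.node (.leaf 2) (.leaf 66)) (.node (.leaf 34) (.leaf 98)))) (.node (.node (.node (.leaf 90) (.leaf 26)) (.node (.leaf 122) (.leaf 58))) (.node (.node (.leaf 10) (.leaf 74)) (.node (.leaf 42) (.leaf 106))))))) (.node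 (.node (.node (.node (.node (.node (.leaf 5) (.leaf 69)) (.node (.leaf 37) (.leaf 101))) (.node (.node (.leaf 21) (.leaf 85)) (.node (.leaf 53) (.leaf 117)))) (.node (.node (.node (.leaf 13) (.leaf 77)) (.node (.leaf 45) (.leaf 109))) (.node (.node (.leaf 29) (.leaf 93)) (.node (.leaf 61) (.leaf 125))))) (.node (.node (.node (.node (.leaf 1) (.leaf 65)) (.node (.leaf 33) (.leaf 97))) (.node (.node (.leaf 17) (.leaf 81)) (.node (.leaf 49) (.leaf 113)))) (.node (.node (.node (.leaf 9) (.leaf 73)) (.node (.leaf 41) (.leaf 105))) (.node (.node (.leaf 25) (.leaf 89)) (.node (.leaf 57) (.leaf 121)))))) (.node (.node (.node (.node (.node (.leaf 23) (.leaf 87)) (.node (.leaf 55) (.leaf 119))) (.node (.node (.leaf 71) (.leaf 7)) (.node (.leaf 103) (.leaf 39)))) (.node (.node (.node (.leaf 31) (.leaf 95)) (.node (.leaf 63) (.leaf 127))) (.node (.node (.leaf 79) (.leaf 15)) (.node (.leaf 111) (.leaf 47))))) (.node (.node (.node (.node (.leaf 83) (.leaf 19)) (.node (.leaf 115) (.leaf 51))) (.node (.node (.leaf 3) (.leaf 67)) (.node (.leaf 35) (.leaf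 99)))) (.node (.node (.node (.leaf 91) (.leaf 27)) (.node (.leaf 123) (.leaf 59))) (.node (.node (.leaf 11) (.leaf 75)) (.node (.leaf 43) (.leaf 107)))))))) (.node (.node (.node (.node (.node (.node (.node (.leaf 64) (.leaf 0)) (.node (.leaf 96) (.leaf 32))) (.node (.node (.leaf 80) (.leaf 16)) (.node (.leaf 112) (.leaf 48)))) (.node (.node (.node (.leaf 72) (.leaf 8)) (.node (.leaf 104) (.leaf 40))) (.node (.node (.leaf 88) (.leaf 24)) (.node (.leaf 120) (.leaf 56))))) (.node (.node (.node (.node (.leaf 68) (.leaf 4)) (.node (.leaf 100) (.leaf 36))) (.node (.node (.leaf 84) (.leaf 20)) (.node (.leaf 116) (.leaf 52)))) (.node (.node (.node (.leaf 76) (.leaf 12)) (.node (.leaf 108) (.leaf 44))) (.node (.node (.leaf 92) (.leaf 28)) (.node (.leaf 124) (.leaf 60)))))) (.node (.node (.node (.node (.node (.leaf 66) (.leaf 2)) (.node (.leaf 98) (.leaf 34))) (.node (.node (.leaf 82) (.leaf 18)) (.node (.leaf 114) (.leaf 50)))) (.node (.node (.node (.leaf 74) (.leaf 10)) (.node (.leaf 106) (.leaf 42))) (.node (.node (.leaf 90) (.leaf 26)) (.node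 (.leaf 122) (.leaf 58))))) (.node (.node (.node (.node (.leaf 70) (.leaf 6)) (.node (.leaf 102) (.leaf 38))) (.node (.node (.leaf 86) (.leaf 22)) (.node (.leaf 118) (.leaf 54)))) (.node (.node (.node (.leaf 78) (.leaf 14)) (.node (.leaf 110) (.leaf 46))) (.node (.node (.leaf 94) (.leaf 30)) (.node (.leaf 126) (.leaf 62))))))) (.node (.node (.node (.node (.node (.node (.leaf 65) (.leaf 1)) (.node (.leaf 97) (.leaf 33))) (.node (.node (.leaf 81) (.leaf 17)) (.node (.leaf 113) (.leaf 49)))) (.node (.node (.node (.leaf 73) (.leaf 9)) (.node (.leaf 105) (.leaf 41))) (.node (.node (.leaf 89) (.leaf 25)) (.node (.leaf 121) (.leaf 57))))) (.node (.node (.node (.node (.leaf 69) (.leaf 5)) (.node (.leaf 101) (.leaf 37))) (.node (.node (.leaf 85) (.leaf 21)) (.node (.leaf 117) (.leaf 53)))) (.node (.node (.node (.leaf 77) (.leaf 13)) (.node (.leaf 109) (.leaf 45))) (.node (.node (.leaf 93) (.leaf 29)) (.node (.leaf 125) (.leaf 61)))))) (.node (.node (.node (.node (.node (.leaf 67) (.leaf 3)) (.node (.leaf 99) (.leaf 35))) (.node (.node (.leaf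 83) (.leaf 19)) (.node (.leaf 115) (.leaf 51)))) (.node (.node (.node (.leaf 75) (.leaf 11)) (.node (.leaf 107) (.leaf 43))) (.node (.node (.leaf 91) (.leaf 27)) (.node (.leaf 123) (.leaf 59))))) (.node (.node (.node (.node (.leaf 71) (.leaf 7)) (.node (.leaf 103) (.leaf 39))) (.node (.node (.leaf 87) (.leaf 23)) (.node (.leaf 119) (.leaf 55)))) (.node (.node (.node (.leaf 79) (.leaf 15)) (.node (.leaf 111) (.leaf 47))) (.node (.node (.leaf 95) (.leaf 31)) (.node (.leaf 127) (.leaf 63)))))))))) (.node (.node (.node (.node (.node (.node (.node (.node (.node (.leaf 2) (.leaf 66)) (.node (.leaf 34) (.leaf 98))) (.node (.node (.leaf 18) (.leaf 82)) (.node (.leaf 50) (.leaf 114)))) (.node (.node (.node (.leaf 10) (.leaf 74)) (.node (.leaf 42) (.leaf 106))) (.node (.node (.leaf 26) (.leaf 90)) (.node (.leaf 58) (.leaf 122))))) (.node (.node (.node (.node (.leaf 6) (.leaf 70)) (.node (.leaf 38) (.leaf 102))) (.node (.node (.leaf 22) (.leaf 86)) (.node (.leaf 54) (.leaf 118)))) (.node (.node (.node (.leaf 14) (.leaf 78)) (.node (.leaf 46) (.leaf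 110))) (.node (.node (.leaf 30) (.leaf 94)) (.node (.leaf 62) (.leaf 126)))))) (.node (.node (.node (.node (.node (.leaf 0) (.leaf 64)) (.node (.leaf 32) (.leaf 96))) (.node (.node (.leaf 16) (.leaf 80)) (.node (.leaf 48) (.leaf 112)))) (.node (.node (.node (.leaf 8) (.leaf 72)) (.node (.leaf 40) (.leaf 104))) (.node (.node (.leaf 24) (.leaf 88)) (.node (.leaf 56) (.leaf 120))))) (.node (.node (.node (.node (.leaf 4) (.leaf 68)) (.node (.leaf 36) (.leaf 100))) (.node (.node (.leaf 20) (.leaf 84)) (.node (.leaf 52) (.leaf 116)))) (.node (.node (.node (.leaf 12) (.leaf 76)) (.node (.leaf 44) (.leaf 108))) (.node (.node (.leaf 28) (.leaf 92)) (.node (.leaf 60) (.leaf 124))))))) (.node (.node (.node (.node (.node (.node (.leaf 127) (.leaf 63)) (.node (.leaf 95) (.leaf 31))) (.node (.node (.leaf 47) (.leaf 111)) (.node (.leaf 15) (.leaf 79)))) (.node (.node (.node (.leaf 23) (.leaf 87)) (.node (.leaf 55) (.leaf 119))) (.node (.node (.leaf 71) (.leaf 7)) (.node (.leaf 103) (.leaf 39))))) (.node (.node (.node (.node (.leaf 27) (.leaf 91))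 (.node (.leaf 59) (.leaf 123))) (.node (.node (.leaf 75) (.leaf 11)) (.node (.leaf 107) (.leaf 43)))) (.node (.node (.node (.leaf 115) (.leaf 51)) (.node (.leaf 83) (.leaf 19))) (.node (.node (.leaf 35) (.leaf 99)) (.node (.leaf 3) (.leaf 67)))))) (.node (.node (.node (.node (.node (.leaf 61) (.leaf 125)) (.node (.leaf 29) (.leaf 93))) (.node (.node (.leaf 109) (.leaf 45)) (.node (.leaf 77) (.leaf 13)))) (.node (.node (.node (.leaf 85) (.leaf 21)) (.node (.leaf 117) (.leaf 53))) (.node (.node (.leaf 5) (.leaf 69)) (.node (.leaf 37) (.leaf 101))))) (.node (.node (.node (.node (.leaf 89) (.leaf 25)) (.node (.leaf 121) (.leaf 57))) (.node (.node (.leaf 9) (.leaf 73)) (.node (.leaf 41) (.leaf 105)))) (.node (.node (.node (.leaf 49) (.leaf 113)) (.node (.leaf 17) (.leaf 81))) (.node (.node (.leaf 97) (.leaf 33)) (.node (.leaf 65) (.leaf 1)))))))) (.node (.node (.node (.node (.node (.node (.node (.leaf 32) (.leaf 96)) (.node (.leaf 0) (.leaf 64))) (.node (.node (.leaf 48) (.leaf 112)) (.node (.leaf 16) (.leaf 80)))) (.node (.node (.node (.leaf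 40) (.leaf 104)) (.node (.leaf 8) (.leaf 72))) (.node (.node (.leaf 56) (.leaf 120)) (.node (.leaf 24) (.leaf 88))))) (.node (.node (.node (.node (.leaf 36) (.leaf 100)) (.node (.leaf 4) (.leaf 68))) (.node (.node (.leaf 52) (.leaf 116)) (.node (.leaf 20) (.leaf 84)))) (.node (.node (.node (.leaf 44) (.leaf 108)) (.node (.leaf 12) (.leaf 76))) (.node (.node (.leaf 60) (.leaf 124)) (.node (.leaf 28) (.leaf 92)))))) (.node (.node (.node (.node (.node (.leaf 98) (.leaf 34)) (.node (.leaf 66) (.leaf 2))) (.node (.node (.leaf 114) (.leaf 50)) (.node (.leaf 82) (.leaf 18)))) (.node (.node (.node (.leaf 106) (.leaf 42)) (.node (.leaf 74) (.leaf 10))) (.node (.node (.leaf 122) (.leaf 58)) (.node (.leaf 90) (.leaf 26))))) (.node (.node (.node (.node (.leaf 102) (.leaf 38)) (.node (.leaf 70) (.leaf 6))) (.node (.node (.leaf 118) (.leaf 54)) (.node (.leaf 86) (.leaf 22)))) (.node (.node (.node (.leaf 110) (.leaf 46)) (.node (.leaf 78) (.leaf 14))) (.node (.node (.leaf 126) (.leaf 62)) (.node (.leaf 94) (.leaf 30))))))) (.node (.node (.node (.node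 (.node (.node (.leaf 33) (.leaf 97)) (.node (.leaf 1) (.leaf 65))) (.node (.node (.leaf 49) (.leaf 113)) (.node (.leaf 17) (.leaf 81)))) (.node (.node (.node (.leaf 41) (.leaf 105)) (.node (.leaf 9) (.leaf 73))) (.node (.node (.leaf 57) (.leaf 121)) (.node (.leaf 25) (.leaf 89))))) (.node (.node (.node (.node (.leaf 37) (.leaf 101)) (.node (.leaf 5) (.leaf 69))) (.node (.node (.leaf 53) (.leaf 117)) (.node (.leaf 21) (.leaf 85)))) (.node (.node (.node (.leaf 45) (.leaf 109)) (.node (.leaf 13) (.leaf 77))) (.node (.node (.leaf 61) (.leaf 125)) (.node (.leaf 29) (.leaf 93)))))) (.node (.node (.node (.node (.node (.leaf 99) (.leaf 35)) (.node (.leaf 67) (.leaf 3))) (.node (.node (.leaf 115) (.leaf 51)) (.node (.leaf 83) (.leaf 19)))) (.node (.node (.node (.leaf 107) (.leaf 43)) (.node (.leaf 75) (.leaf 11))) (.node (.node (.leaf 123) (.leaf 59)) (.node (.leaf 91) (.leaf 27))))) (.node (.node (.node (.node (.leaf 103) (.leaf 39)) (.node (.leaf 71) (.leaf 7))) (.node (.node (.leaf 119) (.leaf 55)) (.node (.leaf 87) (.leaf 23)))) (.node (.node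 (.node (.leaf 111) (.leaf 47)) (.node (.leaf 79) (.leaf 15))) (.node (.node (.leaf 127) (.leaf 63)) (.node (.leaf 95) (.leaf 31))))))))) (.node (.node (.node (.node (.node (.node (.node (.node (.leaf 8) (.leaf 72)) (.node (.leaf 40) (.leaf 104))) (.node (.node (.leaf 24) (.leaf 88)) (.node (.leaf 56) (.leaf 120)))) (.node (.node (.node (.leaf 96) (.leaf 32)) (.node (.leaf 64) (.leaf 0))) (.node (.node (.leaf 112) (.leaf 48)) (.node (.leaf 80) (.leaf 16))))) (.node (.node (.node (.node (.leaf 44) (.leaf 108)) (.node (.leaf 12) (.leaf 76))) (.node (.node (.leaf 60) (.leaf 124)) (.node (.leaf 28) (.leaf 92)))) (.node (.node (.node (.leaf 68) (.leaf 4)) (.node (.leaf 100) (.leaf 36))) (.node (.node (.leaf 84) (.leaf 20)) (.node (.leaf 116) (.leaf 52)))))) (.node (.node (.node (.node (.node (.leaf 26) (.leaf 90)) (.node (.leaf 58) (.leaf 122))) (.node (.node (.leaf 74) (.leaf 10)) (.node (.leaf 106) (.leaf 42)))) (.node (.node (.node (.leaf 114) (.leaf 50)) (.node (.leaf 82) (.leaf 18))) (.node (.node (.leaf 34) (.leaf 98)) (.node (.leaf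 2) (.leaf 66))))) (.node (.node (.node (.node (.leaf 126) (.leaf 62)) (.node (.leaf 94) (.leaf 30))) (.node (.node (.leaf 46) (.leaf 110)) (.node (.leaf 14) (.leaf 78)))) (.node (.node (.node (.leaf 22) (.leaf 86)) (.node (.leaf 54) (.leaf 118))) (.node (.node (.leaf 70) (.leaf 6)) (.node (.leaf 102) (.leaf 38))))))) (.node (.node (.node (.node (.node (.node (.leaf 105) (.leaf 41)) (.node (.leaf 73) (.leaf 9))) (.node (.node (.leaf 121) (.leaf 57)) (.node (.leaf 89) (.leaf 25)))) (.node (.node (.node (.leaf 1) (.leaf 65)) (.node (.leaf 33) (.leaf 97))) (.node (.node (.leaf 17) (.leaf 81)) (.node (.leaf 49) (.leaf 113))))) (.node (.node (.node (.node (.leaf 77) (.leaf 13)) (.node (.leaf 109) (.leaf 45))) (.node (.node (.leaf 93) (.leaf 29)) (.node (.leaf 125) (.leaf 61)))) (.node (.node (.node (.leaf 37) (.leaf 101)) (.node (.leaf 5) (.leaf 69))) (.node (.node (.leaf 53) (.leaf 117)) (.node (.leaf 21) (.leaf 85)))))) (.node (.node (.node (.node (.node (.leaf 59) (.leaf 123)) (.node (.leaf 27) (.leaf 91))) (.node (.node (.leaf 107) (.leaf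 43)) (.node (.leaf 75) (.leaf 11)))) (.node (.node (.node (.leaf 83) (.leaf 19)) (.node (.leaf 115) (.leaf 51))) (.node (.node (.leaf 3) (.leaf 67)) (.node (.leaf 35) (.leaf 99))))) (.node (.node (.node (.node (.leaf 95) (.leaf 31)) (.node (.leaf 127) (.leaf 63))) (.node (.node (.leaf 15) (.leaf 79)) (.node (.leaf 47) (.leaf 111)))) (.node (.node (.node (.leaf 55) (.leaf 119)) (.node (.leaf 23) (.leaf 87))) (.node (.node (.leaf 103) (.leaf 39)) (.node (.leaf 71) (.leaf 7)))))))) (.leaf 0)))

/-- First labels. -/
def sylStart : Tree :=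
  .node (.node (.node (.node (.node (.node (.node (.leaf 1) (.leaf 0)) (.leaf 0)) (.leaf 0)) (.leaf 0)) (.leaf 0)) (.leaf 0)) (.leaf 0)

/-- The marked coset. -/
def sylMark : Tree :=
  .node (.node (.node (.node (.leaf 0) (.leaf 1)) (.node (.leaf 1) (.leaf 0))) (.node (.node (.leaf 0) (.leaf 1)) (.node (.leaf 1) (.leaf 0)))) (.leaf 0)

/-- Second labels. -/
def sylStart2 : Tree :=
  .node (.node (.node (.node (.node (.node (.node (.leaf 0) (.leaf 8)) (.leaf 7)) (.leaf 5)) (.leaf 260)) (.node (.leaf 257) (.leaf 5))) (.node (.node (.node (.node (.leaf 2) (.leaf 6)) (.node (.leaf 2) (.leaf 6))) (.leaf 259)) (.node (.leaf 259) (.node (.node (.leaf 2) (.leaf 6)) (.node (.leaf 6) (.leaf 2)))))) (.node (.node (.node (.node (.leaf 1) (.leaf 4)) (.node (.leaf 1) (.leaf 4))) (.node (.node (.leaf 1) (.leaf 4)) (.node (.leaf 4) (.leaf 1)))) (.leaf 3))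

/-- Inverses. -/
def sylInv : Tree :=
  .node (.node (.node (.node (.node (.node (.node (.leaf 0) (.leaf 64)) (.node (.leaf 32) (.leaf 96))) (.node (.node (.leaf 80) (.leaf 16)) (.node (.leaf 112) (.leaf 48)))) (.node (.node (.node (.leaf 104) (.leaf 40)) (.node (.leaf 72) (.leaf 8))) (.node (.node (.leaf 56) (.leaf 120)) (.node (.leaf 24) (.leaf 88))))) (.node (.node (.node (.node (.leaf 4) (.leaf 68)) (.node (.leaf 36) (.leaf 100))) (.node (.node (.leaf 20) (.leaf 84)) (.node (.leaf 52) (.leaf 116)))) (.node (.node (.node (.leaf 76) (.leaf 12)) (.node (.leaf 108) (.leaf 44))) (.node (.node (.leaf 92) (.leaf 28)) (.node (.leaf 124) (.leaf 60)))))) (.node (.node (.node (.node (.node (.leaf 2) (.leaf 66)) (.node (.leaf 98) (.leaf 34))) (.node (.node (.leaf 18) (.leaf 82)) (.node (.leaf 114) (.leaf 50)))) (.node (.node (.node (.leaf 58) (.leaf 122)) (.node (.leaf 90) (.leaf 26))) (.node (.node (.leaf 106) (.leaf 42)) (.node (.leaf 10) (.leaf 74))))) (.node (.node (.node (.node (.leaf 22) (.leaf 86)) (.node (.leaf 118) (.leaf 54))) (.node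 (.node (.leaf 6) (.leaf 70)) (.node (.leaf 102) (.leaf 38)))) (.node (.node (.node (.leaf 14) (.leaf 78)) (.node (.leaf 110) (.leaf 46))) (.node (.node (.leaf 94) (.leaf 30)) (.node (.leaf 62) (.leaf 126))))))) (.node (.node (.node (.node (.node (.node (.leaf 1) (.leaf 65)) (.node (.leaf 33) (.leaf 97))) (.node (.node (.leaf 113) (.leaf 49)) (.node (.leaf 81) (.leaf 17)))) (.node (.node (.node (.leaf 9) (.leaf 73)) (.node (.leaf 41) (.leaf 105))) (.node (.node (.leaf 121) (.leaf 57)) (.node (.leaf 89) (.leaf 25))))) (.node (.node (.node (.node (.leaf 5) (.leaf 69)) (.node (.leaf 37) (.leaf 101))) (.node (.node (.leaf 53) (.leaf 117)) (.node (.leaf 21) (.leaf 85)))) (.node (.node (.node (.leaf 45) (.leaf 109)) (.node (.leaf 13) (.leaf 77))) (.node (.node (.leaf 29) (.leaf 93)) (.node (.leaf 61) (.leaf 125)))))) (.node (.node (.node (.node (.node (.leaf 127) (.leaf 63)) (.node (.leaf 31) (.leaf 95))) (.node (.node (.leaf 15) (.leaf 79)) (.node (.leaf 111) (.leaf 47)))) (.node (.node (.node (.leaf 39) (.leaf 103)) (.node (.leaf 71) (.leaf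 7))) (.node (.node (.leaf 23) (.leaf 87)) (.node (.leaf 119) (.leaf 55))))) (.node (.node (.node (.node (.leaf 107) (.leaf 43)) (.node (.leaf 11) (.leaf 75))) (.node (.node (.leaf 27) (.leaf 91)) (.node (.leaf 123) (.leaf 59)))) (.node (.node (.node (.leaf 19) (.leaf 83)) (.node (.leaf 115) (.leaf 51))) (.node (.node (.leaf 35) (.leaf 99)) (.node (.leaf 67) (.leaf 3)))))))

/-- Descending commutators. -/
def sylComm : Tree :=
  .node (.node (.node (.node (.node (.node (.leaf 0) (.leaf 320)) (.leaf 32)) (.node (.leaf 96) (.leaf 64))) (.node (.node (.node (.leaf 336) (.leaf 272)) (.leaf 32)) (.node (.leaf 96) (.leaf 64)))) (.node (.node (.node (.leaf 60) (.leaf 92)) (.node (.leaf 124) (.leaf 28))) (.node (.node (.leaf 92) (.leaf 60)) (.node (.leaf 28) (.leaf 124))))) (.node (.node (.node (.node (.node (.leaf 380) (.leaf 316)) (.leaf 32)) (.node (.leaf 96) (.leaf 64))) (.node (.node (.node (.leaf 332) (.leaf 268)) (.leaf 32)) (.node (.leaf 96) (.leaf 64)))) (.node (.node (.node (.leaf 60) (.leaf 92)) (.node (.leaf 124) (.leaf 28))) (.node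 (.node (.leaf 92) (.leaf 60)) (.node (.leaf 28) (.leaf 124)))))

/-- The action of the element of order 3. -/
def sylXc : Tree :=
  .node (.node (.node (.node (.node (.node (.node (.leaf 0) (.leaf 64)) (.node (.leaf 32) (.leaf 96))) (.node (.node (.leaf 44) (.leaf 108)) (.node (.leaf 12) (.leaf 76)))) (.node (.node (.node (.leaf 25) (.leaf 89)) (.node (.leaf 57) (.leaf 121))) (.node (.node (.leaf 53) (.leaf 117)) (.node (.leaf 21) (.leaf 85))))) (.node (.node (.node (.node (.leaf 101) (.leaf 37)) (.node (.leaf 69) (.leaf 5))) (.node (.node (.leaf 73) (.leaf 9)) (.node (.leaf 105) (.leaf 41)))) (.node (.node (.node (.leaf 124) (.leaf 60)) (.node (.leaf 92) (.leaf 28))) (.node (.node (.leaf 80) (.leaf 16)) (.node (.leaf 112) (.leaf 48)))))) (.node (.node (.node (.node (.node (.leaf 62) (.leaf 126)) (.node (.leaf 30) (.leaf 94))) (.node (.node (.leaf 18) (.leaf 82)) (.node (.leaf 50) (.leaf 114)))) (.node (.node (.node (.leaf 91) (.leaf 27)) (.node (.leaf 123) (.leaf 59))) (.node (.node (.leaf 119) (.leaf 55)) (.node (.leaf 87) (.leaf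 23))))) (.node (.node (.node (.node (.leaf 39) (.leaf 103)) (.node (.leaf 7) (.leaf 71))) (.node (.node (.leaf 11) (.leaf 75)) (.node (.leaf 43) (.leaf 107)))) (.node (.node (.node (.leaf 2) (.leaf 66)) (.node (.leaf 34) (.leaf 98))) (.node (.node (.leaf 46) (.leaf 110)) (.node (.leaf 14) (.leaf 78))))))) (.node (.node (.node (.node (.node (.node (.leaf 36) (.leaf 100)) (.node (.leaf 4) (.leaf 68))) (.node (.node (.leaf 8) (.leaf 72)) (.node (.leaf 40) (.leaf 104)))) (.node (.node (.node (.leaf 61) (.leaf 125)) (.node (.leaf 29) (.leaf 93))) (.node (.node (.leaf 17) (.leaf 81)) (.node (.leaf 49) (.leaf 113))))) (.node (.node (.node (.node (.leaf 65) (.leaf 1)) (.node (.leaf 97) (.leaf 33))) (.node (.node (.leaf 109) (.leaf 45)) (.node (.leaf 77) (.leaf 13)))) (.node (.node (.node (.leaf 88) (.leaf 24)) (.node (.leaf 120) (.leaf 56))) (.node (.node (.leaf 116) (.leaf 52)) (.node (.leaf 84) (.leaf 20)))))) (.node (.node (.node (.node (.node (.leaf 74) (.leaf 10)) (.node (.leaf 106) (.leaf 42))) (.node (.node (.leaf 38) (.leaf 102)) (.node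 (.leaf 6) (.leaf 70)))) (.node (.node (.node (.leaf 111) (.leaf 47)) (.node (.leaf 79) (.leaf 15))) (.node (.node (.leaf 3) (.leaf 67)) (.node (.leaf 35) (.leaf 99))))) (.node (.node (.node (.node (.leaf 19) (.leaf 83)) (.node (.leaf 51) (.leaf 115))) (.node (.node (.leaf 127) (.leaf 63)) (.node (.leaf 95) (.leaf 31)))) (.node (.node (.node (.leaf 118) (.leaf 54)) (.node (.leaf 86) (.leaf 22))) (.node (.node (.leaf 26) (.leaf 90)) (.node (.leaf 58) (.leaf 122)))))))

/-- Labels of a step. -/
def sylATab0 : Tree :=
  .node (.node (.node (.node (.node (.node (.node (.leaf 0) (.leaf 1)) (.leaf 1)) (.leaf 2)) (.leaf 2)) (.node (.leaf 1) (.leaf 2))) (.node (.node (.node (.node (.leaf 1) (.leaf 2)) (.node (.leaf 1) (.leaf 2))) (.leaf 2)) (.node (.leaf 2) (.node (.node (.leaf 1) (.leaf 2)) (.node (.leaf 2) (.leaf 1)))))) (.node (.node (.node (.node (.leaf 1) (.leaf 2)) (.node (.leaf 1) (.leaf 2))) (.node (.node (.leaf 1) (.leaf 2)) (.node (.leaf 2) (.leaf 1)))) (.leaf 2))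

/-- Keys of a step. -/
def sylADict0 : Dict :=
  .node 256 1 (.node 0 2 (.nil) (.nil)) (.node 257 0 (.nil) (.nil))

/-- Labels of a step. -/
def sylATab1 : Tree :=
  .node (.node (.node (.node (.node (.node (.node (.leaf 0) (.leaf 8)) (.leaf 7)) (.leaf 5)) (.leaf 4)) (.node (.leaf 1) (.leaf 5))) (.node (.node (.node (.node (.leaf 2) (.leaf 6)) (.node (.leaf 2) (.leaf 6))) (.leaf 3)) (.node (.leaf 3) (.node (.node (.leaf 2) (.leaf 6)) (.node (.leaf 6) (.leaf 2)))))) (.node (.node (.node (.node (.leaf 1) (.leaf 4)) (.node (.leaf 1) (.leaf 4))) (.node (.node (.leaf 1) (.leaf 4)) (.node (.leaf 4) (.leaf 1)))) (.leaf 3))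

/-- Keys of a step. -/
def sylADict1 : Dict :=
  .node 3074 4 (.node 2050 6 (.node 1538 3 (.node 1 1 (.nil) (.nil)) (.nil)) (.node 3073 2 (.nil) (.nil))) (.node 23552 0 (.node 9217 7 (.node 6146 5 (.nil) (.nil)) (.nil)) (.node 23553 8 (.nil) (.nil)))

/-- Labels of a step. -/
def sylBTab0 : Tree :=
  .node (.node (.node (.node (.node (.node (.node (.leaf 0) (.leaf 12)) (.leaf 11)) (.leaf 9)) (.leaf 6)) (.node (.leaf 4) (.leaf 7))) (.node (.node (.node (.node (.leaf 2) (.leaf 10)) (.node (.leaf 2) (.leaf 10))) (.leaf 5)) (.node (.leaf 5) (.node (.node (.leaf 2) (.leaf 10)) (.node (.leaf 10) (.leaf 2)))))) (.node (.node (.node (.node (.leaf 1) (.leaf 8)) (.node (.leaf 1) (.leaf 8))) (.node (.node (.leaf 1) (.leaf 8)) (.node (.leaf 8) (.leaf 1)))) (.leaf 3))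

/-- Keys of a step. -/
def sylBDict0 : Dict :=
  .node 257 4 (.node 4 8 (.node 2 2 (.node 1 1 (.nil) (.nil)) (.node 3 3 (.nil) (.nil))) (.node 6 10 (.node 5 7 (.nil) (.nil)) (.nil))) (.node 2055 11 (.node 2048 0 (.node 259 5 (.nil) (.nil)) (.node 2053 9 (.nil) (.nil))) (.node 2308 6 (.node 2056 12 (.nil) (.nil)) (.nil)))

/-- The tables. -/
def sylData : Data where
  m := 7
  nxt := sylNxt
  start := sylStart
  steps := [.sq sylATab0 sylADict0,
    .comm [3, 6, 7, 8, 10, 11, 12, 13, 15, 16, 17, 19, 21, 22, 23, 24, 25, 26, 27, 28, 30, 31, 34, 35, 38, 39, 40, 42, 43, 44, 45, 46, 47, 48, 49, 50, 51, 53, 54, 55, 56, 57, 58, 59, 60, 63, 67, 70, 71, 72, 74, 75, 76, 77, 79, 80, 81, 83, 85, 86, 87, 88, 89, 90, 91, 92, 94, 95, 98, 99, 102, 103, 104, 106, 107, 108, 109, 110, 111, 112, 113, 114, 115, 117, 118, 119, 120, 121, 122, 123, 124, 127] 2 sylATab1 sylADict1]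
  rClasses := [0, 2, 5, 6, 7, 8]
  mark := sylMark
  start2 := sylStart2
  steps2 := [.comm [8, 24, 40, 56, 72, 88, 104, 120] 260 sylBTab0 sylBDict0]
  classes := [[0, 1, 2, 3, 4, 5, 6, 7, 8, 9, 10, 11, 12], [0, 2, 4, 5, 6, 7, 9, 10, 11, 12], [0, 4, 6, 7, 9, 11, 12], [0, 6, 9, 11, 12], [0, 9, 11, 12], [0, 11, 12], [0, 12]]
  inv := sylInv
  comm := sylComm
  xc := sylXc
  moves := [.conj 0 64 1, .prod 1 64, .conj 1 64 2, .prod 1 2, .prod 2 1, .prod 2 65, .prod 2 127, .prod 65 3, .prod 65 61, .prod 65 67, .conj 2 64 4, .prod 1 4, .prod 2 4, .prod 2 5, .prod 3 23, .prod 4 22, .prod 4 56, .prod 4 126, .prod 60 26, .prod 60 82, .prod 60 92, .prod 62 102, .prod 62 110]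

end CfsgLib.Janko3
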