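import Cfsg.Agent.Lib.Janko3.Checks
import Cfsg.Agent.Lib.Janko3.SylowData

/-!
Kernel evaluation for a Sylow 2-subgroup of the third Janko group.
-/

set_option autoImplicit false
set_option maxRecDepth 100000
set_option maxHeartbeats 0
-- one kernel evaluation at a time
set_option Elab.async false

namespace CfsgLib.Janko3

open CfsgLib.Fusion

/-- An element of the Sylow subgroup, by index. -/
def sylEl (d : ℕ) : ℕ := sylTab.getD d 0

/-- An element of 2-power order, by index. -/
def yEl (k : ℕ) : ℕ := sylYTab.getD k 0

/-- The element acting with order three. -/
def xEl : ℕ := mul (yEl 0) (yEl 1)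

/-- A conjugating element, by index. -/
def cgEl (k : ℕ) : ℕ := sylConjTab.getD k 0

open TableSylow in
private theorem tables_nxt : okNxt sylData = true := by decide +kernel

open TableSylow in
private theorem tables_inv : okInv sylData = true := by decide +kernel

open TableSylow in
private theorem tables_start0 : ((List.range (2 ^ sylData.m)).all fun d =>
    Nat.beq (sylData.start.get d) (bif Nat.beq d 0 then 1 else 0)) = true := by decide +kernel

open TableSylow in
private theorem tables_step0 : stepOK sylData sylData.start
    (sylData.steps.getD 0 (.sq sylData.start .nil)) = true := by decide +kernel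

open TableSylow in
/-- The class list of a refinement step by commuting elements. -/
private def stepHead (C : Data) (L : Tree) : Step → Bool
  | .sq _ _ => false
  | .comm cl c _ _ =>
      decide (cl = (List.range (2 ^ C.m)).filter fun e => Nat.beq (L.get e) c)

open TableSylow in
/-- A refinement step by commuting elements, on part of the range. -/
private def stepPart (C : Data) (L : Tree) (l : List ℕ) : Step → Bool
  | .sq _ _ => false
  | .comm cl _ tab dict => l.all fun d =>
      Nat.beq (dict.find (L.get d + 256 * cl.countP fun e => commT C d e)) (tab.get d)

open TableSylow in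
private theorem stepOK_of_parts {C : Data} {L : Tree} {s : Step} {l₁ l₂ : List ℕ}
    (hl : List.range (2 ^ C.m) = l₁ ++ l₂) (h0 : stepHead C L s = true)
    (h1 : stepPart C L l₁ s = true) (h2 : stepPart C L l₂ s = true) : stepOK C L s = true := by
  cases s with
  | sq => simp [stepHead] at h0
  | comm cl c tab dict =>
    refine Bool.and_eq_true_iff.2 ⟨h0, ?_⟩
    simp only [stepPart] at h1 h2
    rw [hl, List.all_append, h1, h2]
    rfl

open TableSylow in
private theorem tables_step1_head : stepHead sylData (finalTab (sylData.steps.take 1) sylData.start)
    (sylData.steps.getD 1 (.sq sylData.start .nil)) = true := by decide +kernel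

open TableSylow in
private theorem tables_step1_low : stepPart sylData (finalTab (sylData.steps.take 1) sylData.start)
    (List.range 64) (sylData.steps.getD 1 (.sq sylData.start .nil)) = true := by decide +kernel

open TableSylow in
private theorem tables_step1_high : stepPart sylData (finalTab (sylData.steps.take 1) sylData.start)
    (List.range' 64 64) (sylData.steps.getD 1 (.sq sylData.start .nil)) = true := by decide +kernel

open TableSylow in
private theorem tables_step1 : stepOK sylData (finalTab (sylData.steps.take 1) sylData.start)
    (sylData.steps.getD 1 (.sq sylData.start .nil)) = true :=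
  stepOK_of_parts (l₁ := List.range 64) (l₂ := List.range' 64 64) (by decide +kernel)
    tables_step1_head tables_step1_low tables_step1_high

open TableSylow in
private theorem tables_start : okStart sylData = true :=
  Bool.and_eq_true_iff.2 ⟨tables_start0, Bool.and_eq_true_iff.2
    ⟨tables_step0, Bool.and_eq_true_iff.2 ⟨tables_step1, rfl⟩⟩⟩

open TableSylow in
private theorem tables_mark : okMark sylData = true := by decide +kernel

open TableSylow in
private theorem tables_series : okSeries sylData = true := by decide +kernel

open TableSylow in
private theorem tables_comm : okComm sylData = true := by decide +kernel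

open TableSylow in
private theorem tables_moves : movesOK sylData sylData.moves [0, 64] = true := by decide +kernel

theorem check_syl_tables : (TableSylow.okNxt sylData && TableSylow.okInv sylData &&
    TableSylow.okStart sylData && TableSylow.okMark sylData && TableSylow.okSeries sylData &&
    TableSylow.okComm sylData && TableSylow.movesOK sylData sylData.moves [0, 64]) = true := by
  simp only [Bool.and_eq_true]
  exact ⟨⟨⟨⟨⟨⟨tables_nxt, tables_inv⟩, tables_start⟩, tables_mark⟩, tables_series⟩, tables_comm⟩,
    tables_moves⟩

theorem check_syl_gen : (((List.range 7).all fun i =>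
      Nat.beq (sylEl (2 ^ i)) (dcVal (sylGenDec.getD i 0))) &&
    ((List.range 2).all fun k => Nat.beq (yEl k) (dcVal (sylYDec.getD k 0))) &&
    ((List.range 3).all fun k => Nat.beq (cgEl k) (dcVal (sylConjDec.getD k 0))) &&
    Nat.beq (sylEl 0) one) = true := by
  decide +kernel

theorem check_syl_mul : ((List.range 128).all fun d => (List.range 7).all fun i =>
    Nat.beq (sylEl (TableSylow.nx sylData d i)) (mul (sylEl d) (sylEl (2 ^ i)))) = true := by
  decide +kernel

theorem check_syl_scal : ((List.range 128).all fun d => Nat.blt (sylEl d) (2 ^ 162) &&
    (Nat.beq d 0 || [1, 2, 3].all fun c => !Nat.beq (sylEl d) (scal c))) = true := by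
  decide +kernel

theorem check_syl_x : ((List.range 128).all fun d =>
    Nat.beq (mul xEl (sylEl d)) (mul (sylEl (sylData.xc.get d)) xEl)) = true := by
  decide +kernel

theorem check_syl_y : ((List.range 2).all fun k =>
    (let y2 := mul (yEl k) (yEl k); let y4 := mul y2 y2; Nat.beq (mul y4 y4) one) &&
    (List.range 128).all fun r => !TableSylow.inR sylData r ||
      (Nat.blt (sylYConj.getD (128 * k + r) 0) 128 &&
        TableSylow.inR sylData (sylYConj.getD (128 * k + r) 0) &&
        Nat.beq (mul (yEl k) (sylEl r)) (mul (sylEl (sylYConj.getD (128 * k + r) 0)) (yEl k)))) =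
    true := by
  decide +kernel

/-- A move is witnessed. -/
def moveOK : TableSylow.Move → Bool
  | .conj g e d => Nat.blt g 3 && Nat.blt e 128 && Nat.blt d 128 &&
      Nat.beq (mul (cgEl g) (sylEl e)) (mul (sylEl d) (cgEl g))
  | .prod _ _ => true

theorem check_syl_moves : sylData.moves.all moveOK = true := by
  decide +kernel

end CfsgLib.Janko3
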