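import Cfsg.Agent.Lib.Janko3.Center
import Cfsg.Agent.Lib.Janko3.SylowChecks

/-!
The 2-fusion system of the third Janko group is simple.
-/

set_option autoImplicit false
set_option linter.unusedSectionVars false

namespace CfsgLib.Janko3

open Cfsg Cfsg.Spor Matrix Subgroup CfsgLib.Fusion

variable {F : Type*} [Field F] {ω : F}

theorem code_eq_of_dec (h2 : (2 : F) = 0) (hω : ω ^ 2 + ω + 1 = 0) {M N : ℕ} (hM : M < 2 ^ 162)
    (hN : N < 2 ^ 162) (h : dec F ω M = dec F ω N) : M = N := by
  refine Nat.eq_of_testBit_eq fun k => ?_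
  by_cases hk : k < 162
  · have hs : ∀ i < 9, ∃ z : F9, ix z = i := by decide
    obtain ⟨z, hz⟩ := hs (k / 18) (by omega)
    have h1 : ∀ w : F9, ent F ω (row M (k / 18)) (ix w) = ent F ω (row N (k / 18)) (ix w) := fun w =>
      hz ▸ congrFun (congrFun h z) w
    have hr : ∀ M : ℕ, row M (k / 18) < 262144 := fun M => Nat.and_le_right.trans_lt (by norm_num)
    have h3 := code_injective h2 hω (hr M) (hr N) (funext h1)
    have h4 := congrArg (fun r => r.testBit (k % 18)) h3
    simp only [testBit_row (Nat.mod_lt k (show 18 > 0 by norm_num))] at h4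
    rwa [Nat.div_add_mod] at h4
  · have hb : (2 : ℕ) ^ 162 ≤ 2 ^ k := Nat.pow_le_pow_right two_pos (by omega)
    rw [Nat.testBit_lt_two_pow (by omega), Nat.testBit_lt_two_pow (by omega)]

variable (F ω) in
/-- The central quotient. -/
abbrev QQ : Type _ := GG F ω ⧸ Subgroup.center (GG F ω)

variable (F ω) in
open Classical in
/-- The image of a code in the central quotient (junk: `1`). -/
noncomputable def qEl (c : ℕ) : QQ F ω :=
  if h : gl F ω c ∈ GG F ω then QuotientGroup.mk ⟨gl F ω c, h⟩ else 1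

variable (hf : Field4 F ω)
include hf

/-- A code of a member. -/
def Mem (F : Type*) [Field F] (ω : F) (c : ℕ) : Prop :=
  IsUnit (dec F ω c) ∧ gl F ω c ∈ GG F ω

theorem qEl_mul {a b : ℕ} (ha : Mem F ω a) (hb : Mem F ω b) :
    Mem F ω (mul a b) ∧ qEl F ω (mul a b) = qEl F ω a * qEl F ω b := by
  obtain ⟨u, e⟩ := gl_mul hf ha.1 hb.1
  have h : gl F ω (mul a b) ∈ GG F ω := e ▸ mul_mem ha.2 hb.2
  refine ⟨⟨u, h⟩, ?_⟩
  rw [qEl, qEl, qEl, dif_pos h, dif_pos ha.2, dif_pos hb.2, ← QuotientGroup.mk_mul]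
  exact congrArg _ (Subtype.ext e)

theorem qEl_one : Mem F ω one ∧ qEl F ω one = 1 := by
  have h : gl F ω one ∈ GG F ω := by rw [gl_one hf]; exact one_mem _
  refine ⟨⟨unit_one hf, h⟩, ?_⟩
  have e : (⟨gl F ω one, h⟩ : GG F ω) = 1 := Subtype.ext (gl_one hf)
  rw [qEl, dif_pos h, e]
  exact QuotientGroup.mk_one _

theorem mem_dcVal {c e : ℕ} (h : c = dcVal e) : Mem F ω c :=
  h ▸ ⟨(dc_val hf e).1, dcVal_mem hf e⟩

theorem qEl_conj {g a b : ℕ} (hg : Mem F ω g) (ha : Mem F ω a) (hb : Mem F ω b)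
    (h : mul g a = mul b g) : qEl F ω g * qEl F ω a * (qEl F ω g)⁻¹ = qEl F ω b := by
  rw [← (qEl_mul hf hg ha).2, h, (qEl_mul hf hb hg).2, mul_inv_cancel_right]

theorem syl_gen_checks : (∀ i < 7, Mem F ω (sylEl (2 ^ i))) ∧ (∀ k < 2, Mem F ω (yEl k)) ∧
    (∀ k < 3, Mem F ω (cgEl k)) ∧ sylEl 0 = one := by
  have h := check_syl_gen
  simp only [Bool.and_eq_true] at h
  exact ⟨fun i hi => mem_dcVal hf (beq_eq (of_all h.1.1.1 hi)),
    fun k hk => mem_dcVal hf (beq_eq (of_all h.1.1.2 hk)),
    fun k hk => mem_dcVal hf (beq_eq (of_all h.1.2 hk)), beq_eq h.2⟩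

theorem syl_tables : TableSylow.okNxt sylData = true ∧ TableSylow.okInv sylData = true ∧
    TableSylow.okStart sylData = true ∧ TableSylow.okMark sylData = true ∧
    TableSylow.okSeries sylData = true ∧ TableSylow.okComm sylData = true ∧
    TableSylow.movesOK sylData sylData.moves [0, 64] = true := by
  have h := check_syl_tables
  simp only [Bool.and_eq_true] at h
  exact ⟨h.1.1.1.1.1.1, h.1.1.1.1.1.2, h.1.1.1.1.2, h.1.1.1.2, h.1.1.2, h.1.2, h.2⟩

theorem mem_syl {d : ℕ} (hd : d < 128) : Mem F ω (sylEl d) := by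
  induction d using Nat.strong_induction_on with
  | _ d ih =>
    rcases Nat.eq_zero_or_pos d with rfl | hpos
    · rw [(syl_gen_checks hf).2.2.2]; exact (qEl_one hf).1
    have h : ∀ d < 128, 0 < d → ∃ i < 7, 2 ^ i ≤ d ∧ (d - 2 ^ i) % 2 ^ (i + 1) = 0 := by decide +kernel
    obtain ⟨i, hi, hle, hmod⟩ := h d hd hpos
    have hlt : d - 2 ^ i < d := by have := Nat.two_pow_pos i; omega
    have hlt' : d - 2 ^ i < 128 := by omega
    have hn := (TableSylow.nxt_spec (C := sylData) (syl_tables hf).1 (d := d - 2 ^ i) hlt' hi).2.1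
      (Nat.dvd_of_mod_eq_zero hmod)
    rw [Nat.sub_add_cancel hle] at hn
    have hm := beq_eq (of_all (of_all check_syl_mul hlt') hi)
    rw [hn] at hm
    rw [hm]
    exact (qEl_mul hf (ih _ hlt hlt') ((syl_gen_checks hf).1 i hi)).1

theorem x_mem : Mem F ω xEl :=
  (qEl_mul hf ((syl_gen_checks hf).2.1 0 (by norm_num)) ((syl_gen_checks hf).2.1 1 (by norm_num))).1

theorem syl_facts [Fintype F] (hF : Fintype.card F = 4) :
    TableSylow.Facts sylData (fun d => qEl F ω (sylEl d)) (qEl F ω xEl)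
      [qEl F ω (yEl 0), qEl F ω (yEl 1)] (fun k => qEl F ω (cgEl k)) := by
  obtain ⟨t1, t2, t3, t4, t5, t6, t7⟩ := syl_tables hf
  obtain ⟨g1, g2, g3, g4⟩ := syl_gen_checks hf
  refine ⟨t1, t2, t3, t4, t5, t6, t7, show 1 ≤ 7 by norm_num, ?_, ?_, ?_, ?_, ?_, ?_, ?_, ?_⟩
  · show qEl F ω (sylEl 0) = 1
    rw [g4]; exact (qEl_one hf).2
  · intro d hd i hi
    show qEl F ω (sylEl _) = _
    rw [beq_eq (of_all (of_all check_syl_mul hd) hi)]
    exact (qEl_mul hf (mem_syl hf hd) (g1 i hi)).2
  · intro d hd h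
    by_contra hne
    have hm := mem_syl hf hd
    change qEl F ω (sylEl d) = 1 at h
    rw [qEl, dif_pos hm.2, QuotientGroup.eq_one_iff] at h
    obtain ⟨x, hx⟩ := center_scalar hf hm.2 fun g hg =>
      (congrArg Subtype.val (Subgroup.mem_center_iff.1 h ⟨g, hg⟩)).symm
    have hx0 : x ≠ 0 := by
      rintro rfl
      exact (Units.isUnit (gl F ω (sylEl d))).ne_zero (by rw [hx, zero_smul])
    have hc := of_all check_syl_scal hd
    simp only [Bool.and_eq_true, Bool.or_eq_true, Nat.blt_eq] at hc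
    obtain ⟨hlt, hc⟩ := hc
    rcases hc with hc | hc
    · exact hne (beq_eq hc)
    have key : ∀ c ∈ [1, 2, 3], el F ω (c.testBit 0) (c.testBit 1) = x → False := by
      intro c hc' hxc
      have h1 : (scal c) < 2 ^ 162 := by
        have : ∀ c ∈ [1, 2, 3], scal c < 2 ^ 162 := by decide +kernel
        exact this c hc'
      have he : dec F ω (sylEl d) = dec F ω (scal c) := by
        rewrite [(gl_coe hf hm.1).symm.trans hx]
        unfold scal
        rewrite [dec_diag, Matrix.smul_one_eq_diagonal]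
        refine congrArg _ ?_
        funext z
        have h3 : ∀ c ∈ [1, 2, 3], ∀ i < 9,
            (cond (Nat.beq c 1) 87381 (cond (Nat.beq c 2) 174762 262143)).testBit (2 * i) = c.testBit 0 ∧
            (cond (Nat.beq c 1) 87381 (cond (Nat.beq c 2) 174762 262143)).testBit (2 * i + 1) =
              c.testBit 1 := by decide
        rw [vdec, ent, (h3 c hc' _ (ix_lt z)).1, (h3 c hc' _ (ix_lt z)).2, hxc]
      have := code_eq_of_dec hf.two hf.omega hlt h1 he
      have h4 := List.all_eq_true.1 hc c hc'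
      rw [this, Nat.beq_refl] at h4
      exact absurd h4 (by decide)
    rcases four_elements hF hf x with e | e | e | e
    · exact hx0 e
    · exact key 1 (by simp) (by simp [el, bits, e])
    · exact key 2 (by simp) (by simp [el, bits, e])
    · exact key 3 (by simp) (by simp [el, bits, e, add_comm])
  · intro d hd
    have hlt : sylData.xc.get d < 128 := by
      have : ∀ d < 128, sylData.xc.get d < 128 := by decide +kernel
      exact this d hd
    exact qEl_conj hf (x_mem hf) (mem_syl hf hd) (mem_syl hf hlt) (beq_eq (of_all check_syl_x hd))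
  · show qEl F ω xEl = _
    rw [List.prod_cons, List.prod_cons, List.prod_nil, mul_one]
    exact (qEl_mul hf (g2 0 (by norm_num)) (g2 1 (by norm_num))).2
  · intro y hy
    simp only [List.mem_cons, List.not_mem_nil, or_false] at hy
    have key : ∀ k < 2, (qEl F ω (yEl k)) ^ 2 ^ 7 = 1 := by
      intro k hk
      have h := of_all check_syl_y hk
      simp only [Bool.and_eq_true] at h
      have e := beq_eq h.1
      obtain ⟨m2, e2⟩ := qEl_mul hf (g2 k hk) (g2 k hk)
      obtain ⟨m4, e4⟩ := qEl_mul hf m2 m2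
      obtain ⟨-, e8⟩ := qEl_mul hf m4 m4
      have h8 : (qEl F ω (yEl k)) ^ 8 = 1 := by
        rw [← (qEl_one hf).2, ← e, e8, e4, e2, ← pow_two, ← pow_two, ← pow_two, ← pow_mul, ← pow_mul]
      rw [show (2 : ℕ) ^ 7 = 8 * 16 by norm_num, pow_mul, h8, one_pow]
    rcases hy with rfl | rfl
    · exact key 0 (by norm_num)
    · exact key 1 (by norm_num)
  · intro y hy r hr hR
    simp only [List.mem_cons, List.not_mem_nil, or_false] at hy
    have key : ∀ k < 2, ∃ r' < 2 ^ sylData.m, TableSylow.inR sylData r' = true ∧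
        qEl F ω (yEl k) * qEl F ω (sylEl r) * (qEl F ω (yEl k))⁻¹ = qEl F ω (sylEl r') := by
      intro k hk
      have h := of_all check_syl_y hk
      simp only [Bool.and_eq_true] at h
      have h' := of_all h.2 (show r < 128 from hr)
      simp only [Bool.or_eq_true, Bool.not_eq_true', Bool.and_eq_true, Nat.blt_eq] at h'
      obtain ⟨⟨h1, h2⟩, h3⟩ := h'.resolve_left (by rw [hR]; decide)
      exact ⟨_, h1, h2, qEl_conj hf (g2 k hk) (mem_syl hf hr) (mem_syl hf h1) (beq_eq h3)⟩
    rcases hy with rfl | rfl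
    · exact key 0 (by norm_num)
    · exact key 1 (by norm_num)
  · intro g e d hmem
    have h := List.all_eq_true.1 check_syl_moves _ hmem
    simp only [moveOK, Bool.and_eq_true, Nat.blt_eq] at h
    obtain ⟨⟨⟨hg, he⟩, hd⟩, h'⟩ := h
    exact qEl_conj hf (g3 g hg) (mem_syl hf he) (mem_syl hf hd) (beq_eq h')

/-- The 2-fusion system of the central quotient is simple. -/
theorem fusion_simple [Fintype F] (hF : Fintype.card F = 4) {G : Type*} [Group G] [Finite G]
    (e : G ≃* QQ F ω) (S : Sylow 2 G) :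
    (groupFusionSystem (S : Subgroup G)).IsSimple 2 := by
  haveI : Fact (Nat.Prime 2) := ⟨Nat.prime_two⟩
  have H := syl_facts hf hF
  have hc := TableSylow.sylow_card H
  have hq : Nat.card (QQ F ω) = 50232960 := by
    have h := Subgroup.card_eq_card_quotient_mul_card_subgroup (Subgroup.center (GG F ω))
    rw [card_GG hf, card_center hf hF] at h
    have h' : Nat.card (QQ F ω) * 3 = 150698880 := h.symm
    omega
  have hcard : Nat.card (TableSylow.sylow H) = 128 := by rw [hc]; rfl
  have hidx : ¬ 2 ∣ (TableSylow.sylow H).index := by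
    have hm := Subgroup.card_mul_index (TableSylow.sylow H)
    rw [hcard, hq] at hm
    omega
  have hmap : Nat.card ((TableSylow.sylow H).map e.symm.toMonoidHom) = 128 := by
    rw [Subgroup.card_map_of_injective e.symm.injective]
    exact hcard
  refine group_isSimple ((TableSylow.sylow H).map e.symm.toMonoidHom)
    (IsPGroup.of_card (n := 7) hmap) ?_ ?_
    ((TableSylow.noStronglyClosed H).map e.symm)
    ((TableSylow.normalizerGenerated H hidx).map e.symm) S
  · have hm := Subgroup.card_mul_index ((TableSylow.sylow H).map e.symm.toMonoidHom)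
    rw [hmap, Nat.card_congr e.toEquiv, hq] at hm
    omega
  · intro h
    rw [h, Subgroup.card_bot] at hmap
    omega

end CfsgLib.Janko3
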