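import Cfsg.Agent.Lib.Janko3.SL2SixteenData
import Cfsg.Agent.Lib.Janko3.SL2SixteenField
import Cfsg.Agent.Lib.Janko3.LSixteenChecks
import Cfsg.Agent.Lib.KnownA.JankoThreeSchur.Check

/-!
Kernel evaluation for the special linear group of degree two over 16 elements inside the third
Janko group.
-/

set_option autoImplicit false
set_option maxRecDepth 100000
set_option maxHeartbeats 0
set_option Elab.async false

namespace CfsgLib.Janko3SL

open CfsgLib.Janko3 (mul one scal tabL)
open CfsgLib.KnownA.JankoThreeSchur (prodC scalEq)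
open CfsgLib.InvChar.Coset (force force_eq)

/-- An entry of a table in blocks. -/
def ent64 (T : List (List ℕ)) (j : ℕ) : ℕ := (T.getD (j / 64) []).getD (j % 64) 0

/-- The matrix code of an index. -/
def sl (i : ℕ) : ℕ := ent64 slTab i

/-- The code of an index. -/
def qc (i : ℕ) : ℕ := ent64 codeTab i

/-- The index after a step. -/
def nx (i k : ℕ) : ℕ := cond (Nat.beq k 0) (ent64 stepTab i % 4096) (ent64 stepTab i / 4096)

/-- The matrix codes of the two generators. -/
def sGen (k : ℕ) : ℕ := cond (Nat.beq k 0) 4113 37122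

/-- The codes of the two generators. -/
noncomputable def qGen (k : ℕ) : ℕ :=
  cond (Nat.beq k 0) (prodC tabL.gens [0, 6, 3, 6, 0]) (mul (scal 2) (prodC tabL.gens [0, 2, 5, 6, 0, 5, 4]))

/-- The involution outside. -/
def sig : ℕ := tabL.gen 5

/-- The key of a matrix code. -/
def slKey (c : ℕ) : ℕ :=
  cond (Nat.beq (c % 16) 0) (c / 16 % 16 * 16 + c / 4096 % 16)
    (c % 16 * 256 + c / 16 % 16 * 16 + c / 256 % 16)

/-- The steps agree. -/
noncomputable def stepOK : Bool :=
  force (qGen 0) fun a => force (qGen 1) fun b => (List.range 4080).all fun i =>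
    Nat.blt (nx i 0) 4080 && Nat.blt (nx i 1) 4080 &&
      Nat.beq (slMul (sl i) (sGen 0)) (sl (nx i 0)) && Nat.beq (slMul (sl i) (sGen 1)) (sl (nx i 1)) &&
      Nat.beq (mul (qc i) a) (qc (nx i 0)) && Nat.beq (mul (qc i) b) (qc (nx i 1))

/-- The tree, the keys and the trivial kernel. -/
noncomputable def treeOK : Bool :=
  Nat.beq (sl 0) 4097 && Nat.beq (qc 0) one && (List.range 4080).all fun i =>
    Nat.beq (ent64 posTab (slKey (sl i))) i && Nat.blt (qc i) (2 ^ 162) &&
      Nat.beq (fm (sl i % 16) (sl i / 4096 % 16) ^^^ fm (sl i / 16 % 16) (sl i / 256 % 16)) 1 &&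
      (Nat.beq i 0 || (Nat.blt (ent64 parTab i / 2) i &&
        Nat.beq (nx (ent64 parTab i / 2) (ent64 parTab i % 2)) i && !scalEq (qc i) one))

/-- Every possible key is reached. -/
noncomputable def keyOK : Bool :=
  (List.range 4096).all fun k => force (sl (ent64 posTab k)) fun c =>
    Nat.blt (ent64 posTab k) 4080 &&
      bif Nat.blt k 256 then
        Nat.beq (k / 16) 0 || (Nat.beq (c % 16) 0 && Nat.beq (c / 16 % 16) (k / 16) &&
          Nat.beq (c / 4096 % 16) (k % 16))
      else
        Nat.beq (c % 16) (k / 256) && Nat.beq (c / 16 % 16) (k / 16 % 16) &&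
          Nat.beq (c / 256 % 16) (k % 16)

/-- The involution outside normalizes. -/
noncomputable def sigOK : Bool :=
  force (mul (scal 2) sig) fun s2 => force (mul (scal 3) sig) fun s3 =>
    Nat.beq (mul sig sig) one && Nat.blt sig (2 ^ 162) &&
      Nat.beq (mul (mul sig (qGen 0)) sig) (qc 1137) && Nat.beq (mul (mul sig (qGen 1)) sig) (qc 701) &&
      ((List.range 4080).all fun i => force (qc i) fun c =>
        !(Nat.beq sig c || Nat.beq s2 c || Nat.beq s3 c))

theorem check_step : stepOK = true := by decide +kernel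

theorem check_tree : treeOK = true := by decide +kernel

theorem check_key : keyOK = true := by decide +kernel

theorem check_sig : sigOK = true := by decide +kernel

end CfsgLib.Janko3SL
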