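import Cfsg.Agent.Lib.Janko3Out.Reps

/-!
The normalizers of the Sylow subgroups of orders 19 and 17 in the third Janko group.
-/

set_option autoImplicit false
set_option linter.unusedSectionVars false
set_option maxRecDepth 100000

namespace CfsgLib.Janko3Odd

open Cfsg.Spor Matrix Polynomial
open CfsgLib.Janko3
open CfsgLib.Janko3Out (gens gens_mem word_spec trc ent_trc one_lt dec_apply)
open CfsgLib.KnownA.JankoThreeSchur (prodC scalEq scalEq_iff mul_lt)

/-- A matrix commuting with one that has a cyclic row vector is a polynomial in it. -/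
theorem exists_poly {n K : Type*} [Fintype n] [DecidableEq n] [Field K] (A g : Matrix n n K)
    (hc : Commute A g) (z0 : n) (e : n → ℕ)
    (hM : IsUnit (Matrix.of fun z w => (A ^ e z) z0 w)) : ∃ p : K[X], g = aeval A p := by
  obtain ⟨u, hu⟩ := hM
  set c : n → K := g z0 ᵥ* (↑u⁻¹ : Matrix n n K) with hc'
  refine ⟨∑ z, C (c z) * X ^ e z, ?_⟩
  set P := aeval A (∑ z, C (c z) * X ^ e z) with hP
  have hP0 : P z0 = g z0 := by
    have h1 : c ᵥ* (u : Matrix n n K) = g z0 := by
      rw [hc', Matrix.vecMul_vecMul, Units.inv_mul, Matrix.vecMul_one]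
    rw [← h1]
    funext w
    simp [hP, Matrix.sum_apply, ← Algebra.smul_def, Matrix.vecMul, dotProduct, hu]
  have hPc : Commute A P := by
    have h := (Polynomial.commute_X (∑ z, C (c z) * X ^ e z)).map (aeval A)
    rwa [aeval_X] at h
  have key : ∀ B, Commute A B → ∀ z w,
      ((u : Matrix n n K) * B) z w = ∑ k, B z0 k * (A ^ e z) k w := fun B hB z w => by
    rw [← Matrix.mul_apply, ← (hB.pow_left (e z)).eq, Matrix.mul_apply, Matrix.mul_apply]
    simp [hu]
  refine u.isUnit.mul_left_cancel ?_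
  ext z w
  rw [key g hc, key P hPc, hP0]

theorem aeval_pow_card {K A : Type*} [Field K] [Fintype K] [Ring A] [Algebra K A] (a : A) (p : K[X])
    (n : ℕ) : aeval a p ^ (Fintype.card K ^ n) = aeval (a ^ (Fintype.card K ^ n)) p := by
  induction n with
  | zero => simp
  | succ n ih => rw [pow_succ, pow_mul, pow_mul, ih, ← map_pow, ← FiniteField.expand_card, expand_aeval]

/-- The word of an element of order 19. -/
def w19 : List ℕ := [0, 3, 5, 5, 1, 5, 6, 0, 3, 5, 5, 1, 5, 6, 0, 3, 5, 5, 1, 5, 6]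

/-- A word acting on it as the fourth power. -/
def a19 : List ℕ := [6, 4, 6, 5, 6, 4, 6, 5, 6, 3, 5, 3]

/-- The word of an element of order 17. -/
def w17 : List ℕ := [1, 5, 6]

/-- A word acting on it as the square. -/
def a17 : List ℕ := [5, 6, 6]

/-- Powers of a code. -/
def powC (M : ℕ) : ℕ → ℕ
  | 0 => one
  | n + 1 => mul (powC M n) M

/-- The first rows of the powers of a code. -/
def cycC (M : ℕ) : ℕ := pack fun i => row (powC M i) 0

/-- Inverse of the first rows of the powers, order 17. -/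
def inv17 : ℕ := 395036906111175944154171090876424920959607373825

/-- Inverse of the first rows of the powers, order 19. -/
def inv19 : ℕ := 1168138396508319649512564579250198551488395214849

/-- The checks at a prime. -/
noncomputable def okP (p k : ℕ) (w a : List ℕ) (minv : ℕ) : Bool :=
  CfsgLib.InvChar.Coset.force (prodC gens w) fun x =>
    Nat.beq (powC x p) one && !scalEq x one && Nat.beq (mul (cycC x) minv) one &&
      (CfsgLib.InvChar.Coset.force (prodC gens a) fun c => Nat.beq (mul c x) (mul (powC x k) c))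

theorem check19 : okP 19 4 w19 a19 inv19 = true := by decide +kernel

theorem check17 : okP 17 2 w17 a17 inv17 = true := by decide +kernel

theorem check17_trace : (Nat.beq (trc one (prodC gens w17)) 1 &&
    Nat.beq (trc one (powC (prodC gens w17) 3)) 0) = true := by decide +kernel

variable {F : Type*} [Field F] {ω : F} (hf : Field4 F ω)
include hf

theorem powC_spec {M : ℕ} (hM : Mem F ω M) (n : ℕ) : Mem F ω (powC M n) ∧ powC M n < 2 ^ 162 ∧
    qEl F ω (powC M n) = qEl F ω M ^ n ∧ dec F ω (powC M n) = dec F ω M ^ n := by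
  induction n with
  | zero => exact ⟨(qEl_one hf).1, one_lt, by simpa [powC] using (qEl_one hf).2,
      by simpa [powC] using dec_one⟩
  | succ n ih =>
    obtain ⟨m, l, e, d⟩ := ih
    obtain ⟨m', e'⟩ := qEl_mul hf m hM
    refine ⟨m', mul_lt _ _, by rw [powC, e', e, pow_succ], ?_⟩
    rw [powC, dec_mul hf.two hf.omega, d, pow_succ]

theorem dec_cycC {M : ℕ} (hM : Mem F ω M) :
    dec F ω (cycC M) = Matrix.of fun z w => (dec F ω M ^ ix z) (0 : F9) w := by
  funext z w
  rw [Matrix.of_apply, ← (powC_spec hf hM (ix z)).2.2.2]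
  simp only [dec, Matrix.of_apply, cycC]
  rw [row_pack (fun i => row (powC M i) 0) (fun i k hk => testBit_row_high hk) (ix_lt z)]
  rfl

variable [Fintype F] (hF : Fintype.card F = 4)
include hF

theorem cube {x : F} (hx : x ≠ 0) : x ^ 3 = 1 := by
  have := FiniteField.pow_card_sub_one_eq_one x hx
  rwa [hF] at this

/-- A conjugation in the quotient of elements of order prime to 3 lifts exactly. -/
theorem lift_conj {p : ℕ} (hp : p % 3 ≠ 0) {A B : ℕ} (hA : Mem F ω A) (hB : Mem F ω B)
    (hAp : dec F ω A ^ p = 1) (hBp : dec F ω B ^ p = 1) {v : QQ F ω}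
    (hv : v * qEl F ω A * v⁻¹ = qEl F ω B) :
    ∃ g : GG F ω, QuotientGroup.mk g = v ∧
      ((g : GL F9 F) : Matrix F9 F9 F) * dec F ω A = dec F ω B * ((g : GL F9 F) : Matrix F9 F9 F) := by
  obtain ⟨g, rfl⟩ := QuotientGroup.mk_surjective v
  refine ⟨g, rfl, ?_⟩
  rw [qEl, qEl, dif_pos hA.2, dif_pos hB.2, ← QuotientGroup.mk_inv, ← QuotientGroup.mk_mul,
    ← QuotientGroup.mk_mul, QuotientGroup.eq] at hv
  obtain ⟨d, hd⟩ : ∃ d : GG F ω,
      (g * ⟨gl F ω A, hA.2⟩ * g⁻¹)⁻¹ * ⟨gl F ω B, hB.2⟩ = d := ⟨_, rfl⟩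
  rw [hd] at hv
  obtain ⟨x, hx⟩ := center_scalar hf d.2 fun c hc =>
    (congrArg Subtype.val (Subgroup.mem_center_iff.1 hv ⟨c, hc⟩)).symm
  have e : gl F ω B = (g : GL F9 F) * gl F ω A * (g : GL F9 F)⁻¹ * (d : GL F9 F) := by
    rw [← hd]
    simp [mul_assoc]
  have e' : dec F ω B =
      x • (((g : GL F9 F) : Matrix F9 F9 F) * dec F ω A * (((g : GL F9 F)⁻¹ : GL F9 F) : Matrix F9 F9 F)) := by
    rw [← gl_coe hf hB.1, e, Units.val_mul, hx, mul_smul_comm, mul_one, Units.val_mul, Units.val_mul,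
      gl_coe hf hA.1]
  have hx0 : x ≠ 0 := by
    rintro rfl
    exact (Units.isUnit (d : GL F9 F)).ne_zero (by rw [hx, zero_smul])
  have hxp : x ^ p = 1 := by
    have h := hBp
    rw [e', _root_.smul_pow, Units.conj_pow, hAp, mul_one, Units.mul_inv] at h
    have h' := congrFun (congrFun h (0 : F9)) (0 : F9)
    simpa using h'
  have hx1 : x = 1 := by
    have h3 := cube hf hF hx0
    have hm : x ^ (p % 3) = 1 := by rw [← pow_eq_pow_mod p h3]; exact hxp
    rcases (show p % 3 = 1 ∨ p % 3 = 2 by omega) with h | h <;> rw [h] at hm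
    · simpa using hm
    · linear_combination (-1 : F) * x * hm + h3
  rw [e', hx1, one_smul, mul_assoc _ _ ((g : GL F9 F) : Matrix F9 F9 F), Units.inv_mul, mul_one]

/-- What the checks give at a prime. -/
theorem model {p k : ℕ} (hp : Nat.Prime p) (h3 : p % 3 ≠ 0) (n : ℕ) (hn : 4 ^ n % p = 1)
    {w a : List ℕ} {minv : ℕ} (h : okP p k w a minv = true) :
    orderOf (qEl F ω (prodC gens w)) = p ∧ dec F ω (prodC gens w) ^ p = 1 ∧
      (∀ v : QQ F ω, Commute v (qEl F ω (prodC gens w)) → v ^ (4 ^ n - 1) = 1) ∧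
      ∃ c : QQ F ω, c * qEl F ω (prodC gens w) * c⁻¹ = qEl F ω (prodC gens w) ^ k := by
  simp only [okP, CfsgLib.InvChar.Coset.force_eq, Bool.and_eq_true, Bool.not_eq_true'] at h
  obtain ⟨⟨⟨hpow, hne⟩, hcyc⟩, hconj⟩ := h
  obtain ⟨hX, hXl, -⟩ := word_spec hf (gens_mem hf) w
  obtain ⟨hC, hCl, -⟩ := word_spec hf (gens_mem hf) a
  set x := prodC gens w with hx
  set c := prodC gens a with hc
  have hXp : dec F ω x ^ p = 1 := by rw [← (powC_spec hf hX p).2.2.2, beq_eq hpow, dec_one]
  refine ⟨?_, hXp, ?_, ⟨qEl F ω c, ?_⟩⟩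
  · haveI := Fact.mk hp
    refine orderOf_eq_prime (by rw [← (powC_spec hf hX p).2.2.1, beq_eq hpow, (qEl_one hf).2])
      fun e => ?_
    rw [(scalEq_iff hf hF hX (qEl_one hf).1 hXl one_lt).2 (e.trans (qEl_one hf).2.symm)] at hne
    exact Bool.noConfusion hne
  · intro v hv
    obtain ⟨g, rfl, hg⟩ := lift_conj hf hF h3 hX hX hXp hXp (v := v)
      (by rw [hv.eq, mul_inv_cancel_right])
    have hM : IsUnit (Matrix.of fun z w => (dec F ω x ^ ix z) (0 : F9) w) := by
      rw [← dec_cycC hf hX]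
      exact IsUnit.of_mul_eq_one (dec F ω minv)
        (by rw [← dec_mul hf.two hf.omega, beq_eq hcyc, dec_one])
    obtain ⟨P, hP⟩ := exists_poly _ _ (show Commute (dec F ω x) _ from hg.symm) (0 : F9) ix hM
    have hq : dec F ω x ^ (4 ^ n) = dec F ω x := by
      rw [pow_eq_pow_mod _ hXp, hn, pow_one]
    have hg4 : (g : GL F9 F) ^ (4 ^ n) = g := by
      refine Units.ext ?_
      rw [Units.val_pow_eq_pow_val, hP, ← hF, aeval_pow_card, hF, hq]
    have h1 : (g : GL F9 F) ^ (4 ^ n - 1) = 1 := by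
      have : (g : GL F9 F) ^ (4 ^ n - 1) * g = g := by
        rw [← pow_succ, Nat.sub_add_cancel (Nat.one_le_pow n 4 (by norm_num))]
        exact hg4
      exact mul_eq_right.1 this
    rw [← QuotientGroup.mk_pow, show g ^ (4 ^ n - 1) = 1 from Subtype.ext (by simpa using h1),
      QuotientGroup.mk_one]
  · rw [← (powC_spec hf hX k).2.2.1]
    exact qEl_conj hf hC hX (powC_spec hf hX k).1 (beq_eq hconj)

/-- The element of order 17 is not conjugate to its cube. -/
theorem not_cube (v : QQ F ω) :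
    v * qEl F ω (prodC gens w17) * v⁻¹ ≠ qEl F ω (prodC gens w17) ^ 3 := by
  obtain ⟨-, hXp, -, -⟩ := model hf hF (p := 17) (by norm_num) (by norm_num) 4 (by norm_num) check17
  obtain ⟨hX, -, -⟩ := word_spec hf (gens_mem hf) w17
  intro e
  obtain ⟨hY, -, hYq, hYd⟩ := powC_spec hf hX 3
  rw [← hYq] at e
  obtain ⟨g, -, hg⟩ := lift_conj hf hF (p := 17) (by norm_num) hX hY hXp
    (by rw [hYd, ← pow_mul, mul_comm, pow_mul, hXp, one_pow]) e
  have ht : (dec F ω (prodC gens w17)).trace = (dec F ω (powC (prodC gens w17) 3)).trace := by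
    rw [← Matrix.trace_units_conj (g : GL F9 F), hg, mul_assoc, Units.mul_inv, mul_one]
  have hT : dec F ω one = (dec F ω one)ᵀ := by rw [dec_one, Matrix.transpose_one]
  have key : ∀ M : ℕ, (dec F ω M).trace = ent F ω (trc one M) 0 := fun M => by
    rw [ent_trc hf hT, dec_one, one_mul]
  have hc := check17_trace
  simp only [Bool.and_eq_true] at hc
  rw [key, key, beq_eq hc.1, beq_eq hc.2] at ht
  have h1 : Nat.testBit 1 0 = true ∧ Nat.testBit 1 1 = false := by decide
  simp [ent, el, h1.1, h1.2] at ht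

end CfsgLib.Janko3Odd
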