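import Cfsg.Agent.Lib.Janko3.Simple
import Cfsg.Prelude.Def_Classical

/-!
The triple cover of Janko's third group preserves the standard Hermitian form and has determinant
one.
-/

set_option autoImplicit false
set_option linter.unusedSectionVars false

namespace CfsgLib.Janko3

open Cfsg.Spor Matrix Subgroup

/-- The codes of the generators are conjugate-transposed by `star`. -/
theorem check_star_bits : ∀ c ∈ [hGen 0, hGen 1, hGen 2, hGen 3, hGen 4, hGen 5, gen1], ∀ z w : F9,
    bitsAt (star c) z w = ((bitsAt c w z).1 != (bitsAt c w z).2, (bitsAt c w z).2) := by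
  decide +kernel

theorem check_star_mul : ∀ c ∈ [hGen 0, hGen 1, hGen 2, hGen 3, hGen 4, hGen 5, gen1],
    mul c (star c) = one := by
  decide +kernel

variable {F : Type*} [Field F] {ω : F} (hf : Field4 F ω)
include hf

theorem el_conj (a b : Bool) : el F ω (a != b) b = el F ω a b ^ 2 := by
  have h2 := hf.two
  have hω := hf.omega
  cases a <;> cases b <;> simp [el]
  · linear_combination -hω + (1 + ω) * h2
  · linear_combination -hω

/-- A generator is unitary. -/
theorem dec_unitary {c : ℕ} (hc : c ∈ [hGen 0, hGen 1, hGen 2, hGen 3, hGen 4, hGen 5, gen1]) :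
    IsUnit (dec F ω c) ∧ (dec F ω c)ᵀ * (dec F ω c).map (fun x => x ^ 2) = 1 := by
  have h1 : dec F ω (star c) = ((dec F ω c).map (fun x => x ^ 2))ᵀ := by
    ext z w
    rw [Matrix.transpose_apply, Matrix.map_apply, dec_bits, dec_bits, check_star_bits c hc z w,
      el_conj hf]
  have h : dec F ω c * dec F ω (star c) = 1 := by
    rw [← dec_mul hf.two hf.omega, check_star_mul c hc, dec_one]
  refine ⟨IsUnit.of_mul_eq_one _ h, ?_⟩
  have h' := congrArg Matrix.transpose (mul_eq_one_comm.1 h)
  rwa [Matrix.transpose_mul, Matrix.transpose_one, h1, Matrix.transpose_transpose] at h'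

variable (F) in
omit hf in
/-- The invertible matrices preserving the standard Hermitian form. -/
def UU [Finite F] : Subgroup (GL F9 F) :=
  Cfsg.preserving (Units.coeHom (Matrix F9 F9 F)) fun u v => ∑ z, u z * v z ^ 2

theorem gl_mem_UU [Finite F] {c : ℕ}
    (hc : c ∈ [hGen 0, hGen 1, hGen 2, hGen 3, hGen 4, hGen 5, gen1]) : gl F ω c ∈ UU F := by
  obtain ⟨hu, h⟩ := dec_unitary hf hc
  haveI : CharP F 2 := CharTwo.of_one_ne_zero_of_two_eq_zero one_ne_zero hf.two
  intro u v
  have e : ((Units.coeHom (Matrix F9 F9 F)) (gl F ω c)) = dec F ω c := gl_coe hf hu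
  rw [e]
  have hs : (fun z => (dec F ω c *ᵥ v) z ^ 2) =
      (dec F ω c).map (fun x => x ^ 2) *ᵥ (fun z => v z ^ 2) := by
    funext z
    exact RingHom.map_mulVec (frobenius F 2) (dec F ω c) v z
  show (dec F ω c *ᵥ u) ⬝ᵥ (fun z => (dec F ω c *ᵥ v) z ^ 2) = u ⬝ᵥ (fun z => v z ^ 2)
  rw [hs, Matrix.dotProduct_mulVec, Matrix.vecMul_mulVec, h, Matrix.vecMul_one]

theorem GG_le_UU [Finite F] : GG F ω ≤ UU F := by
  refine (closure_le _).2 (Set.union_subset ?_ ?_)
  · refine (closure_le _).2 ?_
    rintro x ⟨g, hg, rfl⟩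
    refine gl_mem_UU hf ?_
    interval_cases g <;> simp
  · rintro x hx
    rw [Set.mem_singleton_iff] at hx
    subst hx
    exact gl_mem_UU hf (by simp)

theorem det_GG [Fintype F] (hF : Fintype.card F = 4) (g : GG F ω) :
    ((g : GL F9 F) : Matrix F9 F9 F).det = 1 := by
  let δ : GG F ω →* Fˣ := Matrix.GeneralLinearGroup.det.comp (GG F ω).subtype
  have hcard : Nat.card (GG F ω ⧸ center (GG F ω)) = 50232960 := by
    have := Subgroup.card_eq_card_quotient_mul_card_subgroup (center (GG F ω))
    rw [card_GG hf, card_center hf hF] at this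
    omega
  haveI := simple_quotient hf hF
  have hker : center (GG F ω) ≤ δ.ker := by
    intro z hz
    obtain ⟨x, hx⟩ := center_scalar hf z.2 fun g hg =>
      (congrArg Subtype.val (Subgroup.mem_center_iff.1 hz ⟨g, hg⟩)).symm
    have hx0 : x ≠ 0 := by
      rintro rfl
      exact (Units.isUnit z.1).ne_zero (by rw [hx, zero_smul])
    rw [MonoidHom.mem_ker]
    refine Units.ext ?_
    simp only [δ, MonoidHom.comp_apply, Subgroup.coe_subtype, Units.val_one,
      Matrix.GeneralLinearGroup.val_det_apply]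
    have h3 : x ^ 3 = 1 := by
      have := FiniteField.pow_card_sub_one_eq_one x hx0
      rwa [hF] at this
    rw [hx, Matrix.det_smul, Matrix.det_one, mul_one, show Fintype.card F9 = 3 * 3 by simp, pow_mul,
      h3, one_pow]
  let ψ := QuotientGroup.lift (center (GG F ω)) δ hker
  rcases ψ.normal_ker.eq_bot_or_eq_top with h | h
  · have h1 := Nat.card_le_card_of_injective ψ ((ψ.ker_eq_bot_iff).1 h)
    rw [hcard, Nat.card_units, Nat.card_eq_fintype_card (α := F), hF] at h1
    omega
  · have h1 : ψ (g : GG F ω ⧸ center (GG F ω)) = 1 := MonoidHom.mem_ker.1 (h ▸ mem_top _)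
    have h2 : δ g = 1 := by rwa [QuotientGroup.lift_mk] at h1
    have h3 := congrArg Units.val h2
    simpa only [δ, MonoidHom.comp_apply, Subgroup.coe_subtype, Units.val_one,
      Matrix.GeneralLinearGroup.val_det_apply] using h3

end CfsgLib.Janko3
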